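/-
Cyclic Sylow subgroups: either a normal `p`-complement or the Sylow subgroup lies in the commutator
subgroup.
-/
import Mathlib
import Cfsg.Agent.Lib.Transfer.NormalComplement
import Cfsg.Agent.Lib.Involutions.Fusion
import Cfsg.Agent.Lib.PCore.Basic
import Cfsg.Agent.Lib.Struct77.BGroup
import Cfsg.Prelude.Def_Solvable

set_option autoImplicit false

open Subgroup
open scoped Pointwise

namespace CfsgLib.GWCons.CyclicSylow

variable {G : Type*} [Group G] [Finite G] {p : ℕ} [Fact p.Prime]

/-- Subgroups of a cyclic group are determined by their order. -/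
theorem eq_of_card_eq {C : Type*} [Group C] [Finite C] [IsCyclic C] {A B : Subgroup C}
    (h : Nat.card A = Nat.card B) : A = B :=
  le_antisymm (CfsgLib.BGroup.le_of_card_dvd_of_cyclic h.dvd)
    (CfsgLib.BGroup.le_of_card_dvd_of_cyclic h.symm.dvd)

/-- An element normalising a cyclic Sylow subgroup and trivial modulo `p` on it centralises it. -/
theorem commute_of_sub_one (S : Sylow p G) {x : G} (hgen : (S : Subgroup G) = zpowers x)
    {g : G} (hg : g ∈ normalizer ((S : Subgroup G) : Set G)) {i : ℤ} (hi : g * x * g⁻¹ = x ^ i)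
    (hd : (p : ℤ) ∣ i - 1) : g * x = x * g := by
  obtain ⟨a, ha⟩ := IsPGroup.iff_card.1 S.2
  rw [hgen, Nat.card_zpowers] at ha
  have hpow : ∀ k : ℕ, g ^ k * x * (g ^ k)⁻¹ = x ^ (i ^ k) := by
    intro k
    induction k with
    | zero => simp
    | succ k ih =>
      calc g ^ (k + 1) * x * (g ^ (k + 1))⁻¹ = g * (g ^ k * x * (g ^ k)⁻¹) * g⁻¹ := by
            rw [pow_succ']; group
        _ = (g * x * g⁻¹) ^ (i ^ k) := by rw [ih, conj_zpow]
        _ = x ^ (i ^ (k + 1)) := by rw [hi, ← zpow_mul, pow_succ']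
  have h1 : g ^ p ^ a * x * (g ^ p ^ a)⁻¹ = x := by
    rw [hpow]
    have h2 : ((orderOf x : ℕ) : ℤ) ∣ i ^ p ^ a - 1 := by
      have h3 := dvd_sub_pow_of_dvd_sub (a := i) (b := 1) hd a
      rw [one_pow] at h3
      rw [ha]
      push_cast
      exact (pow_dvd_pow _ (Nat.le_succ a)).trans h3
    conv_rhs => rw [← zpow_one x]
    rw [zpow_eq_zpow_iff_modEq, Int.modEq_comm, Int.modEq_iff_dvd]
    exact h2
  obtain ⟨e, m, hm, hem⟩ := Nat.exists_eq_pow_mul_and_not_dvd (orderOf_pos g).ne' p
    (Fact.out : p.Prime).ne_one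
  have hmem : g ^ m ∈ (S : Subgroup G) := by
    refine CfsgLib.Transfer.isPGroup_mem_of_mem_normalizer S (pow_mem hg m) e ?_
    rw [← pow_mul, mul_comm, ← hem, pow_orderOf_eq_one]
  rw [hgen] at hmem
  obtain ⟨j, hj⟩ := hmem
  have hco : Nat.gcd (p ^ a) m = 1 :=
    Nat.Coprime.pow_left a ((Fact.out : p.Prime).coprime_iff_not_dvd.2 hm)
  have hc1 : Commute (g ^ p ^ a) x := mul_inv_eq_iff_eq_mul.1 h1
  have hc2 : Commute (g ^ m) x := by rw [← hj]; exact Commute.zpow_self x j
  have hb := Nat.gcd_eq_gcd_ab (p ^ a) m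
  rw [hco] at hb
  have : g = (g ^ p ^ a) ^ Nat.gcdA (p ^ a) m * (g ^ m) ^ Nat.gcdB (p ^ a) m := by
    rw [← zpow_natCast g (p ^ a), ← zpow_natCast g m, ← zpow_mul, ← zpow_mul, ← zpow_add, ← hb,
      Nat.cast_one, zpow_one]
  rw [this]
  exact ((hc1.zpow_left _).mul_left (hc2.zpow_left _)).eq

/-- Burnside for cyclic Sylow subgroups. -/
theorem hasNormalPComplement_of_trivial (S : Sylow p G) {x : G} (hgen : (S : Subgroup G) = zpowers x)
    (h : ∀ g ∈ normalizer ((S : Subgroup G) : Set G), ∀ i : ℤ, g * x * g⁻¹ = x ^ i →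
      (p : ℤ) ∣ i - 1) : Cfsg.HasNormalPComplement p G := by
  refine CfsgLib.Transfer.hasNormalPComplement_of_normalizer_le S fun g hg => ?_
  have hx : x ∈ (S : Subgroup G) := hgen ▸ mem_zpowers x
  have h1 := (mem_set_normalizer_iff.1 hg x).1 hx
  rw [SetLike.mem_coe, hgen] at h1
  obtain ⟨i, hi⟩ := h1
  have hc : Commute g x := commute_of_sub_one S hgen hg hi.symm (h g hg i hi.symm)
  rw [mem_centralizer_iff]
  intro y hy
  rw [SetLike.mem_coe, hgen] at hy
  obtain ⟨k, rfl⟩ := hy
  exact (hc.zpow_right k).eq.symm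

/-- The dichotomy for cyclic Sylow subgroups. -/
theorem le_commutator (S : Sylow p G) (hS : IsCyclic (S : Subgroup G))
    (hn : ¬ Cfsg.HasNormalPComplement p G) : (S : Subgroup G) ≤ commutator G := by
  obtain ⟨⟨x, hx⟩, hgen'⟩ := IsCyclic.exists_generator (α := (S : Subgroup G))
  have hgen : (S : Subgroup G) = zpowers x := by
    refine le_antisymm (fun y hy => ?_) (zpowers_le.2 hx)
    obtain ⟨k, hk⟩ := hgen' ⟨y, hy⟩
    exact ⟨k, congrArg Subtype.val hk⟩
  by_contra hle
  refine hn (hasNormalPComplement_of_trivial S hgen fun g hg i hi => ?_)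
  by_contra hd
  apply hle
  have h1 : x ^ (i - 1) ∈ commutator G := by
    rw [zpow_sub_one, ← hi]
    exact commutator_mem_commutator (mem_top g) (mem_top x)
  obtain ⟨a, ha⟩ := IsPGroup.iff_card.1 S.2
  rw [hgen, Nat.card_zpowers] at ha
  have hp : Prime (p : ℤ) := Nat.prime_iff_prime_int.1 Fact.out
  obtain ⟨u, v, huv⟩ : IsCoprime (i - 1) ((p : ℤ) ^ a) :=
    ((hp.coprime_iff_not_dvd.2 hd).symm).pow_right
  have hx1 : x ^ ((p : ℤ) ^ a) = 1 := by
    rw [← Nat.cast_pow, zpow_natCast, ← ha, pow_orderOf_eq_one]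
  have : x ∈ commutator G := by
    rw [show x = x ^ (u * (i - 1) + v * (p : ℤ) ^ a) by rw [huv, zpow_one], zpow_add, mul_comm u,
      mul_comm v, zpow_mul, zpow_mul, hx1, one_zpow, mul_one]
    exact zpow_mem h1 u
  rw [hgen]
  exact zpowers_le.2 this

/-- If all elements are generated by `p`-elements then the cyclic Sylow dichotomy gives perfection. -/
theorem commutator_eq_top (hgen : closure {x : G | ∃ k : ℕ, orderOf x = p ^ k} = ⊤) (S : Sylow p G)
    (hS : IsCyclic (S : Subgroup G)) (hn : ¬ Cfsg.HasNormalPComplement p G) : commutator G = ⊤ := by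
  rw [eq_top_iff, ← hgen, closure_le]
  rintro x ⟨k, hk⟩
  obtain ⟨c, hc⟩ := CfsgLib.Involutions.exists_conj_le_sylow
    (IsPGroup.of_card (n := k) (by rw [Nat.card_zpowers, hk]) : IsPGroup p (zpowers x)) S
  have h1 := (inferInstance : (commutator G).Normal).conj_mem _
    (le_commutator S hS hn (hc x (mem_zpowers x))) c⁻¹
  simpa [mul_assoc] using h1

/-- A core-free group generated by `p`-elements with cyclic Sylow subgroup and no normal
`p`-complement is simple. -/
theorem isSimpleGroup_of_core (hgen : closure {x : G | ∃ k : ℕ, orderOf x = p ^ k} = ⊤)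
    (S : Sylow p G) (hS : IsCyclic (S : Subgroup G)) (hn : ¬ Cfsg.HasNormalPComplement p G)
    (hO : Cfsg.pPrimeCore p G = ⊥) : IsSimpleGroup G := by
  haveI : Nontrivial G := by
    by_contra h
    rw [not_nontrivial_iff_subsingleton] at h
    exact hn ⟨S, ⊥, inferInstance, by
      rw [show (S : Subgroup G) = ⊤ from Subsingleton.elim _ _]; exact isComplement'_bot_top⟩
  refine ⟨fun M hM => or_iff_not_imp_left.2 fun hM1 => ?_⟩
  haveI := hM
  have hpM : p ∣ Nat.card M := by
    by_contra h
    exact hM1 (eq_bot_iff.2 (hO ▸ CfsgLib.PCore.le_pPrimeCore_of_not_dvd hM h))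
  by_cases hMn : Cfsg.HasNormalPComplement p M
  · -- then `M` is a `p`-group and `G` centralises its part of order `p`
    exfalso
    apply hn
    haveI := CfsgLib.Transfer.pResidual_normal (G := M) (p := p)
    have hres : Cfsg.pResidual p M = ⊥ := by
      rw [eq_bot_iff, ← CfsgLib.PCore.pPrimeCore_eq_bot_of_normal M hO]
      exact CfsgLib.PCore.le_pPrimeCore_of_not_dvd inferInstance
        (CfsgLib.Transfer.hasNormalPComplement_iff.1 hMn)
    have hMp : IsPGroup p M := fun y => by
      obtain ⟨i, hi⟩ := CfsgLib.Transfer.exists_pow_mem_pResidual (p := p) y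
      rw [hres, mem_bot] at hi
      exact ⟨i, hi⟩
    have hMS : M ≤ (S : Subgroup G) := hMp.le_sylow_of_normal S
    obtain ⟨⟨x, hx⟩, hgen'⟩ := IsCyclic.exists_generator (α := (S : Subgroup G))
    have hSgen : (S : Subgroup G) = zpowers x := by
      refine le_antisymm (fun y hy => ?_) (zpowers_le.2 hx)
      obtain ⟨k, hk⟩ := hgen' ⟨y, hy⟩
      exact ⟨k, congrArg Subtype.val hk⟩
    obtain ⟨⟨t, htM⟩, ht⟩ := exists_prime_orderOf_dvd_card' p hpM
    rw [Subgroup.orderOf_mk] at ht
    -- conjugates of `t` are powers of `t`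
    have hT : (zpowers t).Normal := by
      haveI : IsCyclic M := isCyclic_of_injective _ (Subgroup.inclusion_injective hMS)
      haveI : ((zpowers t).subgroupOf M).Characteristic := by
        rw [characteristic_iff_map_eq]
        intro φ
        exact CfsgLib.GWCons.CyclicSylow.eq_of_card_eq (card_map_of_injective φ.injective)
      have h := (inferInstance : (((zpowers t).subgroupOf M).map M.subtype).Normal)
      rwa [subgroupOf_map_subtype, inf_eq_left.2 (zpowers_le.2 htM)] at h
    have hcent : ∀ g : G, g * t = t * g := by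
      intro g
      have hgC : g ∈ centralizer ({t} : Set G) := by
        have hle : closure {x : G | ∃ k : ℕ, orderOf x = p ^ k} ≤ centralizer ({t} : Set G) := by
          rw [closure_le]
          rintro y ⟨k, hk⟩
          obtain ⟨j, hj⟩ := hT.conj_mem t (mem_zpowers t) y
          replace hj : y * t * y⁻¹ = t ^ j := hj.symm
          have hpow : ∀ l : ℕ, y ^ l * t * (y ^ l)⁻¹ = t ^ (j ^ l) := by
            intro l
            induction l with
            | zero => simp
            | succ l ih =>
              calc y ^ (l + 1) * t * (y ^ (l + 1))⁻¹ = y * (y ^ l * t * (y ^ l)⁻¹) * y⁻¹ := by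
                    rw [pow_succ']; group
                _ = (y * t * y⁻¹) ^ (j ^ l) := by rw [ih, conj_zpow]
                _ = t ^ (j ^ (l + 1)) := by rw [hj, ← zpow_mul, pow_succ']
          have h1 := hpow (p ^ k)
          rw [← hk, pow_orderOf_eq_one, one_mul, inv_one, mul_one, hk] at h1
          conv_lhs at h1 => rw [← zpow_one t]
          rw [zpow_eq_zpow_iff_modEq, ht, ← ZMod.intCast_eq_intCast_iff] at h1
          push_cast at h1
          rw [ZMod.pow_card_pow] at h1
          show y ∈ centralizer ({t} : Set G)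
          rw [mem_centralizer_singleton_iff]
          have : t ^ j = t ^ (1 : ℤ) := by
            rw [zpow_eq_zpow_iff_modEq, ht, ← ZMod.intCast_eq_intCast_iff, ← h1, Int.cast_one]
          rw [this, zpow_one] at hj
          exact mul_inv_eq_iff_eq_mul.1 hj
        exact hle (hgen ▸ mem_top g)
      exact mem_centralizer_singleton_iff.1 hgC
    refine hasNormalPComplement_of_trivial S hSgen fun g _ i hi => ?_
    obtain ⟨j, hj⟩ : t ∈ zpowers x := hSgen ▸ hMS htM
    have h1 : g * t * g⁻¹ = t := by rw [hcent g, mul_inv_cancel_right]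
    replace hj : x ^ j = t := hj
    rw [← hj, ← conj_zpow, hi, ← zpow_mul, mul_comm, zpow_mul, hj] at h1
    have h2 : t ^ (i - 1) = 1 := by rw [zpow_sub_one, h1, mul_inv_cancel]
    rw [← orderOf_dvd_iff_zpow_eq_one, ht] at h2
    exact h2
  · -- `M` contains a Sylow subgroup
    haveI : Fact p.Prime := inferInstance
    obtain ⟨R⟩ : Nonempty (Sylow p M) := inferInstance
    obtain ⟨T, hT⟩ := (R.2.map M.subtype).exists_le_sylow
    set K := M ⊔ (T : Subgroup G) with hK
    have hTS : IsCyclic (T : Subgroup G) := isCyclic_of_surjective (Sylow.equiv S T).toMonoidHom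
      (Sylow.equiv S T).surjective
    let T' : Sylow p K := T.subtype le_sup_right
    have hT' : IsCyclic (T' : Subgroup K) := by
      haveI := hTS
      exact isCyclic_of_surjective (subgroupOfEquivOfLe (le_sup_right : (T : Subgroup G) ≤ K)).symm.toMonoidHom
        (subgroupOfEquivOfLe (le_sup_right : (T : Subgroup G) ≤ K)).symm.surjective
    have hKn : ¬ Cfsg.HasNormalPComplement p K := fun h =>
      hMn (CfsgLib.Transfer.hasNormalPComplement_of_injective (Subgroup.inclusion (le_sup_left : M ≤ K))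
        (Subgroup.inclusion_injective _) h)
    have hTM : (T : Subgroup G) ≤ M := by
      intro y hy
      have h1 := le_commutator T' hT' hKn (x := ⟨y, (le_sup_right : (T : Subgroup G) ≤ K) hy⟩) hy
      have h2 : (M.subgroupOf K) ≥ commutator K := by
        haveI : (M.subgroupOf K).Normal := inferInstance
        haveI := hTS
        let f : (T : Subgroup G) →* K ⧸ M.subgroupOf K :=
          (QuotientGroup.mk' _).comp (Subgroup.inclusion le_sup_right)
        have hf : Function.Surjective f := by
          intro q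
          obtain ⟨⟨z, hz⟩, rfl⟩ := QuotientGroup.mk'_surjective _ q
          have hz' : z ∈ ((M : Set G) * ((T : Subgroup G) : Set G)) := by
            rw [← normal_mul]; exact hz
          obtain ⟨m, hm, w, hw, rfl⟩ := hz'
          refine ⟨⟨w, hw⟩, ?_⟩
          show QuotientGroup.mk' (M.subgroupOf K) ⟨w, _⟩ = QuotientGroup.mk' (M.subgroupOf K) ⟨m * w, _⟩
          rw [QuotientGroup.mk'_eq_mk']
          refine ⟨⟨w⁻¹ * m * w, hz |> fun _ => ?_⟩, ?_, ?_⟩
          · exact mul_mem (mul_mem (inv_mem ((le_sup_right : (T : Subgroup G) ≤ K) hw))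
              ((le_sup_left : M ≤ K) hm)) ((le_sup_right : (T : Subgroup G) ≤ K) hw)
          · rw [mem_subgroupOf]
            simpa using hM.conj_mem m hm w⁻¹
          · exact Subtype.ext (by show w * (w⁻¹ * m * w) = m * w; group)
        haveI : IsCyclic (K ⧸ M.subgroupOf K) := isCyclic_of_surjective f hf
        let _ : CommGroup (K ⧸ M.subgroupOf K) := IsCyclic.commGroup
        have := Abelianization.commutator_subset_ker (QuotientGroup.mk' (M.subgroupOf K))
        rwa [QuotientGroup.ker_mk'] at this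
      exact mem_subgroupOf.1 (h2 h1)
    rw [eq_top_iff, ← hgen, closure_le]
    rintro y ⟨k, hk⟩
    obtain ⟨c, hc⟩ := CfsgLib.Involutions.exists_conj_le_sylow
      (IsPGroup.of_card (n := k) (by rw [Nat.card_zpowers, hk]) : IsPGroup p (zpowers y)) T
    have h1 := hM.conj_mem _ (hTM (hc y (mem_zpowers y))) c⁻¹
    simpa [mul_assoc] using h1

end CfsgLib.GWCons.CyclicSylow
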