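/-
Subgroups of dihedral 2-groups: noncyclic subgroups are dihedral and contain their centralisers,
and odd elements fixing the centre act trivially on normalised subgroups.
-/
import Mathlib
import Cfsg.Agent.Lib.PSL2.Recognition
import Cfsg.Agent.Lib.TwoGroups.DihedralFusion
import Cfsg.Agent.Lib.InvChar.SolvableTwo
import Cfsg.Agent.Lib.Involutions.Transfer

set_option autoImplicit false

open Subgroup DihedralGroup

namespace CfsgLib.GWCons.DihedralModel

variable {n : ℕ}

/-- The rotations. -/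
def rot (n : ℕ) : Subgroup (DihedralGroup n) := zpowers (r 1)

theorem mem_rot_iff {g : DihedralGroup n} : g ∈ rot n ↔ ∃ a : ZMod n, g = r a := by
  constructor
  · rintro ⟨k, hk⟩
    refine ⟨(k : ZMod n), ?_⟩
    rw [← hk]
    exact r_one_zpow k
  · rintro ⟨a, rfl⟩
    obtain ⟨k, rfl⟩ := ZMod.intCast_surjective a
    exact ⟨k, r_one_zpow k⟩

instance : IsCyclic (rot n) := Subgroup.isCyclic_zpowers _

theorem sr_not_mem_rot (i : ZMod n) : (sr i : DihedralGroup n) ∉ rot n := fun h => by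
  obtain ⟨a, ha⟩ := mem_rot_iff.1 h
  cases ha

theorem sq_of_not_mem_rot {g : DihedralGroup n} (hg : g ∉ rot n) : g * g = 1 := by
  rcases g with a | i
  · exact absurd (mem_rot_iff.2 ⟨a, rfl⟩) hg
  · rw [sr_mul_self]

theorem mul_mem_rot {g h : DihedralGroup n} (hg : g ∉ rot n) (hh : h ∉ rot n) : g * h ∈ rot n := by
  rcases g with a | i
  · exact absurd (mem_rot_iff.2 ⟨a, rfl⟩) hg
  rcases h with b | k
  · exact absurd (mem_rot_iff.2 ⟨b, rfl⟩) hh
  · exact mem_rot_iff.2 ⟨_, sr_mul_sr i k⟩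

theorem exists_two_pow_eq [NeZero n] (hD : IsPGroup 2 (DihedralGroup n)) : ∃ k : ℕ, n = 2 ^ k := by
  haveI : Fact (Nat.Prime 2) := ⟨Nat.prime_two⟩
  obtain ⟨k, hk⟩ := IsPGroup.iff_card.1 hD
  rw [DihedralGroup.nat_card] at hk
  obtain ⟨j, -, hj⟩ := (Nat.dvd_prime_pow Nat.prime_two).1 (⟨2, by rw [← hk, mul_comm]⟩ : n ∣ 2 ^ k)
  exact ⟨j, hj⟩

/-- Facts about a noncyclic subgroup: a reflection and the central rotation belong to it. -/
theorem noncyclic_facts [NeZero n] (hD : IsPGroup 2 (DihedralGroup n)) (hn : 2 ≤ n)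
    {R : Subgroup (DihedralGroup n)} (hR : ¬ IsCyclic R) :
    ∃ (i : ZMod n) (j : ℕ), n = 2 * j ∧ sr i ∈ R ∧ r (j : ZMod n) ∈ R := by
  obtain ⟨g, hgR, hg⟩ : ∃ g ∈ R, g ∉ rot n := by
    by_contra h
    push Not at h
    exact hR (isCyclic_of_injective (Subgroup.inclusion h) (Subgroup.inclusion_injective h))
  rcases g with a | i
  · exact absurd (mem_rot_iff.2 ⟨a, rfl⟩) hg
  obtain ⟨k, hk⟩ := exists_two_pow_eq hD
  obtain ⟨k, rfl⟩ : ∃ k', k = k' + 1 := ⟨k - 1, by
    rcases k with _ | k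
    · rw [hk] at hn; norm_num at hn
    · omega⟩
  refine ⟨i, 2 ^ k, by rw [hk, pow_succ'], hgR, ?_⟩
  haveI : Fact (Nat.Prime 2) := ⟨Nat.prime_two⟩
  have hne : R ⊓ rot n ≠ ⊥ := by
    intro h
    refine hR ?_
    have hle : R ≤ zpowers (sr i) := by
      intro x hx
      by_cases hxr : x ∈ rot n
      · have : x ∈ R ⊓ rot n := ⟨hx, hxr⟩
        rw [h, mem_bot] at this
        rw [this]; exact one_mem _
      · have h2 : x * sr i ∈ R ⊓ rot n := ⟨mul_mem hx hgR, mul_mem_rot hxr hg⟩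
        rw [h, mem_bot] at h2
        rw [mul_eq_one_iff_eq_inv.1 h2]
        exact inv_mem (mem_zpowers _)
    exact isCyclic_of_injective (Subgroup.inclusion hle) (Subgroup.inclusion_injective hle)
  obtain ⟨c, hcR, hcr, hc⟩ : ∃ c, c ∈ R ∧ c ∈ rot n ∧ orderOf c = 2 := by
    obtain ⟨c, hc⟩ : ∃ c : ↥(R ⊓ rot n), orderOf c = 2 := by
      refine exists_prime_orderOf_dvd_card' 2 ?_
      obtain ⟨e, he⟩ := IsPGroup.iff_card.1 (hD.to_subgroup (R ⊓ rot n))
      rcases e with _ | e
      · rw [pow_zero] at he; exact absurd (Subgroup.card_eq_one.1 he) hne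
      · rw [he]; exact dvd_pow_self 2 e.succ_ne_zero
    exact ⟨c, c.2.1, c.2.2, by rw [Subgroup.orderOf_coe]; exact hc⟩
  obtain ⟨a, rfl⟩ := mem_rot_iff.1 hcr
  have ha : a + a = 0 := by
    have h2 := pow_orderOf_eq_one (r a : DihedralGroup n)
    rw [hc, pow_two, r_mul_r, one_def, r.injEq] at h2
    exact h2
  rcases CfsgLib.TwoGroups.DihedralFusion.two_torsion (m := n) (j := 2 ^ k) (by rw [hk, pow_succ'])
    ha with rfl | rfl
  · rw [← one_def, orderOf_one] at hc; norm_num at hc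
  · exact hcR

/-- A noncyclic subgroup of a dihedral 2-group contains its centraliser. -/
theorem mem_of_centralizes [NeZero n] (hD : IsPGroup 2 (DihedralGroup n)) (hn : 2 ≤ n)
    {R : Subgroup (DihedralGroup n)} (hR : ¬ IsCyclic R) {g : DihedralGroup n}
    (hg : ∀ x ∈ R, g * x = x * g) : g ∈ R := by
  obtain ⟨i, j, hj, hi, hjR⟩ := noncyclic_facts hD hn hR
  have key : ∀ a : ZMod n, r a * sr i = sr i * r a → r a ∈ R := by
    intro a ha
    rw [r_mul_sr, sr_mul_r, sr.injEq] at ha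
    have : a + a = 0 := by linear_combination -ha
    rcases CfsgLib.TwoGroups.DihedralFusion.two_torsion (m := n) (j := j) hj this with rfl | rfl
    · rw [← one_def]; exact one_mem R
    · exact hjR
  rcases g with a | k
  · exact key a (hg _ hi)
  · have h1 : sr k * sr i * sr i = sr i * (sr k * sr i) := by
      rw [← mul_assoc, ← hg _ hi]
    rw [sr_mul_sr] at h1
    have h2 := key _ h1
    rw [← sr_mul_sr] at h2
    have h3 := mul_mem h2 hi
    rwa [mul_assoc, sr_mul_self, mul_one] at h3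

/-- A noncyclic subgroup of a dihedral 2-group is dihedral. -/
theorem nonempty_dihedral [NeZero n] (hD : IsPGroup 2 (DihedralGroup n)) (hn : 2 ≤ n)
    {R : Subgroup (DihedralGroup n)} (hR : ¬ IsCyclic R) :
    ∃ m : ℕ, 2 ≤ m ∧ Nonempty (R ≃* DihedralGroup m) := by
  obtain ⟨i, j, hj, hi, hjR⟩ := noncyclic_facts hD hn hR
  set C := (rot n).subgroupOf R with hC
  haveI : IsCyclic C :=
    isCyclic_of_injective (R.subtype.subgroupComap (rot n)) fun x y h => by
      have h' := congrArg Subtype.val h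
      exact Subtype.ext (Subtype.ext h')
  have hidx : C.index = 2 := by
    rw [Subgroup.index_eq_two_iff]
    refine ⟨⟨sr i, hi⟩, fun x => ?_⟩
    rw [hC, mem_subgroupOf, mem_subgroupOf]
    by_cases hx : (x : DihedralGroup n) ∈ rot n
    · refine Or.inr ⟨hx, fun h => sr_not_mem_rot i ?_⟩
      have := mul_mem (inv_mem hx) h
      rwa [Subgroup.coe_mul, inv_mul_cancel_left] at this
    · exact Or.inl ⟨mul_mem_rot hx (sr_not_mem_rot i), hx⟩
  have hout : ∀ g ∉ C, g * g = 1 := fun g hg =>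
    Subtype.ext (sq_of_not_mem_rot fun h => hg (mem_subgroupOf.2 h))
  obtain ⟨e⟩ := CfsgLib.PSL2.nonempty_mulEquiv_dihedral C hidx hout
  refine ⟨Nat.card C, ?_, ⟨e⟩⟩
  have hc1 : (⟨r (j : ZMod n), hjR⟩ : R) ∈ C := mem_subgroupOf.2 (mem_rot_iff.2 ⟨_, rfl⟩)
  have hne : (⟨r (j : ZMod n), hjR⟩ : R) ≠ 1 := by
    intro h
    have h' : (r (j : ZMod n) : DihedralGroup n) = r 0 := congrArg Subtype.val h
    rw [r.injEq] at h'
    exact CfsgLib.TwoGroups.DihedralFusion.j_ne_zero hj h'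
  haveI : Nontrivial C := ⟨⟨⟨_, hc1⟩, 1, fun h => hne (congrArg Subtype.val h)⟩⟩
  exact Finite.one_lt_card

/-- An elementary abelian subgroup has at most four elements. -/
theorem card_le_four [NeZero n] {W : Subgroup (DihedralGroup n)}
    (hc : ∀ x ∈ W, ∀ y ∈ W, x * y = y * x) (hs : ∀ x ∈ W, x ^ 2 = 1) : Nat.card W ≤ 4 := by
  by_contra h
  obtain ⟨i, hi⟩ := CfsgLib.TwoGroups.Dihedral.exists_sr_mem n (le_of_lt (not_le.1 h)) hs
  have hle : W ≤ centralizer ({sr i} : Set (DihedralGroup n)) := fun w hw =>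
    mem_centralizer_singleton_iff.2 (hc w hw _ hi)
  exact h ((card_le_of_le hle).trans (CfsgLib.TwoGroups.Dihedral.card_centralizer_sr_le n i))

theorem klein_key : ∀ w : DihedralGroup 2, w ≠ 1 → ∀ x y, x ≠ 1 → x ≠ w → y ≠ 1 → y ≠ w →
    x * x = 1 ∧ (x * y = 1 ∨ x * y = w) := by decide +kernel

/-- Conjugation-type data: an automorphism of a subgroup `Q` of odd order fixing the central
involution is trivial. -/
theorem commute_of_odd {G : Type*} [Group G] [Finite G] {T : Subgroup G}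
    (e : T ≃* DihedralGroup n) [NeZero n] (hT : IsPGroup 2 T) (hn : 2 ≤ n) {z : G} (hzT : z ∈ T)
    (hzc : z ∈ center G) (hz : orderOf z = 2) {Q : Subgroup G} (hQ : Q ≤ T) {g : G}
    (hgn : g ∈ normalizer (Q : Set G)) (hg : Odd (orderOf g)) : g ∈ centralizer (Q : Set G) := by
  have hD : IsPGroup 2 (DihedralGroup n) := hT.of_equiv e
  obtain ⟨k, hk⟩ := exists_two_pow_eq hD
  have hzD : ∀ x, e ⟨z, hzT⟩ * x = x * e ⟨z, hzT⟩ := by
    intro x
    obtain ⟨y, rfl⟩ := e.surjective x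
    rw [← map_mul, ← map_mul]
    exact congrArg e (Subtype.ext (Subgroup.mem_center_iff.1 hzc y).symm)
  have hzne : e ⟨z, hzT⟩ ≠ 1 := by
    intro h
    rw [EmbeddingLike.map_eq_one_iff, ← Subtype.coe_inj] at h
    have h' : z = 1 := h
    rw [h', orderOf_one] at hz
    norm_num at hz
  -- the index two subgroup
  classical
  let A : Subgroup (DihedralGroup n) :=
    if e ⟨z, hzT⟩ ∈ rot n then rot n else zpowers (e ⟨z, hzT⟩)
  obtain ⟨hA1, hA2, hA3⟩ : (∀ x y, x ∉ A → y ∉ A → x * y ∈ A) ∧ (∀ x ∉ A, x * x = 1) ∧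
      (e ⟨z, hzT⟩ ∈ A ∧ IsCyclic A) := by
    by_cases h : e ⟨z, hzT⟩ ∈ rot n
    · rw [show A = rot n from if_pos h]
      exact ⟨fun x y => mul_mem_rot, fun x => sq_of_not_mem_rot, h, Subgroup.isCyclic_zpowers _⟩
    · rw [show A = zpowers (e ⟨z, hzT⟩) from if_neg h]
      have h2 : n = 2 := by
        rcases hw : e ⟨z, hzT⟩ with a | i
        · exact absurd (mem_rot_iff.2 ⟨a, hw⟩) h
        · have := hzD (r 1)
          rw [hw, sr_mul_r, r_mul_sr, sr.injEq] at this
          have h20 : ((2 : ℕ) : ZMod n) = 0 := by push_cast; linear_combination this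
          exact le_antisymm (Nat.le_of_dvd two_pos ((ZMod.natCast_eq_zero_iff 2 n).1 h20)) hn
      subst h2
      have hz2 : e ⟨z, hzT⟩ * e ⟨z, hzT⟩ = 1 := sq_of_not_mem_rot h
      have key := klein_key
      have hmem : ∀ x : DihedralGroup 2, x ∈ zpowers (e ⟨z, hzT⟩) ↔ x = 1 ∨ x = e ⟨z, hzT⟩ := by
        intro x
        constructor
        · rintro ⟨i, rfl⟩
          rcases Int.even_or_odd i with ⟨j, rfl⟩ | ⟨j, rfl⟩
          · left
            show e ⟨z, hzT⟩ ^ (j + j) = 1
            rw [← two_mul, zpow_mul, zpow_two, hz2, one_zpow]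
          · right
            show e ⟨z, hzT⟩ ^ (2 * j + 1) = _
            rw [zpow_add, zpow_mul, zpow_two, hz2, one_zpow, one_mul, zpow_one]
        · rintro (rfl | rfl)
          · exact one_mem _
          · exact mem_zpowers _
      refine ⟨fun x y hx hy => ?_, fun x hx => ?_, mem_zpowers _, Subgroup.isCyclic_zpowers _⟩
      · rw [hmem] at hx hy ⊢
        exact (key _ hzne x y (fun e => hx (Or.inl e)) (fun e => hx (Or.inr e))
          (fun e => hy (Or.inl e)) (fun e => hy (Or.inr e))).2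
      · rw [hmem] at hx
        exact (key _ hzne x x (fun e => hx (Or.inl e)) (fun e => hx (Or.inr e))
          (fun e => hx (Or.inl e)) (fun e => hx (Or.inr e))).1
  let B : Subgroup G := (A.comap e.toMonoidHom).map T.subtype
  have hBle : B ≤ T := by rintro _ ⟨x, -, rfl⟩; exact x.2
  have hBmem : ∀ x (hx : x ∈ T), x ∈ B ↔ e ⟨x, hx⟩ ∈ A := by
    intro x hx
    constructor
    · rintro ⟨y, hy, rfl⟩; exact hy
    · exact fun h => ⟨⟨x, hx⟩, h, rfl⟩
  have hB1 : ∀ x ∈ T, ∀ y ∈ T, x ∉ B → y ∉ B → x * y ∈ B := by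
    intro x hx y hy h1 h2
    rw [hBmem x hx] at h1
    rw [hBmem y hy] at h2
    rw [hBmem _ (mul_mem hx hy)]
    exact (map_mul e ⟨x, hx⟩ ⟨y, hy⟩).symm ▸ hA1 _ _ h1 h2
  have hB2 : ∀ x ∈ T, x ∉ B → x * x = 1 := by
    intro x hx h1
    rw [hBmem x hx] at h1
    have := hA2 _ h1
    rw [← map_mul, EmbeddingLike.map_eq_one_iff] at this
    exact congrArg Subtype.val this
  have hzB : z ∈ B := (hBmem z hzT).2 hA3.1
  haveI : IsCyclic A := hA3.2
  have hBc : IsCyclic B :=
    isCyclic_of_injective ((e.toMonoidHom.comp (Subgroup.inclusion hBle)).codRestrict A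
      fun x => (hBmem _ _).1 x.2) fun x y h =>
      Subgroup.inclusion_injective hBle (e.injective (congrArg Subtype.val h))
  haveI := hBc
  haveI : IsCyclic ↥(Q ⊓ B) := isCyclic_of_injective _ (Subgroup.inclusion_injective inf_le_right)
  -- squares different from one generate the cyclic part
  have hfix : ∀ x ∈ Q ⊓ B, g * x = x * g := by
    by_cases hbig : ∃ b ∈ Q ⊓ B, b * b ≠ 1
    · obtain ⟨b, hb, hb2⟩ := hbig
      have hstab : ∀ x ∈ Q ⊓ B, g * x * g⁻¹ ∈ Q ⊓ B := by
        intro x hx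
        have hxQ : g * x * g⁻¹ ∈ Q := (mem_normalizer_iff.1 hgn x).1 hx.1
        by_cases hx2 : x * x = 1
        · have hbB : g * b * g⁻¹ ∈ B := by
            by_contra h
            have h2 := hB2 _ (hQ ((mem_normalizer_iff.1 hgn b).1 hb.1)) h
            rw [show g * b * g⁻¹ * (g * b * g⁻¹) = g * (b * b) * g⁻¹ by group] at h2
            exact hb2 (conj_eq_one_iff.1 h2)
          have hbxQ : b * x ∈ Q := mul_mem hb.1 hx.1
          have hbc : Commute b x := congrArg Subtype.val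
            (IsCyclic.commGroup.mul_comm (⟨b, hb.2⟩ : B) ⟨x, hx.2⟩)
          have hbxB : g * (b * x) * g⁻¹ ∈ B := by
            by_contra h
            have h2 := hB2 _ (hQ ((mem_normalizer_iff.1 hgn _).1 hbxQ)) h
            rw [show g * (b * x) * g⁻¹ * (g * (b * x) * g⁻¹) = g * ((b * x) * (b * x)) * g⁻¹ by group]
              at h2
            apply hb2
            have h3 := conj_eq_one_iff.1 h2
            rwa [← pow_two, hbc.mul_pow, pow_two, pow_two, hx2, mul_one] at h3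
          refine ⟨hxQ, ?_⟩
          have := mul_mem (inv_mem hbB) hbxB
          rwa [show (g * b * g⁻¹)⁻¹ * (g * (b * x) * g⁻¹) = g * x * g⁻¹ by group] at this
        · refine ⟨hxQ, by_contra fun h => hx2 ?_⟩
          have h2 := hB2 _ (hQ hxQ) h
          rw [show g * x * g⁻¹ * (g * x * g⁻¹) = g * (x * x) * g⁻¹ by group] at h2
          exact conj_eq_one_iff.1 h2
      intro x hx
      refine CfsgLib.InvChar.commute_of_odd_of_cyclic hg (Q ⊓ B) (hT.to_le (inf_le_left.trans hQ)) ?_ hx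
      exact mem_normalizer_fintype hstab
    · push Not at hbig
      intro x hx
      have hxz : x = 1 ∨ x = z := by
        by_cases h1 : x = 1
        · exact Or.inl h1
        · refine Or.inr ?_
          have hxo : orderOf x = 2 := orderOf_eq_prime (by rw [pow_two]; exact hbig x hx) h1
          exact congrArg Subtype.val (CfsgLib.Involutions.involution_unique_of_cyclic
            (a := (⟨x, hx.2⟩ : B)) (b := ⟨z, hzB⟩) (by rwa [Subgroup.orderOf_mk])
            (by rwa [Subgroup.orderOf_mk]))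
      rcases hxz with rfl | rfl
      · simp
      · exact Subgroup.mem_center_iff.1 hzc g
  rw [mem_centralizer_iff]
  intro y hy
  by_cases hyB : y ∈ B
  · exact (hfix y ⟨hy, hyB⟩).symm
  · have hyQ : g * y * g⁻¹ ∈ Q := (mem_normalizer_iff.1 hgn y).1 hy
    have hout : g * y * g⁻¹ ∉ B := by
      intro h
      refine hyB ?_
      have h1 := hfix _ ⟨hyQ, h⟩
      have h2 : g * y * g⁻¹ = y := by
        have := congrArg (fun w => g⁻¹ * w) h1
        simpa [mul_assoc] using this
      rwa [h2] at h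
    have hyi : y⁻¹ = y := inv_eq_of_mul_eq_one_right (hB2 y (hQ hy) hyB)
    have hr : y⁻¹ * (g * y * g⁻¹) ∈ Q ⊓ B := by
      rw [hyi]
      exact ⟨mul_mem hy hyQ, hB1 y (hQ hy) _ (hQ hyQ) hyB hout⟩
    obtain ⟨c, hc⟩ := hT ⟨_, hQ hr.1⟩
    exact (CfsgLib.InvChar.commute_of_odd_of_chain hg ⟨c, congrArg Subtype.val hc⟩ (hfix _ hr)
      (by group)).symm

end CfsgLib.GWCons.DihedralModel
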