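/-
Perfect groups of 2-rank one modulo their core, from the classification of perfect groups with
dihedral Sylow 2-subgroups (Gorenstein–Walter): SL₂(q) or a double cover of A₇.
-/
import Mathlib
import Cfsg.Prelude.Def_CaseTheorems
import Cfsg.Prelude.Def_Classification2
import Cfsg.Agent.S0219
import Cfsg.Agent.Lib.Involutions.BrauerSuzuki
import Cfsg.Agent.Lib.InvChar.SolvableTwo
import Cfsg.Agent.Lib.TwoGroups.OneInvolution
import Cfsg.Agent.Lib.Schur.Criteria
import Cfsg.Agent.Lib.SchurCover.Perfect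
import Cfsg.Agent.Lib.PSL2.Involution
import Cfsg.Agent.Lib.PSL2.Recognition
import Cfsg.Agent.Lib.Laws.Embed

set_option autoImplicit false

open Subgroup
open scoped commutatorElement

namespace CfsgLib.GWCons.RankOneCover

universe u

/-- The classification of perfect groups with dihedral Sylow 2-subgroups, as a hypothesis. -/
def DihedralClassification : Prop :=
  ∀ (X : Type u) [Group X] [Finite X] [Group.IsPerfect X] (S : Sylow 2 X) (n : ℕ), 2 ≤ n →
    Nonempty ((S : Subgroup X) ≃* DihedralGroup n) →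
    (∃ (F : Type) (_ : Field F) (_ : Fintype F), Odd (Fintype.card F) ∧ 3 < Fintype.card F ∧
        Nonempty (X ⧸ Cfsg.oddCore X ≃* Matrix.ProjectiveSpecialLinearGroup (Fin 2) F)) ∨
      Nonempty (X ⧸ Cfsg.oddCore X ≃* alternatingGroup (Fin 7))

variable {G : Type u} [Group G]

/-- In rank at most one, commuting involutions are equal. -/
theorem eq_of_rankLE [Finite G] (h : Cfsg.PRankLE 2 1 G) :
    ∀ s t : G, orderOf s = 2 → orderOf t = 2 → Commute s t → s = t := by
  intro s t hs ht hc
  by_contra hne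
  have hs2 := CfsgLib.Involutions.mul_self_eq_one hs
  have ht2 := CfsgLib.Involutions.mul_self_eq_one ht
  have hst : orderOf (s * t) = 2 := by
    refine CfsgLib.Involutions.orderOf_eq_two_iff_mul.mpr ⟨fun h1 => hne ?_, ?_⟩
    · exact (mul_eq_one_iff_eq_inv.mp h1).trans (CfsgLib.Involutions.inv_eq_self_of_involution ht)
    · calc s * t * (s * t) = s * (t * s) * t := by group
        _ = s * s * (t * t) := by rw [← hc.eq]; group
        _ = 1 := by rw [hs2, ht2, one_mul]
  set A := Subgroup.closure ({s, t} : Set G) with hA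
  have hgen : ∀ x ∈ ({s, t} : Set G), ∀ y ∈ ({s, t} : Set G), x * y = y * x := by
    rintro x (rfl | rfl) y (rfl | rfl)
    exacts [rfl, hc.eq, hc.eq.symm, rfl]
  have hAc : IsMulCommutative A := Subgroup.isMulCommutative_closure hgen
  have hexp : ∀ a ∈ A, a ^ 2 = 1 := by
    intro a ha
    induction ha using Subgroup.closure_induction with
    | mem x hx => rcases hx with rfl | rfl <;> rw [pow_two] <;> assumption
    | one => exact one_pow 2
    | mul x y hxm hym hx hy =>
      have hxy : Commute x y :=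
        congrArg Subtype.val (hAc.is_comm.comm (⟨x, hxm⟩ : A) ⟨y, hym⟩)
      rw [hxy.mul_pow, hx, hy, one_mul]
    | inv x _ hx => rw [inv_pow, hx, inv_one]
  have := h A hAc hexp
  rw [hA, CfsgLib.Involutions.card_closure_pair hs ht, hst] at this
  norm_num at this

/-- A perfect group has no subgroup of index two. -/
theorem index_ne_two [Group.IsPerfect G] (H : Subgroup G) : H.index ≠ 2 := by
  intro hi
  haveI := Subgroup.normal_of_index_eq_two hi
  haveI : Fact (Nat.Prime 2) := ⟨Nat.prime_two⟩
  have : IsCyclic (G ⧸ H) := isCyclic_of_prime_card (p := 2) hi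
  let _ : CommGroup (G ⧸ H) := IsCyclic.commGroup
  have h1 := CfsgLib.SchurCover.eq_one_of_perfect (inferInstance : Group.IsPerfect G)
    (QuotientGroup.mk' H)
  have h2 : H = ⊤ := by
    refine (Subgroup.eq_top_iff' H).2 fun g => ?_
    rw [← QuotientGroup.eq_one_iff]
    exact DFunLike.congr_fun h1 g
  rw [h2, Subgroup.index_top] at hi
  omega

/-- Modulo a central subgroup of order two a core-free group stays core-free. -/
theorem oddCore_quotient_center [Finite G] (hcard : Nat.card (center G) = 2)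
    (hO : ∀ N : Subgroup G, N.Normal → Odd (Nat.card N) → N = ⊥) :
    Cfsg.oddCore (G ⧸ center G) = ⊥ := by
  set O := Cfsg.oddCore (G ⧸ center G) with hOdef
  have hOn : O.Normal := by rw [hOdef]; infer_instance
  have hodd : Odd (Nat.card O) := by
    rw [← Nat.not_even_iff_odd, even_iff_two_dvd]
    exact CfsgLib.PCore.not_dvd_card_pPrimeCore
  set M := O.comap (QuotientGroup.mk' (center G)) with hM
  have hZM : center G ≤ M := fun z hz => by
    rw [hM, Subgroup.mem_comap, QuotientGroup.mk'_apply, (QuotientGroup.eq_one_iff z).2 hz]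
    exact one_mem O
  haveI : M.Normal := hOn.comap _
  have hMcard : Nat.card M = 2 * Nat.card O := by
    rw [hM, CfsgLib.PCore.card_comap_mk', hcard]
  set Z := (center G).subgroupOf M with hZ
  haveI : Z.Normal := by rw [hZ]; infer_instance
  have hZcard : Nat.card Z = 2 := by
    rw [hZ, Nat.card_congr (Subgroup.subgroupOfEquivOfLe hZM).toEquiv, hcard]
  have hZidx : Z.index = Nat.card O := by
    have := Z.card_mul_index
    rw [hZcard, hMcard] at this
    omega
  obtain ⟨K, hK⟩ := Subgroup.exists_right_complement'_of_coprime (N := Z)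
    (by rw [hZcard, hZidx]; exact Nat.coprime_two_left.2 hodd)
  have hKcard : Nat.card K = Nat.card O := by
    have := hK.card_mul_card
    rw [hZcard, hMcard] at this
    omega
  set L := K.map M.subtype with hL
  have hLcard : Nat.card L = Nat.card O := by rw [hL, Subgroup.card_subtype, hKcard]
  have hLn : L.Normal := by
    refine ⟨fun x hx g => ?_⟩
    obtain ⟨k, hk, rfl⟩ := hx
    have hkpow : (k : G) ^ Nat.card O = 1 := by
      have := Subgroup.orderOf_dvd_natCard L (Subgroup.mem_map_of_mem M.subtype hk)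
      rw [hLcard] at this
      exact orderOf_dvd_iff_pow_eq_one.1 this
    have hy : g * (k : G) * g⁻¹ ∈ M := Subgroup.Normal.conj_mem inferInstance _ k.2 g
    obtain ⟨⟨⟨z, hz⟩, ⟨l, hl⟩⟩, hzl⟩ := hK.2 ⟨_, hy⟩
    have hzl' : (z : G) * (l : G) = g * (k : G) * g⁻¹ := congrArg Subtype.val hzl
    have hzc : (z : G) ∈ center G := hz
    have hz2 : (z : G) ^ 2 = 1 := by
      have := pow_card_eq_one' (x := (⟨(z : G), hzc⟩ : center G))
      rw [hcard] at this
      exact congrArg Subtype.val this
    have hlpow : (l : G) ^ Nat.card O = 1 := by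
      have := Subgroup.orderOf_dvd_natCard L (Subgroup.mem_map_of_mem M.subtype hl)
      rw [hLcard] at this
      exact orderOf_dvd_iff_pow_eq_one.1 this
    have hpow : (z : G) ^ Nat.card O = 1 := by
      have h1 : (g * (k : G) * g⁻¹) ^ Nat.card O = 1 := by
        rw [conj_pow, hkpow]; group
      rw [← hzl', (show Commute (z : G) (l : G) from
        (Subgroup.mem_center_iff.1 hzc (l : G)).symm).mul_pow, hlpow, mul_one] at h1
      exact h1
    have hz1 : (z : G) = 1 := by
      have h1 := pow_gcd_eq_one.mpr ⟨hz2, hpow⟩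
      rwa [(Nat.coprime_two_left.2 hodd).gcd_eq_one, pow_one] at h1
    rw [hz1, one_mul] at hzl'
    exact ⟨l, hl, hzl'⟩
  have hL1 := hO L hLn (by rw [hLcard]; exact hodd)
  rw [hL1, Subgroup.card_bot] at hLcard
  exact Subgroup.eq_bot_of_card_eq _ hLcard.symm

/-- A quotient of a generalized quaternion Sylow subgroup by the central involution is dihedral. -/
theorem exists_dihedral [Finite G] (X : CfsgLib.Involutions.LargeQuat G)
    (hz : X.a ^ X.k ∈ center G) (hcard : Nat.card (center G) = 2) :
    ∃ T : Sylow 2 (G ⧸ center G), Nonempty ((T : Subgroup (G ⧸ center G)) ≃* DihedralGroup X.k) := by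
  set π := QuotientGroup.mk' (center G) with hπ
  set T := X.S.mapSurjective (QuotientGroup.mk'_surjective (center G)) with hT
  have hTmap : (T : Subgroup (G ⧸ center G)) = (X.S : Subgroup G).map π :=
    Sylow.coe_mapSurjective _ _
  have hzc : center G = zpowers (X.a ^ X.k) := by
    refine (Subgroup.eq_of_le_of_card_ge (Subgroup.zpowers_le.2 hz) ?_).symm
    rw [hcard, Nat.card_zpowers, X.z_order]
  have hzS : center G ≤ (X.S : Subgroup G) := by
    rw [hzc, Subgroup.zpowers_le]; exact pow_mem X.a_mem _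
  have hTcard : Nat.card (T : Subgroup (G ⧸ center G)) = 2 * X.k := by
    have h1 := CfsgLib.PCore.card_comap_mk' (center G) ((X.S : Subgroup G).map π)
    rw [hπ, QuotientGroup.comap_map_mk', sup_eq_right.2 hzS, X.card_S, hcard] at h1
    rw [hTmap, hπ]
    omega
  have haT : π X.a ∈ (T : Subgroup (G ⧸ center G)) := by
    rw [hTmap]; exact Subgroup.mem_map_of_mem π X.a_mem
  set c : (T : Subgroup (G ⧸ center G)) := ⟨π X.a, haT⟩ with hc
  have hcord : orderOf c = X.k := by
    have hiff : ∀ i : ℕ, c ^ i = 1 ↔ X.k ∣ i := by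
      intro i
      rw [Subtype.ext_iff, SubmonoidClass.coe_pow, OneMemClass.coe_one]
      show (π X.a) ^ i = 1 ↔ _
      rw [← map_pow, hπ, QuotientGroup.mk'_apply, QuotientGroup.eq_one_iff]
      constructor
      · intro h
        have h2 : X.a ^ (2 * i) = 1 := by
          rw [mul_comm, pow_mul]
          have := pow_card_eq_one' (x := (⟨X.a ^ i, h⟩ : center G))
          rw [hcard] at this
          exact congrArg Subtype.val this
        have := orderOf_dvd_of_pow_eq_one h2
        rw [X.a_order] at this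
        exact Nat.dvd_of_mul_dvd_mul_left two_pos this
      · rintro ⟨j, rfl⟩
        rw [pow_mul]
        exact pow_mem hz j
    exact Nat.dvd_antisymm (orderOf_dvd_of_pow_eq_one ((hiff _).2 dvd_rfl))
      ((hiff _).1 (pow_orderOf_eq_one c))
  set C := zpowers c with hC
  have hCcard : Nat.card C = X.k := by rw [hC, Nat.card_zpowers, hcord]
  have hidx : C.index = 2 := by
    have := C.card_mul_index
    rw [hCcard, hTcard, mul_comm 2] at this
    exact Nat.eq_of_mul_eq_mul_left X.k_pos this
  have hout : ∀ g ∉ C, g * g = 1 := by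
    rintro ⟨g, hg⟩ hgC
    obtain ⟨s, hs, rfl⟩ : ∃ s ∈ (X.S : Subgroup G), π s = g := by
      rw [hTmap] at hg; exact hg
    have hsA : s ∉ X.A := by
      rintro ⟨i, rfl⟩
      refine hgC ⟨i, Subtype.ext ?_⟩
      show ((c ^ i : (T : Subgroup (G ⧸ center G))) : G ⧸ center G) = π (X.a ^ i)
      rw [SubgroupClass.coe_zpow, map_zpow]
    refine Subtype.ext ?_
    show π s * π s = 1
    rw [← map_mul, X.sq_of_not_mem hs hsA, hπ, QuotientGroup.mk'_apply, QuotientGroup.eq_one_iff]
    exact hz
  have := CfsgLib.PSL2.nonempty_mulEquiv_dihedral C hidx hout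
  rw [hCcard] at this
  exact ⟨T, this⟩

/-- A group with generalized quaternion Sylow 2-subgroups has no 2-part in its multiplier. -/
theorem noMultiplierAt_two [Finite G] (X : CfsgLib.Involutions.LargeQuat G) :
    CfsgLib.Schur.NoMultiplierAt 2 G := by
  refine CfsgLib.Schur.noMultiplierAt_of_metacyclic X.S X.a X.x (-1) (X.k : ℤ) X.a_mem X.x_mem
    ?_ ?_ ?_ ?_
  · intro s hs
    rcases X.cases s hs with ⟨i, hi⟩ | ⟨i, hi⟩
    · exact ⟨i, 0, by rw [zpow_zero, mul_one]; exact hi.symm⟩
    · refine ⟨-i, 1, ?_⟩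
      have hs' : s = X.x * X.a ^ i := by
        rw [show X.a ^ i = X.x⁻¹ * s from hi, mul_inv_cancel_left]
      rw [hs', zpow_one, ← X.x_conj_zpow i]
      group
  · rw [zpow_neg_one]; exact X.x_inv
  · rw [zpow_natCast, pow_two]; exact X.x_sq
  · intro j hj m _ hmt _
    rw [X.a_order] at hj
    push_cast at hj
    have hkj : (X.k : ℤ) ∣ j := by
      have h1 : (2 * (X.k : ℤ)) ∣ 2 * j := by
        rw [show 2 * j = -((-1 - 1) * j) by ring, dvd_neg]; exact hj
      exact Int.dvd_of_mul_dvd_mul_left two_ne_zero h1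
    exact hmt.trans hkj

theorem ker_equiv_comp {A B C : Type*} [Group A] [Group B] [Group C] (f : A →* B) (e : B ≃* C) :
    (e.toMonoidHom.comp f).ker = f.ker := by
  ext x
  simp [MonoidHom.mem_ker]

/-- A perfect double cover of `Q` without 2-part in its multiplier is isomorphic to every
perfect double cover of `Q`. -/
theorem nonempty_mulEquiv_cover {H Q : Type u} {K : Type} [Group H] [Group Q] [Group K]
    [Finite H] [Finite K] [Group.IsPerfect H] [Group.IsPerfect K] (π : H →* Q) (ξ : K →* Q)
    (hπ : Function.Surjective π) (hξ : Function.Surjective ξ)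
    (hξc : ξ.ker ≤ center K) (hξ2 : Nat.card ξ.ker = 2) (hπ2 : Nat.card π.ker = 2)
    (hN : CfsgLib.Schur.NoMultiplierAt 2 H) : Nonempty (H ≃* K) := by
  set E := CfsgLib.SchurCover.fibre π ξ
  set f := CfsgLib.SchurCover.fibreFst π ξ
  have hf : Function.Surjective f := CfsgLib.SchurCover.fibreFst_surjective π hξ
  have hfc : f.ker ≤ center E := CfsgLib.SchurCover.ker_fibreFst_le_center π hξc
  set D : Subgroup E := commutator E with hD
  have hfD : ∀ y : H, ∃ d ∈ D, f d = y := by
    intro y
    have : y ∈ D.map f := by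
      rw [hD, CfsgLib.SchurCover.map_commutator_eq f hf, (Group.isPerfect_def).1 inferInstance]
      exact mem_top y
    exact this
  have hDD : D ≤ ⁅D, D⁆ := by
    conv_lhs => rw [hD, commutator_def]
    rw [Subgroup.commutator_le]
    intro p _ q _
    obtain ⟨p', hp', hpp⟩ := hfD (f p)
    obtain ⟨q', hq', hqq⟩ := hfD (f q)
    rw [CfsgLib.Schur.commutator_congr hfc hpp.symm hqq.symm]
    exact Subgroup.commutator_mem_commutator hp' hq'
  set σ : D →* H := f.comp D.subtype with hσ
  have hstem : Cfsg.IsStemExtension σ := by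
    refine ⟨fun y => ?_, fun x hx => ?_, fun x _ => ?_⟩
    · obtain ⟨d, hd, rfl⟩ := hfD y
      exact ⟨⟨d, hd⟩, rfl⟩
    · rw [Subgroup.mem_center_iff]
      exact fun y => Subtype.ext (Subgroup.mem_center_iff.1 (hfc hx) y)
    · have h1 := hDD x.2
      rw [← Subgroup.map_subtype_commutator] at h1
      obtain ⟨w, hw, hwx⟩ := h1
      rwa [← Subtype.ext hwx]
  have hker : f.ker ⊓ commutator E = ⊥ := by
    rw [Subgroup.eq_bot_iff_forall]
    rintro x ⟨hx1, hx2⟩
    have hsq : (⟨x, hx2⟩ : D) ^ 2 = 1 := by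
      refine Subtype.ext (Subtype.ext (Prod.ext ?_ ?_))
      · show (f x) ^ 2 = 1
        rw [MonoidHom.mem_ker.1 hx1, one_pow]
      · have hk : (CfsgLib.SchurCover.fibreSnd π ξ x) ∈ ξ.ker := by
          rw [MonoidHom.mem_ker, ← CfsgLib.SchurCover.fibre_rel, MonoidHom.mem_ker.1 hx1, map_one]
        have := pow_card_eq_one' (x := (⟨_, hk⟩ : ξ.ker))
        rw [hξ2] at this
        exact congrArg Subtype.val this
    exact congrArg Subtype.val (hN D σ hstem ⟨x, hx2⟩ hx1 hsq)
  obtain ⟨s, hs⟩ := CfsgLib.SchurCover.exists_section_of_perfect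
    (inferInstance : Group.IsPerfect H) f hf hker
  set η : H →* K := (CfsgLib.SchurCover.fibreSnd π ξ).comp s with hη
  have hηπ : ∀ h : H, ξ (η h) = π h := by
    intro h
    rw [hη, MonoidHom.comp_apply, ← CfsgLib.SchurCover.fibre_rel]
    exact congrArg π (DFunLike.congr_fun hs h)
  have hsurj : Function.Surjective η := by
    rw [← MonoidHom.range_eq_top, eq_top_iff, ← (Group.isPerfect_def).1 (inferInstance :
      Group.IsPerfect K), commutator_def, Subgroup.commutator_le]
    intro p _ q _
    obtain ⟨p', hp'⟩ := hπ (ξ p)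
    obtain ⟨q', hq'⟩ := hπ (ξ q)
    refine ⟨⁅p', q'⁆, ?_⟩
    rw [map_commutatorElement]
    exact CfsgLib.Schur.commutator_congr hξc ((hηπ p').trans hp') ((hηπ q').trans hq')
  have hcard : Nat.card H = Nat.card K := by
    rw [Subgroup.card_eq_card_quotient_mul_card_subgroup π.ker,
      Subgroup.card_eq_card_quotient_mul_card_subgroup ξ.ker, hπ2, hξ2,
      Nat.card_congr (QuotientGroup.quotientKerEquivOfSurjective π hπ).toEquiv,
      Nat.card_congr (QuotientGroup.quotientKerEquivOfSurjective ξ hξ).toEquiv]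
  exact ⟨MulEquiv.ofBijective η ((Nat.bijective_iff_surjective_and_card η).2 ⟨hsurj, hcard⟩)⟩

/-- A perfect group of 2-rank one modulo its core is `SL₂(q)` or a double cover of `A₇`. -/
theorem main {X : Type u} [Group X] [Finite X] (hGW : DihedralClassification.{u})
    (hP : Group.IsPerfect X) (h1 : Cfsg.PRankLE 2 1 X) (h2 : Even (Nat.card X)) :
    (∃ (F : Type) (_ : Field F) (_ : Fintype F), Odd (Fintype.card F) ∧ 3 < Fintype.card F ∧
        Nonempty (X ⧸ Cfsg.oddCore X ≃* Matrix.SpecialLinearGroup (Fin 2) F)) ∨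
      Cfsg.IsNonsplitDoubleCover (X ⧸ Cfsg.oddCore X) ↥(alternatingGroup (Fin 7)) := by
  haveI : Fact (Nat.Prime 2) := ⟨Nat.prime_two⟩
  haveI := hP
  have huniq := eq_of_rankLE h1
  obtain ⟨S⟩ : Nonempty (Sylow 2 X) := inferInstance
  obtain ⟨m, ⟨e⟩⟩ : ∃ m : ℕ, Nonempty ((S : Subgroup X) ≃* QuaternionGroup (2 ^ (m + 1))) := by
    rcases CfsgLib.TwoGroups.OneInvolution.isCyclic_or_quaternion S.2
        (CfsgLib.Involutions.unique_involution_of_rank_one huniq S.2) with h | ⟨n, hn, he⟩
    · obtain ⟨H, hH⟩ := Cfsg.Agent.S0219.result h2 S h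
      exact absurd hH (index_ne_two H)
    · exact ⟨n - 1, by rwa [show n - 1 + 1 = n by omega]⟩
  set Y := X ⧸ Cfsg.oddCore X with hY
  have hYO : Cfsg.oddCore Y = ⊥ := CfsgLib.InvChar.oddCore_quotient_oddCore
  have hO : ∀ N : Subgroup Y, N.Normal → Odd (Nat.card N) → N = ⊥ := fun N hN hodd =>
    eq_bot_iff.2 (hYO ▸ CfsgLib.PCore.le_pPrimeCore_of_not_dvd hN
      (by rwa [← even_iff_two_dvd, Nat.not_even_iff_odd]))
  obtain ⟨T, ⟨eT⟩⟩ := CfsgLib.InvChar.exists_sylow_quotient_equiv S
  obtain ⟨L, -, -, -⟩ := CfsgLib.Involutions.LargeQuat.exists_of_equiv T m (eT.symm.trans e)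
  have hcard : Nat.card (center Y) = 2 := CfsgLib.Involutions.card_center_of_quaternion L hO
  have hz : L.a ^ L.k ∈ center Y := by
    obtain ⟨c, hc⟩ := exists_prime_orderOf_dvd_card' (G := center Y) 2 (by rw [hcard])
    rw [← Subgroup.orderOf_coe] at hc
    have hcomm : Commute (L.a ^ L.k) (c : Y) := Subgroup.mem_center_iff.1 c.2 _
    rw [L.eq_of_commute L.z_order hc hcomm]
    exact c.2
  obtain ⟨T', hT'⟩ := exists_dihedral L hz hcard
  set P := Y ⧸ center Y with hPdef
  have hPO : Cfsg.oddCore P = ⊥ := oddCore_quotient_center hcard hO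
  have eP : P ⧸ Cfsg.oddCore P ≃* P :=
    (QuotientGroup.quotientMulEquivOfEq hPO).trans QuotientGroup.quotientBot
  rcases hGW P T' L.k L.two_le hT' with ⟨F, _, _, hodd, h3, ⟨ψ⟩⟩ | ⟨ψ⟩
  · left
    refine ⟨F, inferInstance, inferInstance, hodd, h3, ?_⟩
    have h2F : (2 : F) ≠ 0 := by
      intro h
      haveI : CharP F 2 := CharTwo.of_one_ne_zero_of_two_eq_zero one_ne_zero h
      obtain ⟨n, -, hn⟩ := FiniteField.card F 2
      rw [hn] at hodd
      exact (Nat.not_even_iff_odd.2 hodd) (Nat.even_pow.2 ⟨even_two, n.ne_zero⟩)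
    haveI : Group.IsPerfect (Matrix.SpecialLinearGroup (Fin 2) F) :=
      ⟨CfsgLib.Laws.sl_two_perfect (by omega)⟩
    set χ := (eP.symm.trans ψ) with hχ
    let π : Y →* Matrix.ProjectiveSpecialLinearGroup (Fin 2) F :=
      χ.toMonoidHom.comp (QuotientGroup.mk' (center Y))
    let ξ : Matrix.SpecialLinearGroup (Fin 2) F →* Matrix.ProjectiveSpecialLinearGroup (Fin 2) F :=
      QuotientGroup.mk' _
    have hπs : Function.Surjective π :=
      χ.surjective.comp (QuotientGroup.mk'_surjective _)
    have hπk : π.ker = center Y := by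
      show (χ.toMonoidHom.comp (QuotientGroup.mk' (center Y))).ker = center Y
      rw [ker_equiv_comp, QuotientGroup.ker_mk']
    have hξk : ξ.ker = center (Matrix.SpecialLinearGroup (Fin 2) F) := QuotientGroup.ker_mk' _
    let lift : Matrix.ProjectiveSpecialLinearGroup (Fin 2) F ≃*
        ULift.{u} (Matrix.ProjectiveSpecialLinearGroup (Fin 2) F) := MulEquiv.ulift.symm
    refine nonempty_mulEquiv_cover (lift.toMonoidHom.comp π) (lift.toMonoidHom.comp ξ)
      (lift.surjective.comp hπs) (lift.surjective.comp (QuotientGroup.mk'_surjective _))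
      ?_ ?_ ?_ (noMultiplierAt_two L)
    · rw [ker_equiv_comp, hξk]
    · rw [ker_equiv_comp, hξk]
      exact CfsgLib.PSL2.card_center_sl h2F
    · rw [ker_equiv_comp, hπk, hcard]
  · right
    obtain ⟨ψ⟩ := ψ
    refine ⟨hcard, ⟨eP.symm.trans ψ⟩, fun K hK => ?_⟩
    refine index_ne_two K ?_
    rw [hK.index_eq_card, hcard]

end CfsgLib.GWCons.RankOneCover
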