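/-
Core-free groups generated by 2-elements with dihedral Sylow 2-subgroups, from the classification
of perfect groups with dihedral Sylow 2-subgroups.
-/
import Cfsg.Agent.Lib.GWCons.DihedralModel
import Cfsg.Agent.Lib.GWCons.RankOneCover
import Cfsg.Agent.Lib.Transfer.NormalComplement
import Cfsg.Agent.Lib.DimThreeMax.AutCard
import Cfsg.Agent.Lib.ClassicalGroups.SmallIso
import Cfsg.Agent.S2119
import Cfsg.Agent.S0219

set_option autoImplicit false

open Subgroup

namespace CfsgLib.GWCons.DihedralGenerated

universe u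

variable {P : Type u} [Group P] [Finite P]

/-- The conclusion: a 2-group, an almost simple `PSL₂(q)`, or `A₇`. -/
def Shape (P : Type u) [Group P] : Prop :=
  IsPGroup 2 P ∨
    (∃ (F : Type) (_ : Field F) (_ : Fintype F), Odd (Fintype.card F) ∧
      ∃ K : Subgroup (MulAut (Matrix.ProjectiveSpecialLinearGroup (Fin 2) F)),
        (MulAut.conj : Matrix.ProjectiveSpecialLinearGroup (Fin 2) F →*
          MulAut (Matrix.ProjectiveSpecialLinearGroup (Fin 2) F)).range ≤ K ∧ Nonempty (P ≃* ↥K)) ∨
    Nonempty (P ≃* alternatingGroup (Fin 7))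

/-- A normal self-centralising copy of `PSL₂(q)` gives an almost simple group. -/
theorem shape_of_psl (L : Subgroup P) [L.Normal] (hC : centralizer (L : Set P) = ⊥)
    {F : Type} [Field F] [Fintype F] (hodd : Odd (Fintype.card F))
    (e : L ≃* Matrix.ProjectiveSpecialLinearGroup (Fin 2) F) : Shape P := by
  refine Or.inr (Or.inl ⟨F, inferInstance, inferInstance, hodd, ?_⟩)
  let f : P →* MulAut (Matrix.ProjectiveSpecialLinearGroup (Fin 2) F) :=
    (MulAut.congr e).toMonoidHom.comp MulAut.conjNormal
  have hf : Function.Injective f := by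
    rw [injective_iff_map_eq_one]
    intro g hg
    have hg' : (MulAut.conjNormal g : MulAut L) = 1 := by
      apply (MulAut.congr e).injective
      rw [map_one]
      exact hg
    have : g ∈ centralizer (L : Set P) := by
      rw [mem_centralizer_iff]
      intro x hx
      have h1 := congrArg Subtype.val (DFunLike.congr_fun hg' (⟨x, hx⟩ : L))
      rw [MulAut.conjNormal_apply] at h1
      exact (mul_inv_eq_iff_eq_mul.1 h1).symm
    rwa [hC, mem_bot] at this
  refine ⟨f.range, ?_, ⟨MonoidHom.ofInjective hf⟩⟩
  rintro _ ⟨a, rfl⟩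
  refine ⟨(e.symm a : L), ?_⟩
  apply MulEquiv.ext
  intro b
  show e (MulAut.conjNormal ((e.symm a : L) : P) (e.symm b)) = a * b * a⁻¹
  have h1 : (MulAut.conjNormal ((e.symm a : L) : P) (e.symm b) : L) = e.symm a * e.symm b * (e.symm a)⁻¹ :=
    Subtype.ext (MulAut.conjNormal_apply _ _)
  rw [h1, map_mul, map_mul, map_inv, e.apply_symm_apply, e.apply_symm_apply]

omit [Finite P] in
/-- An index three normal subgroup contains all 2-elements. -/
theorem mem_of_index_odd (N : Subgroup P) [N.Normal] {m : ℕ} (hm : N.index = m) (hodd : Odd m)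
    {x : P} {k : ℕ} (hx : orderOf x = 2 ^ k) : x ∈ N := by
  rw [← QuotientGroup.eq_one_iff, ← orderOf_eq_one_iff]
  refine Nat.eq_one_of_dvd_coprimes ((Nat.coprime_two_left.2 hodd).pow_left k) ?_ ?_
  · exact (orderOf_map_dvd (QuotientGroup.mk' N) x).trans (dvd_of_eq hx)
  · rw [← hm, Subgroup.index_eq_card]
    exact orderOf_dvd_natCard _

/-- A self-centralising normal four-group. -/
theorem shape_of_klein (hgen : closure {x : P | ∃ k : ℕ, orderOf x = 2 ^ k} = ⊤)
    (N : Subgroup P) [N.Normal] (hN : Nat.card N = 4) (hsq : ∀ x ∈ N, x * x = 1)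
    (hC : centralizer (N : Set P) = N) : Shape P := by
  classical
  haveI : Fact (Nat.Prime 2) := ⟨Nat.prime_two⟩
  -- the action on the three involutions
  let α := {x : N // x ≠ 1}
  have hα : Nat.card α = 3 := by
    haveI : Fintype N := Fintype.ofFinite _
    rw [Nat.card_eq_fintype_card, Fintype.card_subtype_compl, Fintype.card_subtype_eq,
      ← Nat.card_eq_fintype_card, hN]
  let act : P →* Equiv.Perm α :=
    { toFun := fun g =>
        Equiv.Perm.subtypePerm ((MulAut.conjNormal g : MulAut N).toEquiv) fun x => by simp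
      map_one' := by ext x; simp
      map_mul' := fun g h => by ext x; simp }
  have hker : act.ker ≤ N := by
    intro g hg
    have hg' : g ∈ centralizer (N : Set P) := by
      rw [mem_centralizer_iff]
      intro x hx
      by_cases h1 : (⟨x, hx⟩ : N) = 1
      · have : x = 1 := congrArg Subtype.val h1
        simp [this]
      · have h2 := congrArg (fun f : Equiv.Perm α => ((f ⟨⟨x, hx⟩, h1⟩ : α) : N)) (MonoidHom.mem_ker.1 hg)
        have h3 : g * x * g⁻¹ = x := by
          rw [← MulAut.conjNormal_apply g (⟨x, hx⟩ : N)]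
          exact congrArg Subtype.val h2
        exact (mul_inv_eq_iff_eq_mul.1 h3).symm
    rwa [hC] at hg'
  have hidx : N.index ∣ 6 := by
    refine (Subgroup.index_dvd_of_le hker).trans ?_
    rw [Subgroup.index_ker, show (6 : ℕ) = Nat.card (Equiv.Perm α) by rw [Nat.card_perm, hα]; rfl]
    exact card_subgroup_dvd_card _
  have hcard := N.card_mul_index
  rw [hN] at hcard
  have hne3 : N.index ≠ 3 := by
    intro h3
    have : (⊤ : Subgroup P) ≤ N := by
      rw [← hgen, closure_le]
      rintro x ⟨k, hk⟩
      exact mem_of_index_odd N h3 (by decide) hk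
    rw [top_le_iff] at this
    rw [this, Subgroup.index_top] at h3
    omega
  have h6 : N.index = 1 ∨ N.index = 2 ∨ N.index = 6 := by
    have := Nat.le_of_dvd (by norm_num) hidx
    interval_cases h : N.index <;> omega
  rcases h6 with h | h | h
  · exact Or.inl (IsPGroup.of_card (n := 2) (by rw [← hcard, h]; rfl))
  · exact Or.inl (IsPGroup.of_card (n := 3) (by rw [← hcard, h]; rfl))
  -- the subgroup of order twelve
  rw [h] at hcard
  haveI : Fact (Nat.Prime 3) := ⟨Nat.prime_three⟩
  obtain ⟨g, hg⟩ := exists_prime_orderOf_dvd_card' (G := P) 3 ⟨8, by omega⟩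
  have hNg : N ⊓ zpowers g = ⊥ := by
    rw [eq_bot_iff]
    rintro x ⟨hxN, hxg⟩
    rw [mem_bot, ← orderOf_eq_one_iff]
    refine Nat.eq_one_of_dvd_coprimes (a := 4) (b := 3) (by norm_num) ?_ ?_
    · exact hN ▸ N.orderOf_dvd_natCard hxN
    · exact ((zpowers g).orderOf_dvd_natCard hxg).trans (dvd_of_eq ((Nat.card_zpowers g).trans hg))
  have hgN : g ∉ N := fun h => by
    have h1 : g ∈ N ⊓ zpowers g := ⟨h, mem_zpowers g⟩
    rw [hNg, mem_bot] at h1
    rw [h1, orderOf_one] at hg
    norm_num at hg
  set L := (zpowers (QuotientGroup.mk' N g)).comap (QuotientGroup.mk' N) with hL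
  have hNL : N ≤ L := fun x hx => by
    rw [hL, mem_comap, show QuotientGroup.mk' N x = 1 from (QuotientGroup.eq_one_iff x).2 hx]
    exact one_mem _
  have hgL : g ∈ L := by rw [hL, mem_comap]; exact mem_zpowers _
  have hLcard : Nat.card L = 12 := by
    have ho : orderOf (QuotientGroup.mk' N g) = 3 := by
      refine orderOf_eq_prime ?_ ?_
      · rw [← map_pow, ← hg, pow_orderOf_eq_one, map_one]
      · rw [QuotientGroup.mk'_apply, ne_eq, QuotientGroup.eq_one_iff]
        exact hgN
    rw [hL, CfsgLib.PCore.card_comap_mk', Nat.card_zpowers, ho, hN]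
  have hLidx : L.index = 2 := by
    have := L.card_mul_index
    rw [hLcard] at this
    omega
  haveI : L.Normal := normal_of_index_eq_two hLidx
  have hno : ∀ x : L, orderOf x ≠ 6 := by
    intro x hx
    rw [← Subgroup.orderOf_coe] at hx
    set u := (x : P) ^ 2
    set v := (x : P) ^ 3
    have hu : orderOf u = 3 := by
      rw [orderOf_pow' _ two_ne_zero, hx]; rfl
    have hv : orderOf v = 2 := by
      rw [orderOf_pow' _ (by norm_num), hx]; rfl
    have hvN : v ∈ N := by
      have hidxL : (N.subgroupOf L).index = 3 := by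
        have h1 := (N.subgroupOf L).card_mul_index
        rw [Nat.card_congr (subgroupOfEquivOfLe hNL).toEquiv, hN, hLcard] at h1
        omega
      have := mem_of_index_odd (N.subgroupOf L) hidxL (by decide) (x := x ^ 3) (k := 1)
        (by rw [← Subgroup.orderOf_coe, SubgroupClass.coe_pow]; simpa using hv)
      exact mem_subgroupOf.1 this
    -- `u` fixes an involution of `N`, hence all of `N`
    have huN : u ∈ centralizer (N : Set P) := by
      rw [mem_centralizer_iff]
      intro y hy
      have huv : Commute u v := (Commute.refl (x : P)).pow_pow 2 3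
      by_cases hy1 : y = 1
      · simp [hy1]
      by_cases hyv : y = v
      · rw [hyv]; exact huv.eq.symm
      have hyN : u * y * u⁻¹ ∈ N := (inferInstance : N.Normal).conj_mem y hy u
      have hcom : ∀ a ∈ N, ∀ b ∈ N, a * b = b * a := by
        intro a ha b hb
        have hab := hsq (a * b) (mul_mem ha hb)
        calc a * b = a * (a * b * (a * b)) * b := by rw [hab]; group
          _ = (a * a) * (b * a) * (b * b) := by group
          _ = b * a := by rw [hsq a ha, hsq b hb]; group
      have hsub : ∀ w ∈ N, w = 1 ∨ w = v ∨ w = y ∨ w = y * v := by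
        intro w hw
        by_contra hcon
        push Not at hcon
        obtain ⟨w1, w2, w3, w4⟩ := hcon
        have hv1 : v ≠ 1 := fun e => by rw [e, orderOf_one] at hv; norm_num at hv
        have hyv1 : y * v ≠ 1 := fun e => hyv (by
          rw [mul_eq_one_iff_eq_inv] at e
          rw [e, inv_eq_of_mul_eq_one_right (hsq v hvN)])
        let f : Fin 5 → N := ![1, ⟨v, hvN⟩, ⟨y, hy⟩, ⟨y * v, mul_mem hy hvN⟩, ⟨w, hw⟩]
        have hf : Function.Injective f := by
          intro i j hij
          fin_cases i <;> fin_cases j <;> first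
            | rfl
            | (exfalso
               simp only [f, Subtype.ext_iff] at hij
               simp at hij
               first
                 | exact hv1 hij | exact hv1 hij.symm | exact hy1 hij | exact hy1 hij.symm
                 | exact hyv1 hij | exact hyv1 hij.symm | exact w1 hij | exact w1 hij.symm
                 | exact hyv hij | exact hyv hij.symm | exact w2 hij | exact w2 hij.symm
                 | exact w3 hij | exact w3 hij.symm | exact w4 hij | exact w4 hij.symm
                 | exact hy1 (mul_eq_right.1 hij.symm) | exact hv1 (mul_eq_left.1 hij.symm))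
        have := Nat.card_le_card_of_injective f hf
        rw [Nat.card_fin, hN] at this
        omega
      rcases hsub _ hyN with e | e | e | e
      · exact absurd (conj_eq_one_iff.1 e) hy1
      · refine absurd ?_ hyv
        calc y = u⁻¹ * (u * y * u⁻¹) * u := by group
          _ = u⁻¹ * (v * u) := by rw [e, mul_assoc]
          _ = v := by rw [← huv.eq]; group
      · exact (mul_inv_eq_iff_eq_mul.1 e).symm
      · refine (CfsgLib.InvChar.commute_of_odd_of_chain (g := u) (r := v) (by rw [hu]; decide)
          ⟨1, by rw [pow_one, pow_two]; exact hsq v hvN⟩ huv.eq e).symm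
    rw [hC] at huN
    have := N.orderOf_dvd_natCard huN
    rw [hu, hN] at this
    norm_num at this
  obtain ⟨e4⟩ := CfsgLib.PSL2.nonempty_mulEquiv_alternating_four hLcard hno
  obtain ⟨e3⟩ := CfsgLib.ClassicalGroups.psl_two_three_alternating (K := ZMod 3) (ZMod.card 3)
  refine shape_of_psl L ?_ (F := ZMod 3) (by rw [ZMod.card]; decide) (e4.trans e3.symm)
  rw [eq_bot_iff]
  intro c hc
  have hcN : c ∈ N := by
    rw [← hC]
    exact centralizer_le (fun x hx => hNL hx) hc
  rw [mem_bot]
  by_contra hc1
  -- `g` fixes `c`, so `g * c` has order six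
  have hgc : Commute g c :=
    (mem_centralizer_iff.1 hc g (hgL))
  have hco : orderOf c = 2 := orderOf_eq_prime (by rw [pow_two]; exact hsq c hcN) hc1
  have h6 : orderOf (g * c) = 6 := by
    rw [hgc.orderOf_mul_eq_mul_orderOf_of_coprime (by rw [hg, hco]; norm_num), hg, hco]
  exact hno ⟨g * c, mul_mem (hgL)
    (hNL hcN)⟩ (by rw [Subgroup.orderOf_mk]; exact h6)

/-- Elementary abelian 2-subgroups of a group with dihedral Sylow 2-subgroups have order at most 4. -/
theorem card_le_four {n : ℕ} [NeZero n] (T : Sylow 2 P) (e : (T : Subgroup P) ≃* DihedralGroup n)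
    (A : Subgroup P) (hc : ∀ x ∈ A, ∀ y ∈ A, x * y = y * x) (hs : ∀ x ∈ A, x ^ 2 = 1) :
    Nat.card A ≤ 4 := by
  haveI : Fact (Nat.Prime 2) := ⟨Nat.prime_two⟩
  have hA : IsPGroup 2 A := fun a => ⟨1, Subtype.ext (by simpa using hs a a.2)⟩
  obtain ⟨g, hg⟩ := CfsgLib.Involutions.exists_conj_le_sylow hA T
  let f : A →* DihedralGroup n := e.toMonoidHom.comp
    (((MulAut.conj g).toMonoidHom.comp A.subtype).codRestrict (T : Subgroup P) fun a => hg a a.2)
  have hf : Function.Injective f := fun a b h => Subtype.ext
    ((MulAut.conj g).injective (congrArg Subtype.val (e.injective h)))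
  rw [Nat.card_congr (MonoidHom.ofInjective hf).toEquiv]
  refine DihedralModel.card_le_four ?_ ?_
  · rintro _ ⟨a, rfl⟩ _ ⟨b, rfl⟩
    rw [← map_mul, ← map_mul, show a * b = b * a from Subtype.ext (hc a a.2 b b.2)]
  · rintro _ ⟨a, rfl⟩
    rw [← map_pow, show a ^ 2 = 1 from Subtype.ext (by simpa using hs a a.2), map_one]

def swaps : Fin 5 → Equiv.Perm (Fin 7) :=
  ![1, Equiv.swap 0 1, Equiv.swap 2 3, Equiv.swap 4 5, Equiv.swap 0 1 * Equiv.swap 2 3]

theorem swaps_injective : Function.Injective swaps := by
  have h : Function.Injective fun i : Fin 5 => (swaps i 0, swaps i 2, swaps i 4) := by decide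
  exact fun i j e => h (by simp only [e])

theorem swaps_comm : ∀ i j : Fin 5, swaps i * swaps j = swaps j * swaps i ∧ swaps i * swaps i = 1 := by
  have h : ∀ i j : Fin 5, ∀ a : Fin 7, swaps i (swaps j a) = swaps j (swaps i a) ∧
      swaps i (swaps i a) = a := by decide
  exact fun i j => ⟨Equiv.ext fun a => (h i j a).1, Equiv.ext fun a => (h i j a).2⟩

/-- A group with dihedral Sylow 2-subgroups is not `S₇`. -/
theorem not_perm_seven {n : ℕ} [NeZero n] (T : Sylow 2 P) (e : (T : Subgroup P) ≃* DihedralGroup n)
    (ψ : P ≃* Equiv.Perm (Fin 7)) : False := by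
  set A := closure (Set.range swaps) with hA
  haveI : IsMulCommutative A := isMulCommutative_closure fun x hx y hy => by
    obtain ⟨i, rfl⟩ := hx
    obtain ⟨j, rfl⟩ := hy
    exact (swaps_comm i j).1
  have hc : ∀ x ∈ A, ∀ y ∈ A, x * y = y * x := fun x hx y hy =>
    congrArg Subtype.val (mul_comm' (⟨x, hx⟩ : A) ⟨y, hy⟩)
  have hs : ∀ x ∈ A, x ^ 2 = 1 := by
    intro x hx
    induction hx using closure_induction with
    | mem x hx => obtain ⟨i, rfl⟩ := hx; rw [pow_two]; exact (swaps_comm i i).2
    | one => exact one_pow 2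
    | mul x y hxm hym hx hy => rw [(show Commute x y from hc x hxm y hym).mul_pow, hx, hy, one_mul]
    | inv x _ hx => rw [inv_pow, hx, inv_one]
  have hle := card_le_four T e (A.map ψ.symm.toMonoidHom)
    (by rintro _ ⟨x, hx, rfl⟩ _ ⟨y, hy, rfl⟩; rw [← map_mul, ← map_mul, hc x hx y hy])
    (by rintro _ ⟨x, hx, rfl⟩; rw [← map_pow, hs x hx, map_one])
  rw [card_map_of_injective ψ.symm.injective] at hle
  have := Nat.card_le_card_of_injective
    (fun i : Fin 5 => (⟨swaps i, subset_closure ⟨i, rfl⟩⟩ : A))
    fun i j h => swaps_injective (congrArg Subtype.val h)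
  rw [Nat.card_fin] at this
  omega

/-- The structure theorem. -/
theorem main (hGW : RankOneCover.DihedralClassification.{u}) (T : Sylow 2 P) {n : ℕ} (hn : 2 ≤ n)
    (e : (T : Subgroup P) ≃* DihedralGroup n) (hO : Cfsg.oddCore P = ⊥)
    (hgen : closure {x : P | ∃ k : ℕ, orderOf x = 2 ^ k} = ⊤) : Shape P := by
  classical
  haveI : Fact (Nat.Prime 2) := ⟨Nat.prime_two⟩
  haveI : NeZero n := ⟨by omega⟩
  have hD : IsPGroup 2 (DihedralGroup n) := T.2.of_equiv e
  have hodd : ∀ N : Subgroup P, N.Normal → Odd (Nat.card N) → N = ⊥ := fun N hN ho =>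
    eq_bot_iff.2 (hO ▸ CfsgLib.PCore.le_pPrimeCore_of_not_dvd hN
      (by rwa [← even_iff_two_dvd, Nat.not_even_iff_odd]))
  by_cases hP1 : Subsingleton P
  · exact Or.inl fun x => ⟨0, Subsingleton.elim _ _⟩
  haveI : Nontrivial P := not_subsingleton_iff_nontrivial.1 hP1
  obtain ⟨N, ⟨hNn, hN1⟩, hmin⟩ := Set.Finite.exists_minimal
    (Set.toFinite {N : Subgroup P | N.Normal ∧ N ≠ ⊥}) ⟨⊤, ⟨inferInstance, top_ne_bot⟩⟩
  haveI : N.Normal := hNn
  have hmin' : ∀ M : Subgroup P, M.Normal → M ≤ N → M = ⊥ ∨ M = N := fun M hM hle => by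
    by_contra h
    push Not at h
    exact h.2 (le_antisymm hle (hmin ⟨hM, h.1⟩ hle))
  have hev : 2 ∣ Nat.card N := by
    by_contra h
    exact hN1 (hodd N hNn (Nat.not_even_iff_odd.1 fun he => h (even_iff_two_dvd.1 he)))
  -- replace `T` by a Sylow subgroup containing one of `N`
  obtain ⟨R₁⟩ : Nonempty (Sylow 2 N) := inferInstance
  obtain ⟨T₁, hT₁⟩ := (R₁.2.map N.subtype).exists_le_sylow
  replace e := (Sylow.equiv T₁ T).trans e
  clear T
  rename' T₁ => T, hT₁ => hR₁T
  -- a 2-subgroup centralising a noncyclic subgroup of `T`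
  have hcent : ∀ R : Subgroup P, R ≤ (T : Subgroup P) → ¬ IsCyclic R →
      ∀ x ∈ (T : Subgroup P), (∀ y ∈ R, x * y = y * x) → x ∈ R := by
    intro R hR hRc x hx hxy
    have h := DihedralModel.mem_of_centralizes hD hn
      (R := (R.subgroupOf (T : Subgroup P)).map e.toMonoidHom)
      (fun h => hRc (by
        let ee := ((R.subgroupOf (T : Subgroup P)).equivMapOfInjective e.toMonoidHom e.injective).symm.trans
          (subgroupOfEquivOfLe hR)
        haveI := h
        exact isCyclic_of_surjective ee.toMonoidHom ee.surjective))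
      (g := e ⟨x, hx⟩) ?_
    · obtain ⟨y, hy, hye⟩ := h
      have := e.injective hye
      rw [this] at hy
      exact hy
    · rintro _ ⟨y, hy, rfl⟩
      show e _ * e y = e y * e _
      rw [← map_mul, ← map_mul]
      exact congrArg e (Subtype.ext (hxy _ hy))
  set R := (T : Subgroup P) ⊓ N with hR
  rcases hmin' ⁅N, N⁆ inferInstance (commutator_le_left N N) with hab | hperf
  · -- abelian minimal normal subgroup
    have hcomm : ∀ x ∈ N, ∀ y ∈ N, x * y = y * x := fun x hx y hy =>
      commutatorElement_eq_one_iff_mul_comm.1 (by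
        have := commutator_mem_commutator hx hy
        rwa [hab, mem_bot] at this)
    set E : Subgroup P :=
      { carrier := {x | x ∈ N ∧ x * x = 1}
        one_mem' := ⟨one_mem N, mul_one 1⟩
        mul_mem' := fun {a b} ha hb => ⟨mul_mem ha.1 hb.1, by
          rw [show a * b * (a * b) = a * (b * a) * b by group, ← hcomm a ha.1 b hb.1,
            show a * (a * b) * b = (a * a) * (b * b) by group, ha.2, hb.2, one_mul]⟩
        inv_mem' := fun {a} ha => ⟨inv_mem ha.1, by rw [← mul_inv_rev, ha.2, inv_one]⟩ } with hE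
    have hEn : E.Normal := ⟨fun x hx c => ⟨hNn.conj_mem x hx.1 c, by
      rw [show c * x * c⁻¹ * (c * x * c⁻¹) = c * (x * x) * c⁻¹ by group, hx.2]; group⟩⟩
    have hEN : E = N := by
      refine (hmin' E hEn fun x hx => hx.1).resolve_left fun h => ?_
      obtain ⟨x, hx⟩ := exists_prime_orderOf_dvd_card' 2 hev
      have hxE : (x : P) ∈ E := ⟨x.2, by
        rw [← pow_two, ← hx]; exact congrArg Subtype.val (pow_orderOf_eq_one x)⟩
      rw [h, mem_bot] at hxE
      rw [show x = 1 from Subtype.ext hxE, orderOf_one] at hx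
      norm_num at hx
    have hsq : ∀ x ∈ N, x * x = 1 := fun x hx => by rw [← hEN] at hx; exact hx.2
    have hNp : IsPGroup 2 N := fun a => ⟨1, Subtype.ext (by simpa [pow_two] using hsq a a.2)⟩
    have hNT : N ≤ (T : Subgroup P) := hNp.le_sylow_of_normal T
    have h4 := card_le_four T e N hcomm fun x hx => by rw [pow_two]; exact hsq x hx
    obtain ⟨k, hk⟩ := IsPGroup.iff_card.1 hNp
    have hk2 : k = 1 ∨ k = 2 := by
      rcases k with _ | _ | _ | k
      · rw [pow_zero] at hk; exact absurd (Subgroup.card_eq_one.1 hk) hN1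
      · exact Or.inl rfl
      · exact Or.inr rfl
      · exfalso
        rw [hk] at h4
        have : 2 ^ 3 ≤ 2 ^ (k + 1 + 1 + 1) := Nat.pow_le_pow_right two_pos (by omega)
        omega
    rcases hk2 with rfl | rfl
    · -- a central involution
      rw [pow_one] at hk
      obtain ⟨z, hz⟩ := exists_prime_orderOf_dvd_card' 2 hev
      have hzc : (z : P) ∈ center P := by
        rw [Subgroup.mem_center_iff]
        intro c
        have h1 := hNn.conj_mem z z.2 c
        obtain ⟨w, hw, huniq⟩ := (Nat.card_eq_two_iff' (1 : N)).1 hk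
        have e1 := huniq z (fun h => by rw [h, orderOf_one] at hz; norm_num at hz)
        have e2 := huniq ⟨_, h1⟩ (fun h => by
          have h' : c * (z : P) * c⁻¹ = 1 := congrArg Subtype.val h
          rw [conj_eq_one_iff] at h'
          rw [show z = 1 from Subtype.ext h', orderOf_one] at hz; norm_num at hz)
        exact mul_inv_eq_iff_eq_mul.1 (congrArg Subtype.val (e2.trans e1.symm))
      rw [← Subgroup.orderOf_coe] at hz
      have hF : CfsgLib.Transfer.FrobeniusCond 2 P :=
        CfsgLib.Transfer.frobeniusCond_of_le_sylow T fun Q hQ x hx hcop =>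
          DihedralModel.commute_of_odd e T.2 hn (hNT z.2) hzc hz hQ hx (Nat.coprime_two_right.1 hcop)
      refine Or.inl ?_
      have hc := CfsgLib.Transfer.hasNormalPComplement_iff.1
        (CfsgLib.Transfer.hasNormalPComplement_of_frobeniusCond hF)
      haveI := CfsgLib.Transfer.pResidual_normal (G := P) (p := 2)
      have hb := hodd _ inferInstance
        (Nat.not_even_iff_odd.1 fun h => hc (even_iff_two_dvd.1 h))
      exact (CfsgLib.Transfer.isPGroup_quotient_of_pResidual_le (p := 2) (Cfsg.pResidual 2 P)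
        le_rfl).of_equiv ((QuotientGroup.quotientMulEquivOfEq hb).trans QuotientGroup.quotientBot)
    · -- a four-group
      refine shape_of_klein hgen N (by rw [hk]; rfl) hsq ?_
      have hNc : ¬ IsCyclic N := by
        intro h
        obtain ⟨a, ha⟩ := IsCyclic.exists_ofOrder_eq_natCard (α := N)
        rw [hk] at ha
        have h2 : a ^ 2 = 1 := Subtype.ext (by rw [SubgroupClass.coe_pow, pow_two]; exact hsq a a.2)
        have := Nat.le_of_dvd two_pos (orderOf_dvd_of_pow_eq_one h2)
        omega
      set C := centralizer (N : Set P) with hC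
      haveI : C.Normal := by rw [hC]; infer_instance
      have hNC : N ≤ C := fun x hx => mem_centralizer_iff.2 fun y hy => hcomm y hy x hx
      obtain ⟨Q⟩ : Nonempty (Sylow 2 C) := inferInstance
      obtain ⟨c, hc⟩ := CfsgLib.Involutions.exists_conj_le_sylow (Q.2.map C.subtype) T
      have hQN : ∀ x ∈ (Q : Subgroup C), (x : P) ∈ N := by
        intro x hx
        have h1 : c * (x : P) * c⁻¹ ∈ N := hcent N hNT hNc _ (hc _ (mem_map_of_mem _ hx))
          fun y hy => ((mem_centralizer_iff.1 ((inferInstance : C.Normal).conj_mem _ x.2 c)) y hy).symm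
        have := hNn.conj_mem _ h1 c⁻¹
        simpa [mul_assoc] using this
      have hb : CfsgLib.Transfer.FrobeniusCond 2 C :=
        CfsgLib.Transfer.frobeniusCond_of_le_sylow Q fun A hA x hx hcop => by
          rw [mem_centralizer_iff]
          intro a ha
          exact Subtype.ext (mem_centralizer_iff.1 x.2 (a : P) (hQN a (hA ha)))
      have hc2 := CfsgLib.Transfer.hasNormalPComplement_iff.1
        (CfsgLib.Transfer.hasNormalPComplement_of_frobeniusCond hb)
      haveI := CfsgLib.Transfer.pResidual_normal (G := C) (p := 2)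
      have hCO : Cfsg.oddCore C = ⊥ := CfsgLib.PCore.pPrimeCore_eq_bot_of_normal C hO
      have hres : Cfsg.pResidual 2 C = ⊥ := eq_bot_iff.2
        (hCO ▸ CfsgLib.PCore.le_pPrimeCore_of_not_dvd inferInstance hc2)
      refine le_antisymm (fun x hx => ?_) hNC
      obtain ⟨i, hi⟩ := CfsgLib.Transfer.exists_pow_mem_pResidual (p := 2) (⟨x, hx⟩ : C)
      rw [hres, mem_bot] at hi
      have hp : IsPGroup 2 C := fun y => by
        obtain ⟨i, hi⟩ := CfsgLib.Transfer.exists_pow_mem_pResidual (p := 2) y
        rw [hres, mem_bot] at hi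
        exact ⟨i, hi⟩
      have htop : (Q : Subgroup C) = ⊤ := (Q.is_maximal' (hp.of_equiv topEquiv.symm) le_top).symm
      exact hQN ⟨x, hx⟩ (htop ▸ mem_top _)
  · -- perfect minimal normal subgroup
    haveI hNp : Group.IsPerfect N := by
      rw [Group.isPerfect_def]
      refine map_injective N.subtype_injective ?_
      rw [map_subtype_commutator, hperf, ← MonoidHom.range_eq_map, range_subtype]
    have hNO : Cfsg.oddCore N = ⊥ := CfsgLib.PCore.pPrimeCore_eq_bot_of_normal N hO
    have hR₁ : (R₁ : Subgroup N).map N.subtype = R := by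
      refine le_antisymm (fun x hx => ⟨hR₁T hx, by obtain ⟨y, -, rfl⟩ := hx; exact y.2⟩) ?_
      rintro x ⟨hxT, hxN⟩
      have := R₁.is_maximal' (T.2.comap_of_injective N.subtype N.subtype_injective)
        fun y hy => hR₁T (mem_map_of_mem _ hy)
      exact ⟨⟨x, hxN⟩, this ▸ hxT, rfl⟩
    let e1 : (R₁ : Subgroup N) ≃* R :=
      ((R₁ : Subgroup N).equivMapOfInjective N.subtype N.subtype_injective).trans
        (MulEquiv.subgroupCongr hR₁)
    have hRc : ¬ IsCyclic R := by
      intro h
      haveI : IsCyclic (R₁ : Subgroup N) := isCyclic_of_surjective e1.symm.toMonoidHom e1.symm.surjective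
      obtain ⟨H, hH⟩ := Cfsg.Agent.S0219.result (even_iff_two_dvd.2 hev) R₁ inferInstance
      exact RankOneCover.index_ne_two H hH
    obtain ⟨m, hm, ⟨eR⟩⟩ : ∃ m : ℕ, 2 ≤ m ∧ Nonempty (R ≃* DihedralGroup m) := by
      let R' := (R.subgroupOf (T : Subgroup P)).map e.toMonoidHom
      let eR' : R' ≃* R := ((R.subgroupOf (T : Subgroup P)).equivMapOfInjective e.toMonoidHom e.injective).symm.trans
        (subgroupOfEquivOfLe inf_le_left)
      obtain ⟨m, hm, ⟨ψ⟩⟩ := DihedralModel.nonempty_dihedral hD hn (R := R')
        fun h => hRc (by haveI := h; exact isCyclic_of_surjective eR'.toMonoidHom eR'.surjective)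
      exact ⟨m, hm, ⟨eR'.symm.trans ψ⟩⟩
    have hCN : centralizer (N : Set P) = ⊥ := by
      set C := centralizer (N : Set P) with hC
      haveI : C.Normal := by rw [hC]; infer_instance
      by_contra hne
      have hCev : 2 ∣ Nat.card C := by
        by_contra h
        exact hne (hodd C inferInstance (Nat.not_even_iff_odd.1 fun he => h (even_iff_two_dvd.1 he)))
      have hCNbot : C ⊓ N = ⊥ := by
        refine (hmin' _ inferInstance inf_le_right).resolve_right fun h => ?_
        have hle : ⁅N, N⁆ ≤ ⊥ := by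
          rw [commutator_le]
          intro a ha b hb
          rw [mem_bot, commutatorElement_eq_one_iff_mul_comm]
          exact (mem_centralizer_iff.1 (h.ge ha).1 b hb).symm
        rw [hperf, le_bot_iff] at hle
        exact hN1 hle
      obtain ⟨c, hc⟩ := exists_prime_orderOf_dvd_card' 2 hCev
      rw [← Subgroup.orderOf_coe] at hc
      obtain ⟨d, hd⟩ := CfsgLib.Involutions.exists_conj_le_sylow
        (IsPGroup.of_card (n := 1) (by rw [Nat.card_zpowers, hc, pow_one]) : IsPGroup 2 (zpowers (c : P))) T
      have hdC : d * c * d⁻¹ ∈ C := (inferInstance : C.Normal).conj_mem _ c.2 d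
      have hdR := hcent R inf_le_left hRc _ (hd _ (mem_zpowers _))
        fun y hy => ((mem_centralizer_iff.1 hdC) y hy.2).symm
      have : d * c * d⁻¹ ∈ C ⊓ N := ⟨hdC, hdR.2⟩
      rw [hCNbot, mem_bot, conj_eq_one_iff] at this
      rw [this, orderOf_one] at hc
      norm_num at hc
    have eq : N ⧸ Cfsg.oddCore N ≃* N :=
      (QuotientGroup.quotientMulEquivOfEq hNO).trans QuotientGroup.quotientBot
    rcases hGW N R₁ m hm ⟨e1.trans eR⟩ with ⟨F, _, _, hodd', -, ⟨ψ⟩⟩ | ⟨ψ⟩
    · exact shape_of_psl N hCN hodd' (eq.symm.trans ψ)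
    · -- alternating of degree seven
      obtain ⟨ψ⟩ := ψ
      let φ : P →* MulAut (alternatingGroup (Fin 7)) :=
        (MulAut.congr (eq.symm.trans ψ)).toMonoidHom.comp MulAut.conjNormal
      have hφ : Function.Injective φ := by
        rw [injective_iff_map_eq_one]
        intro x hx
        have hx' : (MulAut.conjNormal x : MulAut N) = 1 := by
          apply (MulAut.congr (eq.symm.trans ψ)).injective
          rw [map_one]
          exact hx
        have : x ∈ centralizer (N : Set P) := by
          rw [mem_centralizer_iff]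
          intro y hy
          have h1 := congrArg Subtype.val (DFunLike.congr_fun hx' (⟨y, hy⟩ : N))
          rw [MulAut.conjNormal_apply] at h1
          exact (mul_inv_eq_iff_eq_mul.1 h1).symm
        rwa [hCN, mem_bot] at this
      have hNcard : Nat.card N = 2520 := by
        rw [Nat.card_congr (eq.symm.trans ψ).toEquiv, CfsgLib.DimThreeMax.card_alt_seven]
      have hPdvd : Nat.card P ∣ 5040 := by
        rw [← CfsgLib.DimThreeMax.card_mulAut_alt_seven, Nat.card_congr (MonoidHom.ofInjective hφ).toEquiv]
        exact card_subgroup_dvd_card _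
      have hmul := N.card_mul_index
      rw [hNcard] at hmul
      have hi : N.index = 1 ∨ N.index = 2 := by
        rw [← hmul] at hPdvd
        have : N.index ∣ 2 := Nat.dvd_of_mul_dvd_mul_left (by norm_num : 0 < 2520)
          (by simpa using hPdvd)
        exact (Nat.dvd_prime Nat.prime_two).1 this
      rcases hi with hi | hi
      · refine Or.inr (Or.inr ⟨?_⟩)
        rw [Subgroup.index_eq_one] at hi
        exact (topEquiv.symm.trans (MulEquiv.subgroupCongr hi.symm)).trans (eq.symm.trans ψ)
      · exfalso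
        let E : Equiv.Perm (Fin 7) ≃* MulAut (alternatingGroup (Fin 7)) :=
          MulEquiv.ofBijective _ (Cfsg.Agent.S2119.result 7 (by norm_num) (by norm_num))
        have hbij : Function.Bijective φ := (Nat.bijective_iff_injective_and_card φ).2
          ⟨hφ, by rw [CfsgLib.DimThreeMax.card_mulAut_alt_seven, ← hmul, hi]⟩
        exact not_perm_seven T e ((MulEquiv.ofBijective φ hbij).trans E.symm)

end CfsgLib.GWCons.DihedralGenerated
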