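/-
Groups with quasi-dihedral or wreathed Sylow 2-subgroups and a large normal subgroup with
quaternion Sylow 2-subgroups contain a normal SL₂(q) (S1216), from the classification of
perfect groups with dihedral Sylow 2-subgroups.
-/
import Mathlib
import Cfsg.Agent.Lib.GWCons.RankOneCover
import Cfsg.Agent.Lib.Components.SLQuasisimple
import Cfsg.Agent.Lib.Components.Basic
import Cfsg.Agent.Lib.TwoGroups.Wreathed
import Cfsg.Agent.Lib.TwoGroups.Semidihedral
import Cfsg.Agent.Lib.Schur.AutAlternating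
import Cfsg.Agent.Lib.Schur.SLTwo
import Cfsg.Agent.Lib.PF.OddOrder
import Cfsg.Agent.Lib.FTCons.PrimePowerClassTwo
import Cfsg.Agent.S0106
import Cfsg.Agent.S3742
import Cfsg.Agent.Lib.Large.SLTwoThree

set_option autoImplicit false
set_option linter.all false

open Subgroup
open scoped commutatorElement

namespace CfsgLib.GWCons.QDNormalSL

universe u

/-- The elementary abelian group of order eight. -/
abbrev Eight : Type := Multiplicative (ZMod 2 × ZMod 2 × ZMod 2)

/-- A proper normal subgroup with a 2-group quotient lies in a subgroup of index two. -/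
theorem exists_index_two {A : Type*} [Group A] [Finite A] (N : Subgroup A) [N.Normal]
    (hN : N ≠ ⊤) (hp : IsPGroup 2 (A ⧸ N)) : ∃ M : Subgroup A, N ≤ M ∧ M.index = 2 := by
  haveI : Fact (Nat.Prime 2) := ⟨Nat.prime_two⟩
  haveI : Nontrivial (A ⧸ N) := QuotientGroup.nontrivial_iff.2 hN
  obtain ⟨M, hM, -⟩ := (eq_top_or_exists_le_coatom (⊥ : Subgroup (A ⧸ N))).resolve_left bot_ne_top
  refine ⟨M.comap (QuotientGroup.mk' N), QuotientGroup.le_comap_mk' N M, ?_⟩
  rw [Subgroup.index_comap_of_surjective _ (QuotientGroup.mk'_surjective N)]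
  exact CfsgLib.TwoGroups.SD.index_of_isCoatom hp hM

/-- A normal subgroup without subgroups of index two lies in each normal subgroup of 2-power index. -/
theorem le_of_no_index_two {A : Type*} [Group A] [Finite A] (L K : Subgroup A) [K.Normal]
    (hL : ∀ M : Subgroup L, M.index ≠ 2) {a : ℕ} (ha : K.index = 2 ^ a) : L ≤ K := by
  haveI : Fact (Nat.Prime 2) := ⟨Nat.prime_two⟩
  by_contra h
  have hp : IsPGroup 2 (L ⧸ K.subgroupOf L) := by
    have hd : Nat.card (L ⧸ K.subgroupOf L) ∣ 2 ^ a := by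
      rw [← ha]; exact Subgroup.relIndex_dvd_index_of_normal K L
    obtain ⟨i, -, hi⟩ := (Nat.dvd_prime_pow Nat.prime_two).1 hd
    exact IsPGroup.of_card hi
  obtain ⟨M, -, hM⟩ := exists_index_two (K.subgroupOf L) (fun e => h (subgroupOf_eq_top.1 e)) hp
  exact hL M hM

/-- Quasi-dihedral and wreathed groups are two-generated. -/
theorem two_generated {S : Type*} [Group S] [Finite S]
    (h : Cfsg.IsQuasiDihedral S ∨ Cfsg.IsWreathed S) :
    ∃ a b : S, Subgroup.closure {a, b} = ⊤ := by
  rcases h with h | h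
  · obtain ⟨r, x, y, hd⟩ := CfsgLib.TwoGroups.SD.exists_sd h
    refine ⟨x, y, (eq_top_iff' _).2 fun g => ?_⟩
    rcases hd.gen g with ⟨k, rfl | rfl⟩
    · exact zpow_mem (subset_closure (by simp)) _
    · exact mul_mem (zpow_mem (subset_closure (by simp)) _) (subset_closure (by simp))
  · obtain ⟨n, x, y, z, hd⟩ := CfsgLib.TwoGroups.WR.exists_wr h
    refine ⟨x, z, (eq_top_iff' _).2 fun g => ?_⟩
    have hx : x ∈ closure ({x, z} : Set S) := subset_closure (by simp)
    have hz : z ∈ closure ({x, z} : Set S) := subset_closure (by simp)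
    have hy : y ∈ closure ({x, z} : Set S) := by
      rw [← hd.rel]; exact mul_mem (mul_mem hz hx) (inv_mem hz)
    rcases hd.gen g with ⟨a, b, rfl | rfl⟩
    · exact mul_mem (zpow_mem hx _) (zpow_mem hy _)
    · exact mul_mem (mul_mem (zpow_mem hx _) (zpow_mem hy _)) hz

/-- Quasi-dihedral and wreathed groups contain two commuting involutions. -/
theorem two_involutions {S : Type*} [Group S] [Finite S]
    (h : Cfsg.IsQuasiDihedral S ∨ Cfsg.IsWreathed S) :
    ∃ u v : S, orderOf u = 2 ∧ orderOf v = 2 ∧ Commute u v ∧ u ≠ v := by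
  rcases h with h | h
  · obtain ⟨r, x, y, hd⟩ := CfsgLib.TwoGroups.SD.exists_sd h
    have hr := CfsgLib.TwoGroups.SD.r_pos hd
    refine ⟨x ^ (((4 * r : ℕ)) : ℤ), y, ?_, hd.ordy, ?_, ?_⟩
    · rw [zpow_natCast, orderOf_pow' _ (by omega), hd.ordx,
        Nat.gcd_eq_right ⟨2, by ring⟩]
      exact Nat.div_eq_of_eq_mul_left (by omega) (by ring)
    · exact (CfsgLib.TwoGroups.SD.commute_pow_y hd).2 ⟨1, by push_cast; ring⟩
    · intro e
      exact hd.notMem (e ▸ zpow_mem (mem_zpowers x) _)
  · obtain ⟨n, x, y, z, hd⟩ := CfsgLib.TwoGroups.WR.exists_wr h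
    set c : ℤ := 2 ^ (n - 1) with hc
    have h2c : c + c = 2 ^ n := by
      rw [hc, ← two_mul, ← pow_succ', Nat.sub_add_cancel (CfsgLib.TwoGroups.WR.npos hd)]
    refine ⟨CfsgLib.TwoGroups.WR.el x y c c, z, ?_, hd.ordz, ?_, ?_⟩
    · refine CfsgLib.Involutions.orderOf_eq_two_iff_mul.mpr ⟨fun e => ?_, ?_⟩
      · exact CfsgLib.TwoGroups.WR.not_dvd_half hd (CfsgLib.TwoGroups.WR.npos hd)
          ((CfsgLib.TwoGroups.WR.el_eq_one hd).1 e).1
      · rw [CfsgLib.TwoGroups.WR.el_mul hd, CfsgLib.TwoGroups.WR.el_eq_one hd, h2c]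
        exact ⟨dvd_rfl, dvd_rfl⟩
    · exact (CfsgLib.TwoGroups.WR.z_mul hd c c).symm
    · exact fun e => hd.ne c c e.symm

/-- A two-generated group does not map onto the elementary abelian group of order eight. -/
theorem not_surjective_eight {S : Type*} [Group S] {a b : S} (hab : closure {a, b} = ⊤)
    (f : S →* Eight) : ¬ Function.Surjective f := by
  intro hf
  have hsq : ∀ x : Eight, x ^ 2 = 1 := by decide
  have hall : ∀ t : Eight, t = 1 ∨ t = f a ∨ t = f b ∨ t = f a * f b := by
    intro t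
    obtain ⟨g, rfl⟩ := hf t
    have hg : f g ∈ Subgroup.closure ({f a, f b} : Set Eight) := by
      rw [← Set.image_pair, ← MonoidHom.map_closure, hab]
      exact mem_map_of_mem f (mem_top g)
    obtain ⟨m, n, e⟩ := mem_closure_pair.1 hg
    have hz : ∀ (x : Eight) (i : ℤ), x ^ i = 1 ∨ x ^ i = x := by
      intro x i
      obtain ⟨k, rfl⟩ | ⟨k, rfl⟩ := Int.even_or_odd i
      · left; rw [← two_mul, zpow_mul, zpow_ofNat, hsq, one_zpow]
      · right; rw [zpow_add_one, zpow_mul, zpow_ofNat, hsq, one_zpow, one_mul]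
    rw [← e]
    rcases hz (f a) m with h | h <;> rcases hz (f b) n with h' | h' <;> rw [h, h'] <;> simp
  have key : ∀ u v : Eight, ∃ w : Eight, w ≠ 1 ∧ w ≠ u ∧ w ≠ v ∧ w ≠ u * v := by decide +kernel
  obtain ⟨w, h1, h2, h3, h4⟩ := key (f a) (f b)
  rcases hall w with h | h | h | h <;> contradiction

theorem ofAdd_one_sq : Multiplicative.ofAdd (1 : ZMod 2) * Multiplicative.ofAdd 1 = 1 := by decide

theorem zmod_two : ∀ w : ZMod 2, w = 0 ∨ w = 1 := by decide

/-- The abstract Sylow 2-subgroup of `S₇`. -/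
abbrev SylowSeven : Type := DihedralGroup 4 × Multiplicative (ZMod 2)

/-- Its realisation as permutations. -/
def sevenFun (p : SylowSeven) : Equiv.Perm (Fin 7) :=
  (match p.1 with
    | DihedralGroup.r i => ((finRotate 4).extendDomain (Fin.castLEquiv (n := 4) (m := 7) (by omega))) ^ i.val
    | DihedralGroup.sr i => Equiv.swap 0 2 *
        ((finRotate 4).extendDomain (Fin.castLEquiv (n := 4) (m := 7) (by omega))) ^ i.val) *
    Equiv.swap 4 5 ^ (Multiplicative.toAdd p.2).val

/-- The embedding of the Sylow 2-subgroup of `S₇`. -/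
def sevenHom : SylowSeven →* Equiv.Perm (Fin 7) := MonoidHom.mk' sevenFun (by decide +kernel)

theorem sevenHom_injective : Function.Injective sevenHom := by
  have : ∀ p q : SylowSeven, sevenFun p = sevenFun q → p = q := by decide +kernel
  exact this

/-- The abelianisation of the Sylow 2-subgroup of `S₇`. -/
def sevenAb : SylowSeven →* Eight :=
  MonoidHom.mk' (fun p => match p.1 with
    | DihedralGroup.r i => Multiplicative.ofAdd ((i.val : ZMod 2), (0 : ZMod 2), Multiplicative.toAdd p.2)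
    | DihedralGroup.sr i => Multiplicative.ofAdd ((i.val : ZMod 2), (1 : ZMod 2), Multiplicative.toAdd p.2))
    (by decide +kernel)

theorem sevenAb_surjective : Function.Surjective sevenAb := by
  have : ∀ t : Eight, ∃ p : SylowSeven, sevenAb p = t := by decide +kernel
  exact this

theorem sevenAb_even : ∀ a b : ZMod 2, ∃ p : SylowSeven, Equiv.Perm.sign (sevenHom p) = 1 ∧
    (Multiplicative.toAdd (sevenAb p)).2 = (a, b) := by
  decide +kernel

theorem card_even_seven :
    Nat.card ((Equiv.Perm.sign.comp sevenHom).ker) = 8 := by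
  rw [Nat.card_eq_fintype_card]
  decide +kernel

theorem card_sylowSeven : Nat.card SylowSeven = 16 := by
  rw [Nat.card_eq_fintype_card]; rfl

theorem factorization_seven : (Nat.card (Equiv.Perm (Fin 7))).factorization 2 = 4 := by
  rw [Nat.card_perm, Nat.card_eq_fintype_card, Fintype.card_fin,
    show (Nat.factorial 7) = 2 ^ 4 * 315 by norm_num [Nat.factorial],
    Nat.factorization_mul (by norm_num) (by norm_num), Finsupp.add_apply,
    Nat.Prime.factorization_pow Nat.prime_two, Nat.factorization_eq_zero_of_not_dvd (by norm_num)]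
  simp

theorem factorization_alt_seven : (Nat.card (alternatingGroup (Fin 7))).factorization 2 = 3 := by
  rw [nat_card_alternatingGroup, Nat.card_eq_fintype_card, Fintype.card_fin,
    show (Nat.factorial 7) / 2 = 2 ^ 3 * 315 by norm_num [Nat.factorial],
    Nat.factorization_mul (by norm_num) (by norm_num), Finsupp.add_apply,
    Nat.Prime.factorization_pow Nat.prime_two, Nat.factorization_eq_zero_of_not_dvd (by norm_num)]
  simp

/-- Every 2-group of permutations of seven points moves into the standard Sylow subgroup. -/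
theorem exists_seven_lift {S : Type*} [Group S] (hS : IsPGroup 2 S) (θ : S →* Equiv.Perm (Fin 7)) :
    ∃ (g : Equiv.Perm (Fin 7)) (f : S →* SylowSeven), ∀ s, sevenHom (f s) = g * θ s * g⁻¹ := by
  haveI : Fact (Nat.Prime 2) := ⟨Nat.prime_two⟩
  let P : Sylow 2 (Equiv.Perm (Fin 7)) := Sylow.ofCard sevenHom.range (by
    rw [← Nat.card_congr (MonoidHom.ofInjective sevenHom_injective).toEquiv, card_sylowSeven,
      factorization_seven]
    norm_num)
  have hT : IsPGroup 2 θ.range := by
    rw [MonoidHom.range_eq_map]; exact IsPGroup.map (hS.to_subgroup ⊤) θ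
  obtain ⟨g, hg⟩ := CfsgLib.Involutions.exists_conj_le_sylow (T := θ.range) hT P
  have hmem : ∀ s : S, g * θ s * g⁻¹ ∈ sevenHom.range := fun s => by
    have := hg (θ s) ⟨s, rfl⟩
    exact this
  set e := MonoidHom.ofInjective sevenHom_injective
  refine ⟨g, e.symm.toMonoidHom.comp
    { toFun := fun s => ⟨g * θ s * g⁻¹, hmem s⟩
      map_one' := Subtype.ext (by simp)
      map_mul' := fun s t => Subtype.ext (by
        show g * θ (s * t) * g⁻¹ = g * θ s * g⁻¹ * (g * θ t * g⁻¹)
        rw [map_mul]; group) }, fun s => ?_⟩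
  exact congrArg Subtype.val (e.apply_symm_apply ⟨g * θ s * g⁻¹, hmem s⟩)

theorem map_center_equiv {A B : Type*} [Group A] [Group B] (e : A ≃* B) :
    (center A).map e.toMonoidHom = center B := by
  ext x
  constructor
  · rintro ⟨a, ha, rfl⟩
    refine mem_center_iff.2 fun b => ?_
    obtain ⟨c, rfl⟩ := e.surjective b
    show e c * e a = e a * e c
    rw [← map_mul, ← map_mul, mem_center_iff.1 ha c]
  · intro hx
    refine ⟨e.symm x, mem_center_iff.2 fun b => e.injective ?_, e.apply_symm_apply x⟩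
    rw [map_mul, map_mul, e.apply_symm_apply, mem_center_iff.1 hx]

/-- The action of automorphisms on the central quotient. -/
def autQuot (A : Type*) [Group A] : MulAut A →* MulAut (A ⧸ center A) where
  toFun a := QuotientGroup.congr _ _ a (map_center_equiv a)
  map_one' := by
    ext q
    induction q using QuotientGroup.induction_on with | H y => rfl
  map_mul' a b := by
    ext q
    induction q using QuotientGroup.induction_on with | H y => rfl

/-- No double cover of `A₇` is normal in a group with quasi-dihedral or wreathed Sylow 2-subgroups. -/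
theorem no_alt_seven {H : Type u} [Group H] [Finite H] (S : Sylow 2 H)
    (hS : Cfsg.IsQuasiDihedral (S : Subgroup H) ∨ Cfsg.IsWreathed (S : Subgroup H))
    (D : Subgroup H) [D.Normal]
    (huniq : ∀ s t : H, s ∈ D → t ∈ D → orderOf s = 2 → orderOf t = 2 → Commute s t → s = t)
    (χ : D ⧸ center D ≃* alternatingGroup (Fin 7)) : False := by
  haveI : Fact (Nat.Prime 2) := ⟨Nat.prime_two⟩
  obtain ⟨a, b, hab⟩ := two_generated hS
  -- the Sylow subgroup is not inside `D`
  have hnle : ¬ (S : Subgroup H) ≤ D := by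
    intro hle
    obtain ⟨u, v, hu, hv, hc, hne⟩ := two_involutions hS
    exact hne (Subtype.ext (huniq u v (hle u.2) (hle v.2) (by rwa [Subgroup.orderOf_coe])
      (by rwa [Subgroup.orderOf_coe]) (congrArg Subtype.val hc.eq)))
  set N := D.subgroupOf (S : Subgroup H) with hN
  obtain ⟨M, hNM, hM⟩ := exists_index_two N (fun e => hnle (subgroupOf_eq_top.1 e))
    (S.isPGroup'.to_quotient N)
  let e₂ : (S : Subgroup H) →* Multiplicative (ZMod 2) :=
    haveI := Classical.decPred (· ∈ M)
    MonoidHom.mk' (fun s => if s ∈ M then 1 else Multiplicative.ofAdd 1) (fun s t => by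
      have h := Subgroup.mul_mem_iff_of_index_two hM (a := s) (b := t)
      by_cases hs : s ∈ M <;> by_cases ht : t ∈ M <;>
        simp [h, hs, ht, ofAdd_one_sq])
  -- the action on `A₇`
  set σ : D →* alternatingGroup (Fin 7) := χ.toMonoidHom.comp (QuotientGroup.mk' (center D)) with hσ
  have hσs : Function.Surjective σ := χ.surjective.comp (QuotientGroup.mk'_surjective _)
  let E := MulEquiv.ofBijective _ (CfsgLib.Schur.conjNormal_bijective (n := 7) (by norm_num) (by norm_num))
  let θ : H →* Equiv.Perm (Fin 7) := E.symm.toMonoidHom.comp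
    ((MulAut.congr χ).toMonoidHom.comp ((autQuot D).comp MulAut.conjNormal))
  have hθD : ∀ d : D, θ d = (σ d : Equiv.Perm (Fin 7)) := by
    intro d
    refine E.injective ?_
    show E (E.symm _) = _
    rw [E.apply_symm_apply]
    refine MulEquiv.ext fun x => ?_
    obtain ⟨y, rfl⟩ := hσs x
    refine Subtype.ext ?_
    show ((χ ((autQuot D) (MulAut.conjNormal (d : H)) (χ.symm (σ y))) :
      alternatingGroup (Fin 7)) : Equiv.Perm (Fin 7)) =
      (σ d : Equiv.Perm (Fin 7)) * (σ y : Equiv.Perm (Fin 7)) * (σ d : Equiv.Perm (Fin 7))⁻¹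
    rw [show χ.symm (σ y) = QuotientGroup.mk' (center D) y from χ.symm_apply_apply _]
    have h1 : (autQuot D) (MulAut.conjNormal (d : H)) (QuotientGroup.mk' (center D) y) =
        QuotientGroup.mk' (center D) (d * y * d⁻¹) := by
      show QuotientGroup.mk' (center D) (MulAut.conjNormal (d : H) y) = _
      congr 1
    rw [h1]
    show ((σ (d * y * d⁻¹) : alternatingGroup (Fin 7)) : Equiv.Perm (Fin 7)) = _
    rw [map_mul, map_mul, map_inv]
    all_goals rfl
  obtain ⟨g, f, hf⟩ := exists_seven_lift S.isPGroup' (θ.comp (S : Subgroup H).subtype)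
  by_cases hodd : ∃ h : H, Equiv.Perm.sign (θ h) ≠ 1
  · -- the image is the symmetric group
    obtain ⟨h₀, h₀s⟩ := hodd
    have heven : ∀ τ : Equiv.Perm (Fin 7), Equiv.Perm.sign τ = 1 → τ ∈ θ.range := by
      intro τ hτ
      obtain ⟨d, hd⟩ := hσs ⟨τ, hτ⟩
      exact ⟨d, (hθD d).trans (congrArg Subtype.val hd)⟩
    have hθs : Function.Surjective θ := by
      intro τ
      by_cases hτ : Equiv.Perm.sign τ = 1
      · exact MonoidHom.mem_range.1 (heven τ hτ)
      · obtain ⟨h₁, h₁e⟩ := heven (τ * θ h₀) (by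
          rw [map_mul, (Int.units_eq_one_or (Equiv.Perm.sign τ)).resolve_left hτ,
            (Int.units_eq_one_or _).resolve_left h₀s]
          all_goals rfl)
        exact ⟨h₁ * h₀⁻¹, by rw [map_mul, map_inv, h₁e, mul_inv_cancel_right]⟩
    have hcard : Nat.card ((S : Subgroup H).map θ) = 16 := by
      rw [← Sylow.coe_mapSurjective hθs S, Sylow.card_eq_multiplicity, factorization_seven]
      norm_num
    have hfs : Function.Surjective f := by
      rw [← MonoidHom.range_eq_top]
      refine Subgroup.eq_top_of_le_card _ ?_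
      rw [card_sylowSeven, ← hcard]
      have hm : ((S : Subgroup H).map θ).map (MulAut.conj g).toMonoidHom = f.range.map sevenHom := by
        ext x
        constructor
        · rintro ⟨_, ⟨s, hs, rfl⟩, rfl⟩
          exact ⟨f ⟨s, hs⟩, ⟨_, rfl⟩, hf ⟨s, hs⟩⟩
        · rintro ⟨_, ⟨s, rfl⟩, rfl⟩
          exact ⟨θ s, mem_map_of_mem θ s.2, (hf s).symm⟩
      rw [← Subgroup.card_map_of_injective (f := sevenHom) (K := f.range) sevenHom_injective, ← hm,
        Subgroup.card_map_of_injective (f := (MulAut.conj g).toMonoidHom) (MulAut.conj g).injective]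
    exact not_surjective_eight hab (sevenAb.comp f) (sevenAb_surjective.comp hfs)
  · -- the image is the alternating group
    push Not at hodd
    obtain ⟨SD⟩ : Nonempty (Sylow 2 D) := inferInstance
    obtain ⟨c, hc⟩ := CfsgLib.Involutions.exists_conj_le_sylow (SD.isPGroup'.map D.subtype) S
    set A := ((SD : Subgroup D).map σ).map (alternatingGroup (Fin 7)).subtype with hA
    have hAcard : Nat.card A = 8 := by
      rw [hA, Subgroup.card_subtype, ← Sylow.coe_mapSurjective hσs SD, Sylow.card_eq_multiplicity,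
        factorization_alt_seven]
      norm_num
    have hle : A.map (MulAut.conj (g * θ c)).toMonoidHom ≤ (N.map f).map sevenHom := by
      rintro _ ⟨_, ⟨_, ⟨d, hd, rfl⟩, rfl⟩, rfl⟩
      have hs : c * (d : H) * c⁻¹ ∈ (S : Subgroup H) := hc _ (mem_map_of_mem D.subtype hd)
      refine ⟨f ⟨_, hs⟩, mem_map_of_mem f ?_, ?_⟩
      · exact (inferInstance : D.Normal).conj_mem _ d.2 c
      · rw [hf]
        show g * θ (c * (d : H) * c⁻¹) * g⁻¹ = g * θ c * (σ d : Equiv.Perm (Fin 7)) * (g * θ c)⁻¹
        rw [map_mul, map_mul, map_inv, hθD]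
        group
    have hNeq : N.map f = (Equiv.Perm.sign.comp sevenHom).ker := by
      refine Subgroup.eq_of_le_of_card_ge ?_ ?_
      · rintro _ ⟨s, -, rfl⟩
        rw [MonoidHom.mem_ker, MonoidHom.comp_apply, hf, map_mul, map_mul, MonoidHom.comp_apply,
          hodd, mul_one, map_inv, mul_inv_cancel]
      · rw [card_even_seven, ← Subgroup.card_map_of_injective (f := sevenHom) sevenHom_injective]
        calc 8 = Nat.card (A.map (MulAut.conj (g * θ c)).toMonoidHom) := by
              rw [Subgroup.card_map_of_injective (MulEquiv.injective _), hAcard]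
          _ ≤ _ := Subgroup.card_le_of_le hle
    let F : (S : Subgroup H) →* Eight :=
      MonoidHom.mk' (fun s => Multiplicative.ofAdd
        ((Multiplicative.toAdd (sevenAb (f s))).2.1, (Multiplicative.toAdd (sevenAb (f s))).2.2,
          Multiplicative.toAdd (e₂ s))) (fun s t => by
        simp only [map_mul, toAdd_mul, Prod.snd_add, Prod.fst_add]
        rfl)
    refine not_surjective_eight hab F fun t => ?_
    obtain ⟨x, y, z⟩ := t
    obtain ⟨s₀, hs₀⟩ : ∃ s₀, Multiplicative.toAdd (e₂ s₀) = z := by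
      obtain rfl | rfl : z = 0 ∨ z = 1 := by
        exact zmod_two z
      · exact ⟨1, by rw [map_one]; rfl⟩
      · obtain ⟨s₁, hs₁⟩ : ∃ s₁, s₁ ∉ M := by
          by_contra hall
          push Not at hall
          rw [(eq_top_iff' M).2 hall, index_top] at hM
          omega
        exact ⟨s₁, by simp [e₂, hs₁]⟩
    obtain ⟨p, hp, hpab⟩ := sevenAb_even
      (x - (Multiplicative.toAdd (sevenAb (f s₀))).2.1) (y - (Multiplicative.toAdd (sevenAb (f s₀))).2.2)
    obtain ⟨n, hn, rfl⟩ : p ∈ N.map f := hNeq ▸ hp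
    refine ⟨n * s₀, ?_⟩
    have hn1 : e₂ n = 1 := by simp [e₂, hNM hn]
    show Multiplicative.ofAdd _ = Multiplicative.ofAdd (x, y, z)
    rw [map_mul f, map_mul sevenAb, map_mul e₂, hn1, one_mul, hs₀, toAdd_mul, Prod.snd_add, hpab]
    simp

/-- A nonabelian simple-modulo-centre description of the special linear group. -/
theorem sl_quasisimple {F : Type} [Field F] [Fintype F] (h : 3 < Fintype.card F) :
    Cfsg.IsQuasisimple (Matrix.SpecialLinearGroup (Fin 2) F) :=
  CfsgLib.Components39.sl_isQuasisimple le_rfl (fun _ => h)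

theorem quasisimple_congr {A B : Type*} [Group A] [Group B] (e : A ≃* B)
    (h : Cfsg.IsQuasisimple B) : Cfsg.IsQuasisimple A := by
  haveI := h.1
  haveI := h.2
  refine ⟨Group.IsPerfect.ofSurjective (f := e.symm.toMonoidHom) e.symm.surjective, ?_⟩
  haveI : Nontrivial (A ⧸ center A) :=
    (QuotientGroup.congr _ _ e (map_center_equiv e)).toEquiv.nontrivial
  exact IsSimpleGroup.isSimpleGroup_of_surjective _
    (QuotientGroup.congr _ _ e.symm (map_center_equiv e.symm)).surjective

/-- An element of order four. -/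
theorem exists_order_four {F : Type} [Field F] (h2 : (2 : F) ≠ 0) :
    ∃ u : Matrix.SpecialLinearGroup (Fin 2) F, orderOf u = 2 ^ 2 := by
  haveI : Fact (Nat.Prime 2) := ⟨Nat.prime_two⟩
  set u : Matrix.SpecialLinearGroup (Fin 2) F :=
    ⟨!![0, 1; -1, 0], by simp [Matrix.det_fin_two]⟩ with hu
  have hM : ((u * u : Matrix.SpecialLinearGroup (Fin 2) F) : Matrix (Fin 2) (Fin 2) F) =
      !![-1, 0; 0, -1] := by
    rw [Matrix.SpecialLinearGroup.coe_mul]
    ext i j
    fin_cases i <;> fin_cases j <;> simp [hu, Matrix.mul_apply, Fin.sum_univ_two]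
  refine ⟨u, orderOf_eq_prime_pow (n := 1) ?_ ?_⟩
  · intro h
    rw [pow_one, pow_two] at h
    rw [h, Matrix.SpecialLinearGroup.coe_one] at hM
    have h1 := congrFun (congrFun hM 0) 0
    simp at h1
    exact h2 (by linear_combination h1)
  · rw [show 2 ^ (1 + 1) = 2 * 2 by norm_num, pow_mul, pow_two, pow_two]
    refine Subtype.ext ?_
    rw [Matrix.SpecialLinearGroup.coe_mul, hM, Matrix.SpecialLinearGroup.coe_one]
    ext i j
    fin_cases i <;> fin_cases j <;> simp [Matrix.mul_apply, Fin.sum_univ_two]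

theorem two_ne_zero_of_odd {F : Type} [Field F] [Fintype F] (h : Odd (Fintype.card F)) :
    (2 : F) ≠ 0 := by
  intro h2
  haveI : CharP F 2 := CharTwo.of_one_ne_zero_of_two_eq_zero one_ne_zero h2
  obtain ⟨n, -, hn⟩ := FiniteField.card F 2
  rw [hn] at h
  exact (Nat.not_even_iff_odd.2 h) (Nat.even_pow.2 ⟨even_two, n.ne_zero⟩)

/-- `SL₂` over a field of odd order has no subgroup of index two. -/
theorem sl_index_ne_two {F : Type} [Field F] [Fintype F] (h : Odd (Fintype.card F))
    (M : Subgroup (Matrix.SpecialLinearGroup (Fin 2) F)) : M.index ≠ 2 := by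
  by_cases h3 : 3 < Fintype.card F
  · haveI := (sl_quasisimple h3).1
    exact CfsgLib.GWCons.RankOneCover.index_ne_two M
  have hq : Fintype.card F = 3 := by
    have := Fintype.one_lt_card (α := F)
    obtain ⟨k, hk⟩ := h
    omega
  haveI : Fact (Nat.Prime 3) := ⟨by norm_num⟩
  let φ : ZMod 3 ≃+* F := ZMod.ringEquivOfPrime F (by norm_num) hq
  let ψ : Matrix.SpecialLinearGroup (Fin 2) (ZMod 3) →* Matrix.SpecialLinearGroup (Fin 2) F :=
    Matrix.SpecialLinearGroup.map φ.toRingHom
  have hψ : Function.Surjective ψ := fun x => ⟨Matrix.SpecialLinearGroup.map φ.symm.toRingHom x, by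
    ext i j; simp [ψ]⟩
  intro hM
  have hM' : (M.comap ψ).index = 2 := by rw [index_comap_of_surjective _ hψ, hM]
  obtain ⟨s1, -, -, -, s5⟩ := Cfsg.Agent.S0106.sl_rel
  have hsq := fun x => Subgroup.sq_mem_of_index_two hM' x
  have ht : Cfsg.Agent.S0106.st ∈ M.comap ψ := by
    have := hsq (Cfsg.Agent.S0106.st ^ 2)
    rwa [← pow_mul, show Cfsg.Agent.S0106.st ^ (2 * 2) = Cfsg.Agent.S0106.st by
      rw [show 2 * 2 = 3 + 1 by norm_num, pow_add, s1, one_mul, pow_one]] at this
  have hi : Cfsg.Agent.S0106.si ∈ M.comap ψ := by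
    generalize Cfsg.Agent.S0106.si = i at s5
    generalize Cfsg.Agent.S0106.st = t at s5 ht
    have h1 : ∀ y, t * y * t⁻¹ ∈ M.comap ψ ↔ y ∈ M.comap ψ := by
      intro y
      rw [mul_mem_cancel_right (inv_mem ht), mul_mem_cancel_left ht]
    have h2 : t * (t * i * t⁻¹) * t⁻¹ ∈ M.comap ψ ↔ i ∈ M.comap ψ := by rw [h1, h1]
    rw [s5, Subgroup.mul_mem_iff_of_index_two hM', h1] at h2
    tauto
  have htop : M.comap ψ = ⊤ := (eq_top_iff' _).2 fun x => by
    obtain ⟨a, b, c, rfl⟩ := Cfsg.Agent.S0106.sl_gen x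
    exact mul_mem (mul_mem (pow_mem hi _) (pow_mem (mul_mem (mul_mem ht hi) (inv_mem ht)) _))
      (pow_mem ht _)
  rw [htop, index_top] at hM'
  omega

/-- Order of the odd field `SL₂`: at least 24, and exactly 24 only for three elements. -/
theorem sl_card_cases {F : Type} [Field F] [Fintype F] (h : Odd (Fintype.card F)) :
    (Fintype.card F = 3 ∧ Nat.card (Matrix.SpecialLinearGroup (Fin 2) F) = 24) ∨
      (3 < Fintype.card F ∧ 24 < Nat.card (Matrix.SpecialLinearGroup (Fin 2) F)) := by
  have hq := Fintype.one_lt_card (α := F)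
  rw [CfsgLib.Schur.natCard_slTwo]
  obtain ⟨k, hk⟩ := h
  rw [hk] at hq ⊢
  rcases Nat.lt_or_ge k 2 with hk2 | hk2
  · obtain rfl : k = 1 := by omega
    exact Or.inl ⟨rfl, rfl⟩
  · refine Or.inr ⟨by omega, ?_⟩
    calc 24 < (2 * 2 + 1) * ((2 * 2 + 1 - 1) * (2 * 2 + 1 + 1)) := by norm_num
      _ ≤ _ := Nat.mul_le_mul (by omega) (Nat.mul_le_mul (by omega) (by omega))

/-- A solvable group with quaternion Sylow 2-subgroups, trivial core and no subgroup of index two
is `SL(2,3)`. -/
theorem solvable_case {K : Type u} [Group K] [Finite K] [Group.IsSolvable K]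
    (hO : Cfsg.oddCore K = ⊥) (hK2 : ∀ M : Subgroup K, M.index ≠ 2)
    (P : Sylow 2 K) {m : ℕ} (hm : 1 ≤ m) (eP : (P : Subgroup K) ≃* QuaternionGroup (2 ^ m)) :
    Nat.card K = 24 ∧ Nonempty (K ≃* Matrix.SpecialLinearGroup (Fin 2) (ZMod 3)) := by
  haveI : Fact (Nat.Prime 2) := ⟨Nat.prime_two⟩
  obtain ⟨L, hLS, -, -⟩ := CfsgLib.Involutions.LargeQuat.exists_of_equiv P (m - 1)
    (by rwa [show m - 1 + 1 = m by omega])
  have h8 : 8 ∣ Nat.card K := by
    have h1 := Subgroup.card_subgroup_dvd_card (P : Subgroup K)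
    rw [Nat.card_congr eP.toEquiv, Nat.card_eq_fintype_card, QuaternionGroup.card] at h1
    refine Dvd.dvd.trans ?_ h1
    exact ⟨2 ^ (m - 1), by
      rw [show (8 : ℕ) = 4 * 2 by norm_num, mul_assoc, ← pow_succ', Nat.sub_add_cancel hm]⟩
  haveI : Nontrivial K := Finite.one_lt_card_iff_nontrivial.1
    (by have := Nat.le_of_dvd Nat.card_pos h8; omega)
  set F := Cfsg.pCore 2 K with hF
  haveI : F.Normal := by rw [hF]; infer_instance
  have hFp : IsPGroup 2 F := CfsgLib.PCore.pCore_isPGroup (p := 2)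
  have hn2 : ¬ IsPGroup 2 K := by
    intro hp
    obtain ⟨M, -, hM⟩ := exists_index_two (⊥ : Subgroup K) bot_ne_top
      (hp.to_quotient ⊥)
    exact hK2 M hM
  obtain ⟨g, hg, x, hxF, hgx⟩ : ∃ g : K, Odd (orderOf g) ∧ ∃ x ∈ F, g * x ≠ x * g := by
    by_contra h
    push Not at h
    exact hn2 (CfsgLib.InvChar.isPGroup_two_of_odd_centralize hO h)
  have huniq : ∀ a b : F, orderOf a = 2 → orderOf b = 2 → a = b := by
    refine CfsgLib.Involutions.unique_involution_of_rank_one (fun s t hs ht hc => ?_) hFp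
    exact L.eq_of_commute hs ht hc
  have hgn : g ∈ normalizer (F : Set K) := by
    rw [normalizer_eq_top_iff.2 inferInstance]; exact mem_top g
  rcases CfsgLib.TwoGroups.OneInvolution.isCyclic_or_quaternion hFp huniq with hc | ⟨k, hk, ⟨e⟩⟩
  · exact absurd (CfsgLib.InvChar.commute_of_odd_of_cyclic hg F hFp hgn hxF) hgx
  have hσord : ∀ {B : Type} [Group B] (c : F ≃* B), Odd (orderOf (MulAut.congr c (MulAut.conjNormal g))) := by
    intro B _ c
    rw [show orderOf (MulAut.congr c (MulAut.conjNormal g)) = orderOf (MulAut.conjNormal (H := F) g) from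
      orderOf_injective (MulAut.congr c).toMonoidHom (MulAut.congr c).injective _]
    exact hg.of_dvd_nat (orderOf_map_dvd _ g)
  by_cases hk2 : 2 ≤ k
  · exfalso
    have h1 := Cfsg.Agent.S0106.quaternion_aut_trivial hk2 _ (hσord e)
    have h2 : MulAut.conjNormal (H := F) g = 1 :=
      (MulAut.congr e).injective (h1.trans (map_one (MulAut.congr e)).symm)
    refine hgx ?_
    have h3 := congrArg (fun a : MulAut F => ((a ⟨x, hxF⟩ : F) : K)) h2
    simp only [MulAut.conjNormal_apply, MulAut.one_apply] at h3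
    exact mul_inv_eq_iff_eq_mul.1 h3
  obtain rfl : k = 1 := by omega
  obtain ⟨e8⟩ : Nonempty (F ≃* QuaternionGroup 2) := ⟨e⟩
  obtain ⟨ES⟩ := Cfsg.Agent.S3742.result
  let ρ : K →* Equiv.Perm (Fin 4) :=
    ES.toMonoidHom.comp ((MulAut.congr e8).toMonoidHom.comp (MulAut.conjNormal (H := F)))
  have hker : ∀ y ∈ ρ.ker, y * y = 1 := by
    intro y hy
    have h1 : MulAut.conjNormal (H := F) y = 1 := by
      refine (MulAut.congr e8).injective (ES.injective ?_)
      rw [map_one, map_one]
      exact hy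
    have hyc : y ∈ centralizer (F : Set K) := by
      intro z hz
      have h3 := congrArg (fun a : MulAut F => ((a ⟨z, hz⟩ : F) : K)) h1
      simp only [MulAut.conjNormal_apply, MulAut.one_apply] at h3
      exact (mul_inv_eq_iff_eq_mul.1 h3).symm
    have hyF : y ∈ F := CfsgLib.InvChar.centralizer_pCore_le hO hyc
    have hcent : ∀ q : QuaternionGroup 2, (∀ r, q * r = r * q) → q * q = 1 := by decide +kernel
    have := hcent (e8 ⟨y, hyF⟩) fun r => by
      obtain ⟨z, rfl⟩ := e8.surjective r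
      rw [← map_mul, ← map_mul]
      exact congrArg e8 (Subtype.ext (hyc z z.2).symm)
    rw [← map_mul, ← map_one e8] at this
    exact congrArg Subtype.val (e8.injective this)
  have hker2 : Nat.card ρ.ker ≤ 2 := by
    classical
    refine le_trans (Nat.card_le_card_of_injective
      (fun y : ρ.ker => decide ((y : K) = 1)) ?_) (by simp)
    intro y z hyz
    apply Subtype.ext
    simp only [decide_eq_decide] at hyz
    by_cases hy1 : (y : K) = 1
    · rw [hy1, hyz.1 hy1]
    have hz1 : (z : K) ≠ 1 := fun h => hy1 (hyz.2 h)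
    have ho : ∀ w ∈ ρ.ker, w ≠ 1 → orderOf w = 2 := fun w hw hne =>
      CfsgLib.Involutions.orderOf_eq_two_iff_mul.mpr ⟨hne, hker w hw⟩
    have hyz' : (y : K) * z ∈ ρ.ker := mul_mem y.2 z.2
    have hcomm : Commute (y : K) z := by
      have h := hker _ hyz'
      have hy' := inv_eq_of_mul_eq_one_right (hker _ y.2)
      have hz' := inv_eq_of_mul_eq_one_right (hker _ z.2)
      have := inv_eq_of_mul_eq_one_right h
      rw [mul_inv_rev, hy', hz'] at this
      exact this.symm
    exact L.eq_of_commute (ho _ y.2 hy1) (ho _ z.2 hz1) hcomm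
  have hρ : ¬ Function.Surjective ρ := by
    intro hs
    have hs' : Function.Surjective (Equiv.Perm.sign.comp ρ) :=
      (Equiv.Perm.sign_surjective (Fin 4)).comp hs
    refine hK2 (Equiv.Perm.sign.comp ρ).ker ?_
    rw [index_ker, MonoidHom.range_eq_top.2 hs', card_top, Nat.card_eq_fintype_card]
    rfl
  have hran : Nat.card ρ.range ≤ 12 := by
    obtain ⟨j, hj⟩ := Subgroup.card_subgroup_dvd_card ρ.range
    rw [Nat.card_perm, Nat.card_eq_fintype_card, Fintype.card_fin,
      show Nat.factorial 4 = 24 by rfl] at hj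
    rcases Nat.lt_or_ge j 2 with h | h
    · exfalso
      obtain rfl : j = 1 := by
        rcases Nat.eq_zero_or_pos j with rfl | h0
        · simp at hj
        · omega
      refine hρ (MonoidHom.range_eq_top.1 (eq_top_of_le_card _ ?_))
      rw [Nat.card_perm, Nat.card_eq_fintype_card (α := Fin 4), Fintype.card_fin,
        show Nat.factorial 4 = 24 by rfl]
      omega
    · have := Nat.mul_le_mul_left (Nat.card ρ.range) h
      omega
  have hcard : Nat.card K = 24 := by
    have h1 := ρ.ker.card_mul_index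
    rw [index_ker] at h1
    have hle : Nat.card K ≤ 24 := by
      rw [← h1]; exact (Nat.mul_le_mul hker2 hran).trans (by norm_num)
    have hne : ∀ i, Nat.card K ≠ 2 ^ i := fun i hi => hn2 (IsPGroup.of_card hi)
    have h3 := hne 3
    have h4 := hne 4
    norm_num at h3 h4
    obtain ⟨j, hj⟩ := h8
    have := Nat.card_pos (α := K)
    omega
  refine ⟨hcard, ?_⟩
  rcases Cfsg.Agent.S0106.result P m hm ⟨eP⟩ with hnc | ⟨A, B, hB, ⟨eAB⟩⟩
  · exfalso
    obtain ⟨Q, N, hNn, hQN⟩ := hnc
    have hN : N = ⊥ := by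
      rw [eq_bot_iff, ← hO]
      refine CfsgLib.PCore.le_pPrimeCore_of_not_dvd hNn ?_
      intro hd
      have h2 := hQN.index_eq_card
      exact Q.not_dvd_index (h2 ▸ hd)
    have htop : (Q : Subgroup K) = ⊤ := by
      have := hQN.sup_eq_top
      rwa [hN, bot_sup_eq] at this
    exact hn2 (Q.isPGroup'.of_equiv ((MulEquiv.subgroupCongr htop).trans topEquiv))
  · haveI := hB
    have h24 : Nat.card (A ⧸ B.subgroupOf A) = 24 := by
      rw [Nat.card_congr eAB.toEquiv]
      exact CfsgLib.Large.SLTwoThree.card_sl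
    have hA : A = ⊤ := by
      refine eq_top_of_le_card _ ?_
      rw [hcard, ← h24]
      exact Nat.card_le_card_of_surjective _ Quotient.mk''_surjective
    have hbot : B.subgroupOf A = ⊥ := by
      refine Subgroup.eq_bot_of_card_eq _ ?_
      have h2 := Subgroup.card_eq_card_quotient_mul_card_subgroup (B.subgroupOf A)
      rw [h24] at h2
      have hA' : Nat.card A = 24 := by rw [hA, card_top, hcard]
      omega
    exact ⟨(topEquiv.symm.trans (MulEquiv.subgroupCongr hA.symm)).trans
      ((QuotientGroup.quotientBot.symm.trans (QuotientGroup.quotientMulEquivOfEq hbot.symm)).trans eAB)⟩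

/-- S1216 from the classification of perfect groups with dihedral Sylow 2-subgroups. -/
theorem main {H : Type u} [Group H] [Finite H]
    (hGW : CfsgLib.GWCons.RankOneCover.DihedralClassification.{u}) (S : Sylow 2 H)
    (hS : Cfsg.IsQuasiDihedral (S : Subgroup H) ∨ Cfsg.IsWreathed (S : Subgroup H))
    (hO : Cfsg.oddCore H = ⊥) (K : Subgroup H) [K.Normal] {a : ℕ} (ha : K.index = 2 ^ a)
    (hK2 : ∀ M : Subgroup ↥K, M.index ≠ 2)
    (hQ : ∀ P : Sylow 2 ↥K, ∃ m : ℕ, 1 ≤ m ∧
      Nonempty ((P : Subgroup ↥K) ≃* QuaternionGroup (2 ^ m))) :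
    ∃ L₀ : Subgroup H, L₀.Normal ∧
      (∃ (F : Type) (_ : Field F) (_ : Fintype F), Odd (Fintype.card F) ∧
        Nonempty (L₀ ≃* Matrix.SpecialLinearGroup (Fin 2) F)) ∧
      ∀ L₁ : Subgroup H, L₁.Normal → (∃ (F : Type) (_ : Field F) (_ : Fintype F),
        Odd (Fintype.card F) ∧ Nonempty (L₁ ≃* Matrix.SpecialLinearGroup (Fin 2) F)) → L₁ = L₀ := by
  haveI : Fact (Nat.Prime 2) := ⟨Nat.prime_two⟩
  haveI : Fact (Nat.Prime 3) := ⟨by norm_num⟩
  have hKO : Cfsg.oddCore K = ⊥ := CfsgLib.PCore.pPrimeCore_eq_bot_of_normal K hO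
  obtain ⟨P⟩ : Nonempty (Sylow 2 K) := inferInstance
  obtain ⟨m, hm, ⟨eP⟩⟩ := hQ P
  obtain ⟨L, -, -, -⟩ := CfsgLib.Involutions.LargeQuat.exists_of_equiv P (m - 1)
    (by rwa [show m - 1 + 1 = m by omega])
  have huniq : ∀ s t : H, s ∈ K → t ∈ K → orderOf s = 2 → orderOf t = 2 → Commute s t → s = t :=
    fun s t hs ht h1 h2 hc => congrArg Subtype.val (L.eq_of_commute (s := (⟨s, hs⟩ : K))
      (t := ⟨t, ht⟩) (by rwa [← Subgroup.orderOf_coe]) (by rwa [← Subgroup.orderOf_coe])
      (Subtype.ext hc.eq))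
  have hle : ∀ L₁ : Subgroup H, (∃ (F : Type) (_ : Field F) (_ : Fintype F),
      Odd (Fintype.card F) ∧ Nonempty (L₁ ≃* Matrix.SpecialLinearGroup (Fin 2) F)) → L₁ ≤ K := by
    rintro L₁ ⟨F, _, _, hodd, ⟨e⟩⟩
    exact le_of_no_index_two L₁ K
      (fun M hM => sl_index_ne_two hodd (M.map e.toMonoidHom) ((M.index_map_equiv e).trans hM)) ha
  obtain ⟨D, hDK, hDn, hDD, hDbot⟩ := CfsgLib.FTCons.PrimePowerClassTwo.exists_perfect_normal K
  haveI := hDn
  by_cases hD : D = ⊥
  · haveI := hDbot hD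
    obtain ⟨hcard, ⟨e⟩⟩ := solvable_case hKO hK2 P hm eP
    refine ⟨K, inferInstance, ⟨ZMod 3, inferInstance, inferInstance, ⟨1, by rw [ZMod.card]; norm_num⟩, ⟨e⟩⟩, ?_⟩
    rintro L₁ - h1
    have hL₁K := hle L₁ h1
    obtain ⟨F, _, _, hodd, ⟨e₁⟩⟩ := h1
    refine eq_of_le_of_card_ge hL₁K ?_
    rw [hcard, Nat.card_congr e₁.toEquiv]
    rcases sl_card_cases hodd with ⟨-, h⟩ | ⟨-, h⟩ <;> omega
  -- the perfect case
  have hDp : Group.IsPerfect D := by
    refine ⟨map_injective D.subtype_injective ?_⟩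
    rw [map_subtype_commutator, hDD, ← MonoidHom.range_eq_map, range_subtype]
  haveI := hDp
  haveI : Nontrivial D := (Subgroup.nontrivial_iff_ne_bot D).2 hD
  have huD : ∀ s t : H, s ∈ D → t ∈ D → orderOf s = 2 → orderOf t = 2 → Commute s t → s = t :=
    fun s t hs ht => huniq s t (hDK hs) (hDK ht)
  have h1 : Cfsg.PRankLE 2 1 D := by
    intro A hA hexp
    have hsub : ∀ x y : A, x ≠ 1 → y ≠ 1 → x = y := by
      intro x y hx hy
      have ho : ∀ w : A, w ≠ 1 → orderOf (((w : D) : H)) = 2 := fun w hw => by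
        rw [Subgroup.orderOf_coe, Subgroup.orderOf_coe]
        refine orderOf_eq_prime (Subtype.ext ?_) hw
        exact hexp _ w.2
      refine Subtype.ext (Subtype.ext (huD _ _ (x : D).2 (y : D).2 (ho x hx) (ho y hy) ?_))
      exact congrArg (fun w : A => ((w : D) : H)) (hA.is_comm.comm x y)
    classical
    refine le_trans (Nat.card_le_card_of_injective (fun x : A => decide (x = 1)) ?_) (by simp)
    intro x y hxy
    simp only [decide_eq_decide] at hxy
    by_cases hx : x = 1
    · rw [hx, hxy.1 hx]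
    · exact hsub x y hx (fun h => hx (hxy.2 h))
  have h2 : Even (Nat.card D) := by
    by_contra ho
    haveI : Group.IsSolvable D := CfsgLib.PF.oddSolvable D (Nat.not_even_iff_odd.1 ho)
    exact (Group.IsSolvable.commutator_lt_top_of_nontrivial D).ne hDp.commutator_eq_top
  have hDO : Cfsg.oddCore D = ⊥ := CfsgLib.PCore.pPrimeCore_eq_bot_of_normal D hO
  have eDO : D ⧸ Cfsg.oddCore D ≃* D :=
    (QuotientGroup.quotientMulEquivOfEq hDO).trans QuotientGroup.quotientBot
  rcases CfsgLib.GWCons.RankOneCover.main hGW hDp h1 h2 with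
    ⟨F, _, _, hodd, h3, ⟨ψ⟩⟩ | ⟨-, ⟨ψ⟩, -⟩
  swap
  · exact (no_alt_seven S hS D huD
      ((QuotientGroup.congr _ _ eDO.symm (map_center_equiv eDO.symm)).trans ψ)).elim
  set χ : D ≃* Matrix.SpecialLinearGroup (Fin 2) F := eDO.symm.trans ψ with hχ
  refine ⟨D, hDn, ⟨F, inferInstance, inferInstance, hodd, ⟨χ⟩⟩, ?_⟩
  intro L₁ hL₁ h1L
  haveI := hL₁
  have hL₁K := hle L₁ h1L
  obtain ⟨F₁, _, _, hodd₁, ⟨e₁⟩⟩ := h1L
  have hqD := quasisimple_congr χ (sl_quasisimple h3)
  rcases CfsgLib.Components.quasisimple_normal_eq_top_or_le_center hqD (L₁.subgroupOf D) with h | h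
  · -- `D` lies in `L₁`
    have hDL : D ≤ L₁ := subgroupOf_eq_top.1 h
    rcases sl_card_cases hodd₁ with ⟨-, hc⟩ | ⟨h3₁, -⟩
    · exfalso
      have hle' := Subgroup.card_le_of_le hDL
      rw [Nat.card_congr e₁.toEquiv, hc, Nat.card_congr χ.toEquiv] at hle'
      rcases sl_card_cases hodd with ⟨h', -⟩ | ⟨-, h'⟩ <;> omega
    rcases CfsgLib.Components.quasisimple_normal_eq_top_or_le_center
        (quasisimple_congr e₁ (sl_quasisimple h3₁)) (D.subgroupOf L₁) with h' | h'
    · exact le_antisymm (subgroupOf_eq_top.1 h') hDL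
    · exfalso
      refine CfsgLib.Components.quasisimple_not_isMulCommutative hqD ⟨⟨fun x y => Subtype.ext ?_⟩⟩
      have := mem_center_iff.1 (h' (show (⟨x, hDL x.2⟩ : L₁) ∈ D.subgroupOf L₁ from x.2))
        ⟨y, hDL y.2⟩
      exact (congrArg Subtype.val this).symm
  · -- `L₁` centralises `D`: impossible
    exfalso
    have hz : ∀ w ∈ D ⊓ L₁, ∀ d ∈ D, d * w = w * d := fun w hw d hd =>
      congrArg Subtype.val (mem_center_iff.1 (h (show (⟨w, hw.1⟩ : D) ∈ L₁.subgroupOf D from hw.2))
        ⟨d, hd⟩)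
    have hcomm : ⁅D, L₁⁆ ≤ D ⊓ L₁ := commutator_le_inf D L₁
    have hz' : ⁅⁅D, L₁⁆, D⁆ = ⊥ := by
      rw [commutator_eq_bot_iff_le_centralizer]
      intro w hw d hd
      exact hz w (hcomm hw) d hd
    have hzero : ⁅D, L₁⁆ = ⊥ := by
      have := Subgroup.commutator_commutator_eq_bot_of_rotate (H₁ := D) (H₂ := D) (H₃ := L₁) hz'
        (by rwa [commutator_comm L₁ D])
      rwa [hDD] at this
    rw [commutator_eq_bot_iff_le_centralizer] at hzero
    obtain ⟨v₀, hv₀⟩ := exists_order_four (two_ne_zero_of_odd hodd)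
    obtain ⟨u₀, hu₀⟩ := exists_order_four (two_ne_zero_of_odd hodd₁)
    set v : H := ((χ.symm v₀ : D) : H) with hv
    set u : H := ((e₁.symm u₀ : L₁) : H) with hu
    have hov : orderOf v = 4 := by
      rw [hv, Subgroup.orderOf_coe, MulEquiv.orderOf_eq, hv₀]; norm_num
    have hou : orderOf u = 4 := by
      rw [hu, Subgroup.orderOf_coe, MulEquiv.orderOf_eq, hu₀]; norm_num
    have hvD : v ∈ D := SetLike.coe_mem _
    have huL : u ∈ L₁ := SetLike.coe_mem _
    have hvu : Commute v u := (hzero hvD u huL).symm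
    have ho : ∀ w : H, orderOf w = 4 → orderOf (w ^ 2) = 2 := fun w hw => by
      rw [orderOf_pow' w two_ne_zero, hw]; rfl
    have hsq : u ^ 2 = v ^ 2 := huniq _ _ (pow_mem (hL₁K huL) _) (pow_mem (hDK hvD) _)
      (ho u hou) (ho v hov) (hvu.symm.pow_pow 2 2)
    have hw2 : (v * u⁻¹) ^ 2 = 1 := by
      rw [hvu.inv_right.mul_pow, inv_pow, hsq, mul_inv_cancel]
    have hvL : v ∈ L₁ := by
      by_cases hw1 : v * u⁻¹ = 1
      · rwa [mul_inv_eq_one.1 hw1]
      · have := huniq (v * u⁻¹) (u ^ 2) (mul_mem (hDK hvD) (inv_mem (hL₁K huL)))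
          (pow_mem (hL₁K huL) _) (orderOf_eq_prime hw2 hw1) (ho u hou)
          ((hvu.mul_left (Commute.refl u).inv_left).pow_right 2)
        rw [mul_inv_eq_iff_eq_mul] at this
        rw [this]
        exact mul_mem (pow_mem huL _) huL
    have hvc : (⟨v, hvD⟩ : D) ∈ center D := h hvL
    have hcard : Nat.card (center D) = 2 := by
      rw [← card_map_of_injective (f := χ.toMonoidHom) χ.injective, map_center_equiv,
        CfsgLib.PSL2.card_center_sl (two_ne_zero_of_odd hodd)]
    have := Subgroup.orderOf_dvd_natCard (center D) hvc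
    rw [hcard, Subgroup.orderOf_mk, hov] at this
    norm_num at this

end CfsgLib.GWCons.QDNormalSL
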