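import Mathlib
import Cfsg.Agent.Lib.PSL2.Dickson
import Cfsg.Agent.Lib.PSL2.MaxExceptional
import Cfsg.Agent.Lib.PSL2.Klein
import Cfsg.Agent.Lib.Recog.PGL2Spectrum

/-!
Two anticommuting traceless matrices of non-square determinant: their centralisers in `PSL₂(q)`
generate `PSL₂(q)`.
-/

set_option autoImplicit false
set_option linter.unusedSectionVars false
set_option linter.style.haveILetI false

open Matrix

namespace CfsgLib.GWCons.OuterTorus

open CfsgLib.PSL2

variable {F : Type*} [Field F] [Fintype F]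

local notation "M2" => Matrix (Fin 2) (Fin 2) F
local notation "PGL" => ProjGenLinGroup (Fin 2) F
local notation "PSL" => ProjectiveSpecialLinearGroup (Fin 2) F

theorem sq_eq_of_trace (M : M2) (h : M.trace = 0) : M * M = (-M.det) • 1 := by
  rw [CfsgLib.Recog.PGL2.charmat_two M, h, zero_smul, zero_sub, neg_smul]

theorem det_lin (M : M2) (h : M.trace = 0) (x y : F) :
    (x • 1 + y • M).det = x ^ 2 + y ^ 2 * M.det := by
  have h' : M 1 1 = -M 0 0 := by
    rw [Matrix.trace_fin_two] at h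
    linear_combination h
  simp [Matrix.det_fin_two, h']
  ring

theorem lin_mul (M : M2) (h : M.trace = 0) (x y x' y' : F) :
    (x • 1 + y • M) * (x' • 1 + y' • M) =
      (x * x' + (-M.det) * y * y') • 1 + (x * y' + y * x') • M := by
  have h2 := sq_eq_of_trace M h
  simp only [add_mul, mul_add, Matrix.smul_mul, Matrix.mul_smul, Matrix.one_mul, Matrix.mul_one,
    smul_smul, h2]
  module

theorem eq_zero_of_lin_eq_scalar {M : M2} (hM : ∀ c : F, M ≠ c • 1) {x y c : F}
    (h : x • 1 + y • M = c • 1) : y = 0 := by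
  by_contra hy
  refine hM (y⁻¹ * (c - x)) ?_
  have h1 : y • M = (c - x) • 1 := by rw [sub_smul, ← h]; abel
  rw [← smul_smul, ← h1, smul_smul, inv_mul_cancel₀ hy, one_smul]

theorem ne_scalar_of_trace (h2 : (2 : F) ≠ 0) {M : M2} (h : M.trace = 0) (hd : M.det ≠ 0) (c : F) :
    M ≠ c • 1 := by
  rintro rfl
  rw [Matrix.trace_smul, Matrix.trace_one] at h
  simp at h
  rcases h with rfl | h
  · simp at hd
  · exact h2 h

theorem pmk_pow_eq_one {A : M2} {hA : A.det ≠ 0} (k : ℕ) :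
    pmk A hA ^ k = 1 ↔ ∃ c : F, A ^ k = c • 1 := by
  have e : pmk A hA ^ k = pmk (A ^ k) (by rw [det_pow]; exact pow_ne_zero k hA) := by
    rw [pmk, pmk, ← map_pow]
    exact congrArg _ (Units.ext (by simp [Units.val_pow_eq_pow_val]))
  rw [e, pmk_eq_one_iff]

theorem neg_one_square_iff (h2 : (2 : F) ≠ 0) {d : F} (hd : ¬ IsSquare d) :
    IsSquare (-1 : F) ↔ ¬ IsSquare (-d) := by
  constructor
  · intro h hn
    exact hd (by simpa using h.mul hn)
  · intro hn
    have := isSquare_mul_of_not hd hn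
    have hd0 : d ≠ 0 := fun e => hd (e ▸ IsSquare.zero)
    have h3 : IsSquare (d * -d / (d * d)) := this.div (IsSquare.mul_self d)
    have h4 : d * -d / (d * d) = -1 := by field_simp
    rwa [h4] at h3

theorem odd_card (h2 : (2 : F) ≠ 0) : Odd (Fintype.card F) := by
  rw [Nat.odd_iff]
  exact FiniteField.odd_card_of_char_ne_two fun e => h2 (by
    have : CharP F 2 := ringChar.eq_iff.1 e
    exact CharTwo.two_eq_zero)

/-- The split torus through a traceless matrix. -/
theorem exists_split (h2 : (2 : F) ≠ 0) {M : M2} (hM : M.trace = 0) (hd : M.det ≠ 0)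
    (hs : IsSquare (-M.det)) :
    ∃ (x y : F) (h : (x • 1 + y • M).det ≠ 0),
      orderOf (pmk (x • 1 + y • M) h) = Fintype.card F - 1 := by
  obtain ⟨d, hdd⟩ := hs
  have hd0 : d ≠ 0 := by
    rintro rfl
    exact hd (by simpa using hdd)
  classical
  obtain ⟨μ, hμ⟩ := IsCyclic.exists_ofOrder_eq_natCard (α := Fˣ)
  have hcard : orderOf μ = Fintype.card F - 1 := by
    rw [hμ, Nat.card_eq_fintype_card, Fintype.card_units]
  set P : M2 := (2⁻¹ : F) • 1 + (2⁻¹ * d⁻¹) • M with hP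
  set Q : M2 := (2⁻¹ : F) • 1 + (-(2⁻¹ * d⁻¹)) • M with hQ
  have hMd : -M.det * (2⁻¹ * d⁻¹) * (2⁻¹ * d⁻¹) = 2⁻¹ * 2⁻¹ := by rw [hdd]; field_simp
  have hPP : P * P = P := by
    rw [hP, lin_mul M hM, hMd]
    congr 2 <;> (field_simp; ring)
  have hQQ : Q * Q = Q := by
    rw [hQ, lin_mul M hM, show -M.det * -(2⁻¹ * d⁻¹) * -(2⁻¹ * d⁻¹) = 2⁻¹ * 2⁻¹ by rw [← hMd]; ring]
    congr 2 <;> (field_simp; ring)
  have hPQ : P * Q = 0 := by
    rw [hP, hQ, lin_mul M hM, show -M.det * (2⁻¹ * d⁻¹) * -(2⁻¹ * d⁻¹) = -(2⁻¹ * 2⁻¹) by rw [← hMd]; ring]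
    rw [show (2⁻¹ : F) * 2⁻¹ + -(2⁻¹ * 2⁻¹) = 0 by ring,
      show (2⁻¹ : F) * -(2⁻¹ * d⁻¹) + 2⁻¹ * d⁻¹ * 2⁻¹ = 0 by ring, zero_smul, zero_smul, add_zero]
  have hQP : Q * P = 0 := by
    rw [hP, hQ, lin_mul M hM, show -M.det * -(2⁻¹ * d⁻¹) * (2⁻¹ * d⁻¹) = -(2⁻¹ * 2⁻¹) by rw [← hMd]; ring]
    rw [show (2⁻¹ : F) * 2⁻¹ + -(2⁻¹ * 2⁻¹) = 0 by ring,
      show (2⁻¹ : F) * (2⁻¹ * d⁻¹) + -(2⁻¹ * d⁻¹) * 2⁻¹ = 0 by ring, zero_smul, zero_smul, add_zero]
  have hsum : P + Q = 1 := by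
    rw [hP, hQ]
    calc (2⁻¹ : F) • (1 : M2) + (2⁻¹ * d⁻¹) • M + ((2⁻¹ : F) • 1 + (-(2⁻¹ * d⁻¹)) • M)
        = ((2⁻¹ : F) + 2⁻¹) • (1 : M2) := by module
      _ = 1 := by rw [show (2⁻¹ : F) + 2⁻¹ = 1 by field_simp; norm_num, one_smul]
  set x : F := 2⁻¹ + (μ : F) * 2⁻¹ with hx
  set y : F := 2⁻¹ * d⁻¹ - (μ : F) * (2⁻¹ * d⁻¹) with hy
  have hW : x • 1 + y • M = P + (μ : F) • Q := by rw [hx, hy, hP, hQ]; module
  have hdet : (x • 1 + y • M).det ≠ 0 := by
    rw [det_lin M hM]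
    have e : x ^ 2 + y ^ 2 * M.det = (μ : F) := by
      rw [hx, hy, show M.det = -(d * d) by rw [← hdd, neg_neg]]
      field_simp
      ring
    rw [e]
    exact μ.ne_zero
  refine ⟨x, y, hdet, ?_⟩
  have hpow : ∀ k : ℕ, (x • 1 + y • M) ^ k = P + ((μ ^ k : Fˣ) : F) • Q := by
    intro k
    induction k with
    | zero => simp [hsum]
    | succ k ih =>
      rw [pow_succ, ih, hW]
      simp only [add_mul, mul_add, Matrix.smul_mul, Matrix.mul_smul, hPP, hQQ, hPQ, hQP, smul_zero,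
        add_zero, zero_add, smul_smul, pow_succ, Units.val_mul]
      rw [mul_comm]
  refine Eq.trans ?_ hcard
  apply orderOf_eq_orderOf_iff.2
  intro k
  rw [pmk_pow_eq_one, hpow]
  constructor
  · rintro ⟨c, hc⟩
    have e : P + ((μ ^ k : Fˣ) : F) • Q = (2⁻¹ + ((μ ^ k : Fˣ) : F) * 2⁻¹) • 1 +
        (2⁻¹ * d⁻¹ - ((μ ^ k : Fˣ) : F) * (2⁻¹ * d⁻¹)) • M := by rw [hP, hQ]; module
    have h0 := eq_zero_of_lin_eq_scalar (ne_scalar_of_trace h2 hM hd) (e.symm.trans hc)
    refine Units.ext ?_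
    have h1 : (1 - ((μ ^ k : Fˣ) : F)) * (2⁻¹ * d⁻¹) = 0 := by rw [sub_mul, one_mul]; exact h0
    rcases mul_eq_zero.1 h1 with h1 | h1
    · exact (sub_eq_zero.1 h1).symm
    · simp [h2, hd0] at h1
  · intro h
    exact ⟨1, by rw [h, Units.val_one, one_smul, hsum, one_smul]⟩

/-- The non-split torus through a traceless matrix. -/
theorem exists_nonsplit (h2 : (2 : F) ≠ 0) {M : M2} (hM : M.trace = 0) (hd : M.det ≠ 0)
    (hs : ¬ IsSquare (-M.det)) :
    ∃ (x y : F) (h : (x • 1 + y • M).det ≠ 0),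
      orderOf (pmk (x • 1 + y • M) h) = Fintype.card F + 1 := by
  classical
  set δ := -M.det with hδ
  let K := QuadraticAlgebra F δ 0
  haveI : Fact (∀ r : F, r ^ 2 ≠ δ + 0 * r) :=
    ⟨fun r e => hs ⟨r, by rw [← sq, e, zero_mul, add_zero]⟩⟩
  let e := QuadraticAlgebra.equivProd (R := F) δ 0
  haveI : Fintype K := Fintype.ofEquiv _ e.symm
  have hK : Fintype.card K = Fintype.card F * Fintype.card F := by
    rw [Fintype.card_congr e, Fintype.card_prod]
  obtain ⟨ω, hω⟩ := IsCyclic.exists_ofOrder_eq_natCard (α := Kˣ)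
  have hωo : orderOf ω = Fintype.card F * Fintype.card F - 1 := by
    rw [hω, Nat.card_eq_fintype_card, Fintype.card_units, hK]
  let f : K →* M2 :=
    { toFun := fun z => z.re • 1 + z.im • M
      map_one' := by
        show (1 : K).re • (1 : M2) + (1 : K).im • M = 1
        rw [QuadraticAlgebra.re_one, QuadraticAlgebra.im_one, one_smul, zero_smul, add_zero]
      map_mul' := fun z w => by
        show (z * w).re • (1 : M2) + (z * w).im • M = _
        rw [lin_mul M hM, QuadraticAlgebra.re_mul, QuadraticAlgebra.im_mul]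
        congr 2
        ring }
  have hns := ne_scalar_of_trace h2 hM hd
  have him : ∀ z : K, (∃ c : F, f z = c • 1) → z.im = 0 := fun z ⟨c, hc⟩ =>
    eq_zero_of_lin_eq_scalar hns hc
  have hdet : ∀ z : Kˣ, (f z).det ≠ 0 := fun z h0 => by
    have h1 : f z * f (z⁻¹ : Kˣ) = 1 := by rw [← map_mul, Units.mul_inv, map_one]
    have := congrArg Matrix.det h1
    rw [det_mul, h0, zero_mul, det_one] at this
    exact zero_ne_one this
  refine ⟨(ω : K).re, (ω : K).im, hdet ω, ?_⟩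
  set A : M2 := (ω : K).re • 1 + (ω : K).im • M with hA
  have hAf : f ω = A := rfl
  have hq := Fintype.one_lt_card (α := F)
  have hback : ∀ k : ℕ, (∃ c : F, A ^ k = c • 1) → Fintype.card F + 1 ∣ k := by
    intro k hk
    rw [← hAf, ← map_pow, ← Units.val_pow_eq_pow_val] at hk
    have h0 := him _ hk
    set z : Kˣ := ω ^ k
    obtain ⟨r, hr⟩ : ∃ r : F, (z : K) = algebraMap F K r :=
      ⟨(z : K).re, QuadraticAlgebra.ext rfl h0⟩
    have hne : r ≠ 0 := fun e' => z.ne_zero (by rw [hr, e', map_zero])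
    have h1 : z ^ (Fintype.card F - 1) = 1 := by
      apply Units.ext
      rw [Units.val_pow_eq_pow_val, hr, ← map_pow, FiniteField.pow_card_sub_one_eq_one _ hne,
        map_one, Units.val_one]
    rw [← pow_mul] at h1
    have h2 := orderOf_dvd_of_pow_eq_one h1
    rw [hωo, show Fintype.card F * Fintype.card F - 1 =
      (Fintype.card F + 1) * (Fintype.card F - 1) by
        obtain ⟨m, hm⟩ : ∃ m, Fintype.card F = m + 1 := ⟨Fintype.card F - 1, by omega⟩
        rw [hm, Nat.add_sub_cancel]; ring_nf; omega] at h2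
    exact Nat.dvd_of_mul_dvd_mul_right (by omega) h2
  have hyne : (ω : K).im ≠ 0 := fun h0 => by
    have := hback 1 ⟨(ω : K).re, by rw [pow_one, hA, h0, zero_smul, add_zero]⟩
    have := Nat.le_of_dvd one_pos this
    omega
  have hone : ∃ c : F, A ^ (Fintype.card F + 1) = c • 1 := by
    obtain ⟨p, hp⟩ := CharP.exists F
    haveI : Fact p.Prime := ⟨CharP.char_is_prime F p⟩
    obtain ⟨n, -, hn⟩ := FiniteField.card F p
    have hp2 : p ≠ 2 := fun e' => h2 (by subst e'; exact CharTwo.two_eq_zero)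
    have htr : A.trace = 2 * (ω : K).re := by
      rw [hA, Matrix.trace_add, Matrix.trace_smul, Matrix.trace_smul, hM, Matrix.trace_one]
      simp [mul_comm]
    have hD : A.trace ^ 2 - 4 * A.det = δ * (2 * (ω : K).im) ^ 2 := by
      rw [htr, hA, det_lin M hM]; simp only [δ]; ring
    rcases CfsgLib.Recog.PGL2.pow_card_trichotomy hp2 hn A with ⟨h, -, -⟩ | ⟨-, h⟩ | ⟨h, -, -⟩
    · refine absurd ?_ hs
      rw [hD] at h
      have h3 := h.div (IsSquare.sq (2 * (ω : K).im))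
      rwa [mul_div_assoc, div_self (pow_ne_zero 2 (mul_ne_zero h2 hyne)), mul_one] at h3
    · exact ⟨_, h⟩
    · rw [hD] at h
      exact absurd h (mul_ne_zero (fun e' => hs (e' ▸ IsSquare.zero))
        (pow_ne_zero 2 (mul_ne_zero h2 hyne)))
  exact Nat.dvd_antisymm (orderOf_dvd_of_pow_eq_one ((pmk_pow_eq_one _).2 hone))
    (hback _ ((pmk_pow_eq_one _).1 (pow_orderOf_eq_one _)))

/-- An element of the centraliser of an outer involution with order at least three. -/
theorem exists_torus (h2 : (2 : F) ≠ 0) (h3 : 3 < Fintype.card F) {M : M2} (hM : M.trace = 0)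
    (hd : M.det ≠ 0) (hns : ¬ IsSquare M.det) :
    ∃ (x y : F) (h : (x • 1 + y • M).det ≠ 0), x ≠ 0 ∧ y ≠ 0 ∧
      pmk (x • 1 + y • M) h ∈ pslImage F ∧ Commute (pmk M hd) (pmk (x • 1 + y • M) h) ∧
      6 ≤ orderOf (pmk M hd * pmk (x • 1 + y • M) h) ∧
      Fintype.card F - 1 ≤ orderOf (pmk M hd * pmk (x • 1 + y • M) h) ∧
      Even (orderOf (pmk M hd * pmk (x • 1 + y • M) h)) := by
  have hq1 : Fintype.card F % 2 = 1 := Nat.odd_iff.1 (odd_card h2)
  obtain ⟨N, x, y, h, hN, hN4, hN6, hNq⟩ : ∃ (N : ℕ) (x y : F) (h : (x • 1 + y • M).det ≠ 0),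
      orderOf (pmk (x • 1 + y • M) h) = N ∧ N % 4 = 2 ∧ 6 ≤ N ∧ Fintype.card F - 1 ≤ N := by
    by_cases hs : IsSquare (-M.det)
    · obtain ⟨x, y, h, ho⟩ := exists_split h2 hM hd hs
      have h4 : ¬ IsSquare (-1 : F) := fun e => (neg_one_square_iff h2 hns).1 e hs
      rw [FiniteField.isSquare_neg_one_iff, not_not] at h4
      exact ⟨_, x, y, h, ho, by omega, by omega, le_rfl⟩
    · obtain ⟨x, y, h, ho⟩ := exists_nonsplit h2 hM hd hs
      have h4 := (neg_one_square_iff h2 hns).2 hs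
      rw [FiniteField.isSquare_neg_one_iff] at h4
      exact ⟨_, x, y, h, ho, by omega, by omega, by omega⟩
  set x' := x * x + -M.det * y * y
  set y' := x * y + y * x
  have hmul : (x • 1 + y • M) * (x • 1 + y • M) = x' • 1 + y' • M := lin_mul M hM x y x y
  have h' : (x' • 1 + y' • M).det ≠ 0 := by rw [← hmul, det_mul]; exact mul_ne_zero h h
  have hsq : pmk (x' • 1 + y' • M) h' = pmk (x • 1 + y • M) h ^ 2 := by
    rw [pow_two, pmk_mul]
    congr 1
    exact hmul.symm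
  have hm : orderOf (pmk (x' • 1 + y' • M) h') = N / 2 := by
    rw [hsq, orderOf_pow, hN, show N.gcd 2 = 2 from Nat.gcd_eq_right (by omega)]
  have hy' : y' ≠ 0 := by
    intro h0
    have : pmk (x' • 1 + y' • M) h' = 1 := pmk_eq_one_iff.2 ⟨x', by rw [h0, zero_smul, add_zero]⟩
    rw [this, orderOf_one] at hm
    omega
  have hx' : x' ≠ 0 := by
    intro h0
    have : pmk (x' • 1 + y' • M) h' ^ 2 = 1 := by
      rw [pmk_pow_eq_one]
      refine ⟨y' * y' * -M.det, ?_⟩
      rw [h0, zero_smul, zero_add, pow_two, Matrix.smul_mul, Matrix.mul_smul, sq_eq_of_trace M hM,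
        smul_smul, smul_smul]
    have := Nat.le_of_dvd two_pos (orderOf_dvd_of_pow_eq_one this)
    omega
  have hcom : Commute (pmk M hd) (pmk (x' • 1 + y' • M) h') := by
    show _ * _ = _ * _
    rw [pmk_mul, pmk_mul]
    congr 1
    simp [mul_add, add_mul]
  have hM2 : orderOf (pmk M hd) = 2 := by
    refine orderOf_eq_prime ((pmk_pow_eq_one 2).2 ⟨-M.det, by rw [pow_two, sq_eq_of_trace M hM]⟩) ?_
    intro e
    obtain ⟨c, hc⟩ := pmk_eq_one_iff.1 e
    exact ne_scalar_of_trace h2 hM hd c hc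
  have hord : orderOf (pmk M hd * pmk (x' • 1 + y' • M) h') = N := by
    rw [hcom.orderOf_mul_eq_mul_orderOf_of_coprime, hM2, hm]
    · omega
    · rw [hM2, hm, Nat.coprime_two_left, Nat.odd_iff]
      omega
  refine ⟨x', y', h', hx', hy', ?_, hcom, by omega, by omega, by rw [hord, Nat.even_iff]; omega⟩
  rw [pmk_mem_pslImage, ← hmul, det_mul]
  exact IsSquare.mul_self _

/-- Elements of the tori through anticommuting traceless matrices do not commute. -/
theorem not_commute (h2 : (2 : F) ≠ 0) {A B : M2} (hA : A.trace = 0) (hB : B.trace = 0)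
    (hAd : A.det ≠ 0) (hBd : B.det ≠ 0) (hanti : A * B = -(B * A)) {x y x' y' : F} (hx : x ≠ 0)
    (hy : y ≠ 0) (hx' : x' ≠ 0) (hy' : y' ≠ 0) {h : (x • 1 + y • A).det ≠ 0}
    {h' : (x' • 1 + y' • B).det ≠ 0} :
    ¬ Commute (pmk (x • 1 + y • A) h) (pmk (x' • 1 + y' • B) h') := by
  intro hc
  have h0 : pmk ((x • 1 + y • A) * (x' • 1 + y' • B)) (by rw [det_mul]; exact mul_ne_zero h h') =
      pmk ((x' • 1 + y' • B) * (x • 1 + y • A)) (by rw [det_mul]; exact mul_ne_zero h' h) := by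
    rw [← pmk_mul _ _ h h', ← pmk_mul _ _ h' h, hc.eq]
  obtain ⟨c, hc'⟩ := pmk_eq_iff.1 h0
  have htAB : (A * B).trace = 0 := by
    have h1 : (A * B).trace = -(A * B).trace := by
      conv_lhs => rw [hanti, Matrix.trace_neg, Matrix.trace_mul_comm]
    have h3 : (2 : F) * (A * B).trace = 0 := by linear_combination h1
    exact (mul_eq_zero.1 h3).resolve_left h2
  have e1 : (x • 1 + y • A) * (x' • 1 + y' • B) =
      (x * x') • 1 + (x * y') • B + (y * x') • A + (y * y') • (A * B) := by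
    simp only [add_mul, mul_add, Matrix.smul_mul, Matrix.mul_smul, Matrix.one_mul, Matrix.mul_one,
      smul_smul]
    module
  have e2 : (x' • 1 + y' • B) * (x • 1 + y • A) =
      (x * x') • 1 + (x * y') • B + (y * x') • A + (-(y * y')) • (A * B) := by
    rw [hanti]
    simp only [add_mul, mul_add, Matrix.smul_mul, Matrix.mul_smul, Matrix.one_mul, Matrix.mul_one,
      smul_smul]
    module
  rw [e1, e2] at hc'
  have ht := congrArg Matrix.trace hc'
  simp only [Matrix.trace_smul, Matrix.trace_add, hA, hB, htAB, Matrix.trace_one, smul_zero,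
    add_zero, smul_eq_mul, Fintype.card_fin] at ht
  have hc1 : c = 1 := by
    refine mul_right_cancel₀ (mul_ne_zero (mul_ne_zero hx hx') h2) ?_
    push_cast at ht
    linear_combination ht
  subst hc1
  rw [one_smul] at hc'
  have h3 : ((2 : F) * (y * y')) • (A * B) = 0 := by
    have := sub_eq_zero.2 hc'
    rw [← this]
    module
  rcases smul_eq_zero.1 h3 with h3 | h3
  · exact mul_ne_zero h2 (mul_ne_zero hy hy') h3
  · have := congrArg Matrix.det h3
    rw [det_mul, Matrix.det_zero] at this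
    exact mul_ne_zero hAd hBd this

/-- Anticommuting invertible matrices have no common eigenvector. -/
theorem no_common_eigen (h2 : (2 : F) ≠ 0) {A B : M2} (hAd : A.det ≠ 0) (hBd : B.det ≠ 0)
    (hanti : A * B = -(B * A)) (v : Fin 2 → F) (hv : v ≠ 0) {a b : F} (ha : A *ᵥ v = a • v)
    (hb : B *ᵥ v = b • v) : False := by
  have ha0 : a ≠ 0 := by
    rintro rfl
    exact hAd (Matrix.exists_mulVec_eq_zero_iff.1 ⟨v, hv, by rw [ha, zero_smul]⟩)
  have hb0 : b ≠ 0 := by
    rintro rfl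
    exact hBd (Matrix.exists_mulVec_eq_zero_iff.1 ⟨v, hv, by rw [hb, zero_smul]⟩)
  have h := congrArg (fun X => X *ᵥ v) hanti
  simp only [← Matrix.mulVec_mulVec, Matrix.neg_mulVec, ha, hb, Matrix.mulVec_smul, smul_smul] at h
  have h3 : ((2 : F) * (a * b)) • v = 0 := by
    rw [← sub_eq_zero.2 h]
    module
  rcases smul_eq_zero.1 h3 with h3 | h3
  · exact mul_ne_zero h2 (mul_ne_zero ha0 hb0) h3
  · exact hv h3

/-- A point of the line gives a common eigenvector of the matrices fixing it. -/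
theorem exists_eigen_of_fix [DecidableEq F] (z : OnePoint F) :
    ∃ v : Fin 2 → F, v ≠ 0 ∧ ∀ A : GL (Fin 2) F, A • z = z → ∃ a : F, (A : M2) *ᵥ v = a • v := by
  refine ⟨(OnePoint.equivProjectivization F z).rep, Projectivization.rep_nonzero _, fun A hA => ?_⟩
  set P := OnePoint.equivProjectivization F z with hP
  have h1 : A • P = P := by rw [hP, ← OnePoint.equivProjectivization_smul, hA]
  have hv := Projectivization.rep_nonzero P
  conv at h1 => rw [← Projectivization.mk_rep P]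
  rw [Projectivization.smul_mk, Projectivization.mk_eq_mk_iff'] at h1
  obtain ⟨a, ha⟩ := h1
  exact ⟨a, ha.symm⟩

set_option maxRecDepth 100000 in
theorem pow_small_perm_four : ∀ σ : Equiv.Perm (Fin 4), σ ^ 3 = 1 ∨ σ ^ 4 = 1 := by decide

set_option maxRecDepth 100000 in
theorem pow_small_alt_five : ∀ σ : Equiv.Perm (Fin 5), Equiv.Perm.sign σ = 1 →
    σ ^ 2 = 1 ∨ σ ^ 3 = 1 ∨ σ ^ 5 = 1 := by decide

/-- Orders of elements of `PGL₂`. -/
theorem orderOf_pgl_le {S : Type*} [Field S] [Fintype S] (p : ℕ) [Fact p.Prime] [CharP S p]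
    (hp : p ≠ 2) (g : ProjGenLinGroup (Fin 2) S) :
    orderOf g ≤ Fintype.card S + 1 ∨ orderOf g = p := by
  obtain ⟨n, -, hn⟩ := FiniteField.card S p
  obtain ⟨A, hA, rfl⟩ := pmk_surjective g
  have hq := Fintype.one_lt_card (α := S)
  rcases CfsgLib.Recog.PGL2.pow_card_trichotomy hp hn A with ⟨-, -, h⟩ | ⟨-, h⟩ | ⟨-, -, h⟩
  · left
    have h1 : A ^ (Fintype.card S - 1) = 1 := by
      have hu : IsUnit A := (Matrix.isUnit_iff_isUnit_det A).2 (Ne.isUnit hA)
      refine hu.mul_right_cancel ?_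
      rw [← pow_succ, show Fintype.card S - 1 + 1 = Fintype.card S by omega, h, one_mul]
    have := Nat.le_of_dvd (Nat.sub_pos_of_lt hq) (orderOf_dvd_of_pow_eq_one
      ((pmk_pow_eq_one (hA := hA) _).2 ⟨1, by rw [h1, one_smul]⟩))
    omega
  · left
    exact Nat.le_of_dvd (by omega) (orderOf_dvd_of_pow_eq_one ((pmk_pow_eq_one _).2 ⟨_, h⟩))
  · rcases (Nat.dvd_prime (Fact.out : p.Prime)).1
      (orderOf_dvd_of_pow_eq_one ((pmk_pow_eq_one (hA := hA) _).2 ⟨_, h⟩)) with e | e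
    · left; omega
    · exact Or.inr e

end CfsgLib.GWCons.OuterTorus
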