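import Mathlib
import Cfsg.Agent.Lib.GWCons.OuterTorus
import Cfsg.Agent.Lib.AutPSL.Main
import Cfsg.Agent.Lib.AutPSL.Coset
import Cfsg.Agent.Lib.AutPSL.FieldGalois

/-!
Involutory automorphisms of `PSL₂(q)`, `q` odd, without a fixed four-group, and the group generated
by the fixed points of two of them.
-/

set_option autoImplicit false
set_option linter.unusedSectionVars false
set_option linter.style.haveILetI false

open Matrix

namespace CfsgLib.GWCons.TwoOuter

open CfsgLib.PSL2 CfsgLib.AutPSL CfsgLib.GWCons.OuterTorus CfsgLib.FieldGalois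

/-- An automorphism fixing two distinct commuting involutions. -/
def HasFour {X : Type*} [Group X] (α : MulAut X) : Prop :=
  ∃ s t : X, orderOf s = 2 ∧ orderOf t = 2 ∧ s ≠ t ∧ Commute s t ∧ α s = s ∧ α t = t

theorem HasFour.conj {X : Type*} [Group X] {α : MulAut X} (h : HasFour α) (k : MulAut X) :
    HasFour (k * α * k⁻¹) := by
  obtain ⟨s, t, hs, ht, hne, hc, h1, h2⟩ := h
  refine ⟨k s, k t, (MulEquiv.orderOf_eq k s).trans hs, (MulEquiv.orderOf_eq k t).trans ht,
    fun e => hne (k.injective e), hc.map k.toMonoidHom, ?_, ?_⟩ <;>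
    simp [MulAut.mul_apply, h1, h2]

theorem HasFour.map {X Y : Type*} [Group X] [Group Y] (e : X ≃* Y) {α : MulAut X} {β : MulAut Y}
    (hαβ : ∀ x, β (e x) = e (α x)) (h : HasFour α) : HasFour β := by
  obtain ⟨s, t, hs, ht, hne, hc, h1, h2⟩ := h
  exact ⟨e s, e t, (MulEquiv.orderOf_eq e s).trans hs, (MulEquiv.orderOf_eq e t).trans ht,
    fun e' => hne (e.injective e'), hc.map e.toMonoidHom, by rw [hαβ, h1], by rw [hαβ, h2]⟩

variable {F : Type*} [Field F] [Fintype F]

local notation "M2" => Matrix (Fin 2) (Fin 2) F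
local notation "PSL" => ProjectiveSpecialLinearGroup (Fin 2) F
local notation "toP" => (ProjectiveSpecialLinearGroup.toPGL : PSL →* ProjGenLinGroup (Fin 2) F)

/-- An invertible matrix. -/
def gl (A : M2) (h : A.det ≠ 0) : GL (Fin 2) F := GeneralLinearGroup.mkOfDetNeZero A h

/-- An element of `SL₂`. -/
def sl (A : M2) (h : A.det = 1) : SpecialLinearGroup (Fin 2) F := ⟨A, h⟩

/-- The image of a matrix of determinant one in `PSL₂`. -/
def psl (A : M2) (h : A.det = 1) : PSL := QuotientGroup.mk (sl A h)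

theorem mk_eq_pmk (g : GL (Fin 2) F) : ProjGenLinGroup.mk g = pmk (g : M2) g.det_ne_zero :=
  congrArg _ (Units.ext rfl)

theorem toPGL_mk' (s : SpecialLinearGroup (Fin 2) F) :
    toP (QuotientGroup.mk s) = ProjGenLinGroup.mk (SpecialLinearGroup.toGL s) :=
  ProjectiveSpecialLinearGroup.toPGL_mk s

theorem toPGL_psl (A : M2) (h : A.det = 1) :
    toP (psl A h) = ProjGenLinGroup.mk (SpecialLinearGroup.toGL (sl A h)) := toPGL_mk' _

theorem toPGL_conjAut (g : GL (Fin 2) F) (x : PSL) :
    toP (conjAut g x) = ProjGenLinGroup.mk g * toP x * (ProjGenLinGroup.mk g)⁻¹ := by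
  obtain ⟨s, rfl⟩ := QuotientGroup.mk_surjective x
  rw [conjAut_mk, toPGL_mk', toPGL_mk', ← map_inv, ← map_mul, ← map_mul]
  exact congrArg _ (Units.ext (slConj_coe g s))

theorem conjAut_fix_iff (g : GL (Fin 2) F) (x : PSL) :
    conjAut g x = x ↔ Commute (ProjGenLinGroup.mk g) (toP x) := by
  rw [← ProjectiveSpecialLinearGroup.toPGL_injective.eq_iff, toPGL_conjAut, mul_inv_eq_iff_eq_mul]
  rfl

theorem conjAut_eq_of_mk {g h : GL (Fin 2) F} (e : ProjGenLinGroup.mk g = ProjGenLinGroup.mk h) :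
    conjAut g = (conjAut h : MulAut PSL) := by
  apply MulEquiv.ext
  intro x
  apply ProjectiveSpecialLinearGroup.toPGL_injective
  rw [toPGL_conjAut, toPGL_conjAut, e]

/-- Inverse-transpose is inner on `SL₂`. -/
theorem exists_iota_eq : ∃ w : GL (Fin 2) F, (iotaAut : MulAut PSL) = conjAut w := by
  refine ⟨gl !![0, 1; -1, 0] (by simp [Matrix.det_fin_two]), ?_⟩
  apply MulEquiv.ext
  intro x
  obtain ⟨s, rfl⟩ := QuotientGroup.mk_surjective x
  rw [iotaAut_mk, conjAut_mk]
  refine congrArg _ (Subtype.ext ?_)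
  rw [slIota_coe, slConj_coe]
  show (s.1.adjugate)ᵀ = _
  set w := gl (F := F) !![0, 1; -1, 0] (by simp [Matrix.det_fin_two])
  have e : (s.1.adjugate)ᵀ * (w : M2) = (w : M2) * s.1 := by
    ext i j
    fin_cases i <;> fin_cases j <;>
      simp [w, gl, Matrix.adjugate_fin_two, Matrix.mul_apply, Fin.sum_univ_two]
  calc (s.1.adjugate)ᵀ = (s.1.adjugate)ᵀ * ((w : M2) * ((w⁻¹ : GL (Fin 2) F) : M2)) := by
        rw [← Units.val_mul, mul_inv_cancel, Units.val_one, mul_one]
    _ = _ := by rw [← mul_assoc, e]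

/-- Every automorphism of `PSL₂` is a semilinear map. -/
theorem exists_conj_field (β : MulAut PSL) :
    ∃ (g : GL (Fin 2) F) (σ : F ≃+* F), β = conjAut g * fieldAut σ := by
  obtain ⟨g, σ, h | h⟩ := aut_psl_structure (le_refl 2) β
  · exact ⟨g, σ, h⟩
  · obtain ⟨w, hw⟩ := exists_iota_eq (F := F)
    exact ⟨g * glField σ w, σ, by rw [h, hw, mul_assoc, fieldAut_mul_conjAut, map_mul, mul_assoc]⟩

/-- A quaternion pair gives two commuting involutions. -/
theorem exists_four (h2 : (2 : F) ≠ 0) {A B : M2} (hA : A * A = -1) (hB : B * B = -1)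
    (hAB : A * B = -(B * A)) (hA1 : A.det = 1) (hB1 : B.det = 1) :
    orderOf (psl A hA1) = 2 ∧
    orderOf (psl B hB1) = 2 ∧
    psl A hA1 ≠
      psl B hB1 ∧
    Commute (psl A hA1)
      (psl B hB1) := by
  have hne : ∀ {A B : M2}, A.det = 1 → B.det = 1 → A * B = -(B * A) → ∀ c : F, A ≠ c • 1 := by
    rintro A B hA1 hB1 hAB c rfl
    have h3 : ((2 : F) * c) • B = 0 := by
      rw [Matrix.smul_mul, Matrix.mul_smul, Matrix.one_mul, Matrix.mul_one] at hAB
      rw [← sub_eq_zero.2 hAB]
      module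
    rcases smul_eq_zero.1 h3 with h3 | h3
    · rcases mul_eq_zero.1 h3 with h3 | h3
      · exact h2 h3
      · subst h3; simp at hA1
    · subst h3; simp at hB1
  have ord : ∀ {A B : M2} (hA1 : A.det = 1) (_ : B.det = 1), A * A = -1 → A * B = -(B * A) →
      orderOf (psl A hA1) = 2 := by
    intro A B hA1 hB1 hA hAB
    rw [← orderOf_injective _ ProjectiveSpecialLinearGroup.toPGL_injective, toPGL_psl, mk_eq_pmk]
    refine orderOf_eq_prime ((pmk_pow_eq_one 2).2 ⟨-1, ?_⟩) fun e => ?_
    · rw [neg_one_smul, pow_two]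
      exact hA
    · obtain ⟨c, hc⟩ := pmk_eq_one_iff.1 e
      exact hne hA1 hB1 hAB c hc
  have hBA : B * A = -(A * B) := by rw [hAB, neg_neg]
  refine ⟨ord hA1 hB1 hA hAB, ord hB1 hA1 hB hBA, fun e => ?_, ?_⟩
  · have e' := congrArg toP e
    rw [toPGL_psl, toPGL_psl, mk_eq_pmk, mk_eq_pmk, pmk_eq_iff] at e'
    obtain ⟨c, hc⟩ := e'
    have hc' : c • A = B := hc
    rw [← hc', Matrix.mul_smul, Matrix.smul_mul] at hAB
    have h3 : ((2 : F) * c) • (A * A) = 0 := by
      rw [← sub_eq_zero.2 hAB]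
      module
    rw [hA] at h3
    rcases smul_eq_zero.1 h3 with h3 | h3
    · rcases mul_eq_zero.1 h3 with h3 | h3
      · exact h2 h3
      · subst h3
        rw [zero_smul] at hc'
        subst hc'
        simp at hB1
    · exact one_ne_zero (neg_eq_zero.1 h3)
  · show _ * _ = _ * _
    apply ProjectiveSpecialLinearGroup.toPGL_injective
    rw [map_mul, map_mul, toPGL_psl, toPGL_psl, mk_eq_pmk, mk_eq_pmk, pmk_mul, pmk_mul, pmk_eq_iff]
    refine ⟨-1, ?_⟩
    show (-1 : F) • (A * B) = B * A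
    rw [neg_one_smul, hAB, neg_neg]

theorem hasFour_conj_square (h2 : (2 : F) ≠ 0) {M : M2} (hM : M.trace = 0) (hd : M.det ≠ 0)
    (hs : IsSquare M.det) : HasFour (conjAut (gl M hd) : MulAut PSL) := by
  obtain ⟨d, hdd⟩ := hs
  have hd0 : d ≠ 0 := by rintro rfl; exact hd (by simpa using hdd)
  set A : M2 := d⁻¹ • M with hAdef
  have hA1 : A.det = 1 := by
    rw [hAdef, Matrix.det_smul, Fintype.card_fin, hdd]
    field_simp
  have hA : A * A = -1 := by
    rw [hAdef, Matrix.smul_mul, Matrix.mul_smul, smul_smul, sq_eq_of_trace M hM, smul_smul, hdd,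
      show d⁻¹ * d⁻¹ * -(d * d) = (-1 : F) by field_simp, neg_one_smul]
  obtain ⟨B, hBt, hB1, hMB⟩ : ∃ B : M2, B.trace = 0 ∧ B.det = 1 ∧ M * B = -(B * M) := by
    set a := M 0 0
    set b := M 0 1
    set c := M 1 0
    have hM11 : M 1 1 = -a := by
      rw [Matrix.trace_fin_two] at hM
      linear_combination hM
    suffices ∃ α β γ : F, 2 * a * α + b * γ + c * β = 0 ∧ -(α * α) - β * γ = 1 by
      obtain ⟨α, β, γ, h1, h3⟩ := this
      refine ⟨!![α, β; γ, -α], by simp [Matrix.trace_fin_two],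
        by simp [Matrix.det_fin_two]; linear_combination h3, ?_⟩
      rw [Matrix.eta_fin_two M, Matrix.mul_fin_two, Matrix.mul_fin_two]
      ext i j
      fin_cases i <;> fin_cases j <;>
        simp [hM11] <;>
        first
        | linear_combination h1
        | ring
    have hdet : M.det = -(a * a) - b * c := by
      rw [Matrix.det_fin_two, hM11]; ring
    by_cases hb : b = 0
    · have ha : a ≠ 0 := fun e => hd (by rw [hdet, e, hb]; ring)
      refine ⟨-c / (2 * a), 1, -(1 + (-c / (2 * a)) * (-c / (2 * a))), ?_, by ring⟩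
      rw [hb]; field_simp; ring
    · open Polynomial in
      obtain ⟨u, β, huβ⟩ := FiniteField.exists_root_sum_quadratic (R := F)
        (f := C (-1 : F) * X ^ 2) (g := C (-(M.det) / (b * b)) * X ^ 2 + C (-1))
        (by rw [Polynomial.degree_C_mul_X_pow 2 (by simp)]; rfl)
        (by
          rw [Polynomial.degree_add_C (by
            rw [Polynomial.degree_C_mul_X_pow 2 (div_ne_zero (neg_ne_zero.2 hd) (mul_ne_zero hb hb))]
            decide), Polynomial.degree_C_mul_X_pow 2 (div_ne_zero (neg_ne_zero.2 hd) (mul_ne_zero hb hb))]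
          rfl)
        (Nat.odd_iff.1 (odd_card h2))
      simp only [Polynomial.eval_mul, Polynomial.eval_C, Polynomial.eval_pow, Polynomial.eval_X,
        Polynomial.eval_add] at huβ
      refine ⟨u + a * β / b, β, -(2 * a * (u + a * β / b) + c * β) / b, ?_, ?_⟩
      · field_simp; ring
      · rw [hdet] at huβ
        field_simp at huβ ⊢
        linear_combination huβ
  have hB : B * B = -1 := by rw [sq_eq_of_trace B hBt, hB1, neg_one_smul]
  have hAB : A * B = -(B * A) := by rw [hAdef, Matrix.smul_mul, Matrix.mul_smul, hMB, smul_neg]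
  obtain ⟨h1, h1', h1'', h1'''⟩ := exists_four h2 hA hB hAB hA1 hB1
  refine ⟨_, _, h1, h1', h1'', h1''', ?_, ?_⟩ <;>
    rw [conjAut_fix_iff, toPGL_psl, mk_eq_pmk, mk_eq_pmk] <;> show _ * _ = _ * _ <;>
    rw [pmk_mul, pmk_mul, pmk_eq_iff]
  · exact ⟨1, by
      show (1 : F) • (M * (d⁻¹ • M)) = d⁻¹ • M * M
      rw [one_smul, Matrix.mul_smul, Matrix.smul_mul]⟩
  · exact ⟨-1, by
      show (-1 : F) • (M * B) = B * M
      rw [neg_one_smul, hMB, neg_neg]⟩

theorem hasFour_one (h2 : (2 : F) ≠ 0) : HasFour (1 : MulAut PSL) := by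
  obtain ⟨s, t, h1, h3, h4, h5, -, -⟩ := hasFour_conj_square h2 (M := !![0, 1; -1, 0])
    (by simp [Matrix.trace_fin_two]) (by simp [Matrix.det_fin_two]) (by simp [Matrix.det_fin_two])
  exact ⟨s, t, h1, h3, h4, h5, rfl, rfl⟩

theorem hasFour_field (h2 : (2 : F) ≠ 0) {σ : F ≃+* F} (hσ : orderOf σ = 2) :
    HasFour (fieldAut σ : MulAut PSL) := by
  obtain ⟨i, hi⟩ : IsSquare (-1 : F) := by
    rw [FiniteField.isSquare_neg_one_iff, ← Nat.card_eq_fintype_card, natCard_fixedSub σ, hσ]
    intro h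
    rw [Nat.pow_mod] at h
    have := Nat.mod_lt (Nat.card (fixedSub σ)) (show 4 > 0 by norm_num)
    interval_cases (Nat.card (fixedSub σ) % 4) <;> simp at h
  have hσi : σ i = i ∨ σ i = -i := by
    refine mul_self_eq_mul_self_iff.1 ?_
    rw [← map_mul, ← hi, map_neg, map_one]
  set A : M2 := !![0, 1; -1, 0] with hAdef
  set B : M2 := !![i, 0; 0, -i] with hBdef
  have hA : A * A = -1 := by
    ext a b; fin_cases a <;> fin_cases b <;> simp [A, Matrix.mul_apply, Fin.sum_univ_two]
  have hB : B * B = -1 := by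
    ext a b; fin_cases a <;> fin_cases b <;> simp [B, Matrix.mul_apply, Fin.sum_univ_two, ← hi]
  have hAB : A * B = -(B * A) := by
    ext a b; fin_cases a <;> fin_cases b <;> simp [A, B, Matrix.mul_apply, Fin.sum_univ_two]
  obtain ⟨h1, h3, h4, h5⟩ := exists_four h2 hA hB hAB (by simp [A, Matrix.det_fin_two])
    (by simp [B, Matrix.det_fin_two, ← hi])
  refine ⟨_, _, h1, h3, h4, h5, ?_, ?_⟩ <;>
    rw [psl, fieldAut_mk] <;> apply ProjectiveSpecialLinearGroup.toPGL_injective <;>
    rw [toPGL_mk', toPGL_mk', mk_eq_pmk, mk_eq_pmk, pmk_eq_iff]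
  · refine ⟨1, ?_⟩
    show (1 : F) • A.map σ = A
    ext a b; fin_cases a <;> fin_cases b <;> simp [A]
  · rcases hσi with h | h
    · refine ⟨1, ?_⟩
      show (1 : F) • B.map σ = B
      ext a b; fin_cases a <;> fin_cases b <;> simp [B, h]
    · refine ⟨-1, ?_⟩
      show (-1 : F) • B.map σ = B
      ext a b; fin_cases a <;> fin_cases b <;> simp [B, h]

/-- Involutory automorphisms without fixed four-group are outer diagonal. -/
theorem exists_outer (h2 : (2 : F) ≠ 0) {γ : MulAut PSL} (hγ : γ * γ = 1) (h4 : ¬ HasFour γ) :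
    ∃ (M : M2) (hd : M.det ≠ 0), M.trace = 0 ∧ ¬ IsSquare M.det ∧ γ = conjAut (gl M hd) := by
  obtain ⟨g, σ, rfl⟩ := exists_conj_field γ
  have hsq : conjAut (cocy σ g 2) * fieldAut (σ ^ 2) = (1 : MulAut PSL) := by
    rw [← conj_field_pow, pow_two, hγ]
  obtain ⟨hσ, u, hu⟩ := eq_of_conj_field_eq_one (le_refl 2) hsq
  by_cases hσ1 : σ = 1
  · subst hσ1
    rw [map_one, mul_one] at h4 hγ ⊢
    rw [← map_mul] at hγ
    obtain ⟨u, hu⟩ := (conjAut_eq_one_iff (le_refl 2)).1 hγ
    have hM : (g : M2).trace = 0 := by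
      by_contra ht
      have h1 : (g : M2) * g = (u : F) • 1 := by
        rw [← Units.val_mul, hu, GeneralLinearGroup.coe_scalar, Matrix.scalar_apply,
          ← Matrix.smul_one_eq_diagonal]
      rw [CfsgLib.Recog.PGL2.charmat_two] at h1
      have h3 : (g : M2) = (((g : M2).trace)⁻¹ * ((u : F) + (g : M2).det)) • 1 := by
        rw [← smul_smul, add_smul, ← h1, sub_add_cancel, smul_smul, inv_mul_cancel₀ ht, one_smul]
      refine h4 ?_
      have h0 : ProjGenLinGroup.mk g = ProjGenLinGroup.mk (1 : GL (Fin 2) F) := by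
        rw [ProjGenLinGroup.mk_one, mk_eq_pmk, pmk_eq_one_iff]
        exact ⟨_, h3⟩
      rw [conjAut_eq_of_mk h0, map_one]
      exact hasFour_one h2
    have hg : gl (g : M2) g.det_ne_zero = g := Units.ext rfl
    refine ⟨(g : M2), g.det_ne_zero, hM, fun hs => ?_, by rw [hg]⟩
    have := hasFour_conj_square h2 hM g.det_ne_zero hs
    rw [hg] at this
    exact h4 this
  · have ho : orderOf σ = 2 := orderOf_eq_prime hσ hσ1
    obtain ⟨k, hk⟩ := conj_of_pow_eq_one (le_refl 2) σ g (by rw [ho, pow_two, hγ])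
    rw [hk] at h4
    exact absurd ((hasFour_field h2 ho).conj _) h4

/-- The two centralisers generate `PSL₂(q)`. -/
theorem closure_eq_top [IsSimpleGroup PSL] (h2 : (2 : F) ≠ 0) (h3 : 3 < Fintype.card F)
    {A B : M2} (hA : A.trace = 0) (hAd : A.det ≠ 0) (hAs : ¬ IsSquare A.det) (hB : B.trace = 0)
    (hBd : B.det ≠ 0) (hBs : ¬ IsSquare B.det) (hAB : A * B = -(B * A)) :
    Subgroup.closure ({x : PSL | conjAut (gl A hAd) x = x} ∪ {x | conjAut (gl B hBd) x = x}) = ⊤ := by
  classical
  obtain ⟨x, y, hs, hx, hy, hsI, hsC, hs6, hsq, hse⟩ := exists_torus h2 h3 hA hAd hAs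
  obtain ⟨x', y', ht, hx', hy', htI, htC, -, -, -⟩ := exists_torus h2 h3 hB hBd hBs
  set g := pmk A hAd with hg
  set h := pmk B hBd with hh
  set s := pmk _ hs with hs'
  set t := pmk _ ht with ht'
  obtain ⟨s₀, hs₀⟩ : ∃ z, toP z = s := by
    rw [← range_toPGL] at hsI
    exact hsI
  obtain ⟨t₀, ht₀⟩ : ∃ z, toP z = t := by
    rw [← range_toPGL] at htI
    exact htI
  set S := {x : PSL | conjAut (gl A hAd) x = x} ∪ {x | conjAut (gl B hBd) x = x} with hS
  set X := Subgroup.closure S
  have hfg : ∀ z : PSL, conjAut (gl A hAd) z = z ↔ Commute g (toP z) := fun z => conjAut_fix_iff _ _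
  have hfh : ∀ z : PSL, conjAut (gl B hBd) z = z ↔ Commute h (toP z) := fun z => conjAut_fix_iff _ _
  have hgh : Commute g h := by
    show pmk A hAd * pmk B hBd = pmk B hBd * pmk A hAd
    rw [pmk_mul, pmk_mul, pmk_eq_iff]
    exact ⟨-1, by rw [neg_one_smul, hAB, neg_neg]⟩
  have hs₀X : s₀ ∈ X := Subgroup.subset_closure (Or.inl ((hfg _).2 (hs₀ ▸ hsC)))
  have ht₀X : t₀ ∈ X := Subgroup.subset_closure (Or.inr ((hfh _).2 (ht₀ ▸ htC)))
  set X' := X.map toP
  have hnorm : ∀ (N : GL (Fin 2) F), Commute (ProjGenLinGroup.mk N) g → Commute (ProjGenLinGroup.mk N) h →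
      ProjGenLinGroup.mk N ∈ Subgroup.normalizer (X' : Set (ProjGenLinGroup (Fin 2) F)) := by
    intro N hNg hNh
    have hmap : X.map (conjAut N : MulAut PSL).toMonoidHom = X := by
      rw [MonoidHom.map_closure]
      congr 1
      ext z
      constructor
      · rintro ⟨w, hw | hw, rfl⟩
        · left
          refine (hfg _).2 ?_
          rw [MulEquiv.coe_toMonoidHom, toPGL_conjAut]
          exact (hNg.symm.mul_right ((hfg w).1 hw)).mul_right hNg.symm.inv_right
        · right
          refine (hfh _).2 ?_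
          rw [MulEquiv.coe_toMonoidHom, toPGL_conjAut]
          exact (hNh.symm.mul_right ((hfh w).1 hw)).mul_right hNh.symm.inv_right
      · intro hz
        refine ⟨(conjAut N⁻¹ : MulAut PSL) z, ?_, ?_⟩
        · rcases hz with hz | hz
          · left
            refine (hfg _).2 ?_
            rw [toPGL_conjAut, map_inv, inv_inv]
            exact (hNg.symm.inv_right.mul_right ((hfg z).1 hz)).mul_right hNg.symm
          · right
            refine (hfh _).2 ?_
            rw [toPGL_conjAut, map_inv, inv_inv]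
            exact (hNh.symm.inv_right.mul_right ((hfh z).1 hz)).mul_right hNh.symm
        · show (conjAut N : MulAut PSL) ((conjAut N⁻¹ : MulAut PSL) z) = z
          rw [← MulAut.mul_apply, ← map_mul, mul_inv_cancel, map_one, MulAut.one_apply]
    rw [Subgroup.mem_normalizer_iff]
    intro w
    constructor
    · rintro ⟨w₀, hw₀, rfl⟩
      exact ⟨conjAut N w₀, hmap ▸ Subgroup.mem_map_of_mem _ hw₀, toPGL_conjAut N w₀⟩
    · rintro ⟨w₀, hw₀, hw⟩
      rw [← hmap] at hw₀
      obtain ⟨w₁, hw₁, rfl⟩ := hw₀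
      rw [MulEquiv.coe_toMonoidHom, toPGL_conjAut, mul_left_inj, mul_right_inj] at hw
      exact ⟨w₁, hw₁, hw⟩
  set Y := Subgroup.closure ({g, h, s, t} : Set (ProjGenLinGroup (Fin 2) F)) with hY
  have hgY : g ∈ Y := Subgroup.subset_closure (by simp)
  have hhY : h ∈ Y := Subgroup.subset_closure (by simp)
  have hsY : s ∈ Y := Subgroup.subset_closure (by simp)
  have htY : t ∈ Y := Subgroup.subset_closure (by simp)
  have hYN : Y ≤ Subgroup.normalizer (X' : Set (ProjGenLinGroup (Fin 2) F)) := by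
    rw [hY, Subgroup.closure_le]
    rintro z (rfl | rfl | rfl | rfl)
    · exact hnorm _ (Commute.refl _) hgh
    · exact hnorm _ hgh.symm (Commute.refl _)
    · exact Subgroup.le_normalizer ⟨s₀, hs₀X, hs₀⟩
    · exact Subgroup.le_normalizer ⟨t₀, ht₀X, ht₀⟩
  have hnc : ¬ Commute s t := not_commute h2 hA hB hAd hBd hAB hx hy hx' hy'
  set w : Y := ⟨g * s, Y.mul_mem hgY hsY⟩
  have hw : orderOf w = orderOf (g * s) := (Subgroup.orderOf_coe w).symm
  obtain ⟨p, hp⟩ := CharP.exists F
  haveI : Fact p.Prime := ⟨CharP.char_is_prime F p⟩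
  have hp2 : p ≠ 2 := fun e => h2 (by subst e; exact CharTwo.two_eq_zero)
  have horder : Nat.card PSL ≤ Nat.card Y := by
    rcases dickson p Y.subtype Y.subtype_injective with
      ⟨z, hz⟩ | hT | ⟨C, -, -, ⟨e⟩⟩ | ⟨⟨e⟩⟩ | ⟨⟨e⟩⟩ | ⟨⟨e⟩⟩ | ⟨K, -, hK⟩
    · exfalso
      obtain ⟨v, hv, hv'⟩ := exists_eigen_of_fix z
      have h1 := hz ⟨g, hgY⟩
      have h3 := hz ⟨h, hhY⟩
      obtain ⟨a, ha⟩ := hv' (gl A hAd) h1
      obtain ⟨b, hb⟩ := hv' (gl B hBd) h3
      exact no_common_eigen h2 hAd hBd hAB v hv ha hb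
    · exfalso
      haveI := hT.1
      letI := IsCyclic.commGroup (α := Y)
      exact hnc (congrArg Subtype.val (mul_comm (⟨s, hsY⟩ : Y) ⟨t, htY⟩))
    · exfalso
      have hrot : ∀ z : Y, z * z ≠ 1 → ∃ i, e z = DihedralGroup.r i := by
        intro z hz
        rcases he : e z with i | i
        · exact ⟨i, rfl⟩
        · refine absurd (e.injective ?_) hz
          rw [map_mul, map_one, he, DihedralGroup.sr_mul_self]
      have hord : ∀ {M : M2} (hM : M.trace = 0) (x y : F) (hd : (x • 1 + y • M).det ≠ 0)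
          (_ : x ≠ 0) (_ : y ≠ 0), M.det ≠ 0 → pmk _ hd * pmk _ hd ≠ 1 := by
        intro M hM x y hd hx hy hMd e'
        rw [← pow_two, pmk_pow_eq_one, pow_two, lin_mul M hM] at e'
        obtain ⟨c, hc⟩ := e'
        have h0 := eq_zero_of_lin_eq_scalar (ne_scalar_of_trace h2 hM hMd) hc
        have h0' : (2 : F) * (x * y) = 0 := by linear_combination h0
        simp [h2, hx, hy] at h0'
      obtain ⟨i, hi⟩ := hrot ⟨s, hsY⟩ fun e' => hord hA x y hs hx hy hAd (congrArg Subtype.val e')
      obtain ⟨j, hj⟩ := hrot ⟨t, htY⟩ fun e' => hord hB x' y' ht hx' hy' hBd (congrArg Subtype.val e')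
      refine hnc (show s * t = t * s from congrArg Subtype.val (e.injective
        (a₁ := ⟨s, hsY⟩ * ⟨t, htY⟩) (a₂ := ⟨t, htY⟩ * ⟨s, hsY⟩) ?_))
      rw [map_mul, map_mul, hi, hj, DihedralGroup.r_mul_r, DihedralGroup.r_mul_r, add_comm]
    · exfalso
      rw [← MulEquiv.orderOf_eq e, ← Subgroup.orderOf_coe] at hw
      rcases pow_small_perm_four (e w).1 with h1 | h1 <;>
        have := Nat.le_of_dvd (by norm_num) (orderOf_dvd_of_pow_eq_one h1) <;> omega
    · exfalso
      rw [← MulEquiv.orderOf_eq e] at hw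
      rcases pow_small_perm_four (e w) with h1 | h1 <;>
        have := Nat.le_of_dvd (by norm_num) (orderOf_dvd_of_pow_eq_one h1) <;> omega
    · exfalso
      rw [← MulEquiv.orderOf_eq e, ← Subgroup.orderOf_coe] at hw
      rcases pow_small_alt_five (e w).1 (Equiv.Perm.mem_alternatingGroup.1 (e w).2) with h1 | h1 | h1 <;>
        have := Nat.le_of_dvd (by norm_num) (orderOf_dvd_of_pow_eq_one h1) <;> omega
    · haveI : Fintype K := Fintype.ofFinite K
      haveI : CharP K p := (RingHom.charP_iff K.subtype Subtype.val_injective p).2 hp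
      have hle : orderOf (g * s) ≤ Fintype.card K + 1 ∨ orderOf (g * s) = p := by
        rw [← hw]
        rcases hK with ⟨⟨e⟩⟩ | ⟨⟨e⟩⟩
        · rw [← MulEquiv.orderOf_eq e,
            ← orderOf_injective _ (ProjectiveSpecialLinearGroup.toPGL_injective (n := Fin 2) (R := K))]
          exact orderOf_pgl_le p hp2 _
        · rw [← MulEquiv.orderOf_eq e]
          exact orderOf_pgl_le p hp2 _
      have hle' : orderOf (g * s) ≤ Fintype.card K + 1 := by
        refine hle.resolve_right fun e' => hp2 ?_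
        exact ((Fact.out : p.Prime).even_iff).1 (e' ▸ hse)
      have hKF : K = ⊤ := by
        by_contra hne
        have h1 : Nat.card F = Nat.card K ^ Module.finrank K F := Module.natCard_eq_pow_finrank
        have h4 : 2 ≤ Module.finrank K F := by
          by_contra hlt
          have h5 : Module.finrank K F = 1 := by
            have := Module.finrank_pos (R := K) (M := F)
            omega
          rw [h5, pow_one] at h1
          refine hne (SetLike.ext fun z => ⟨fun _ => trivial, fun _ => ?_⟩)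
          have hbij : Function.Bijective (Subtype.val : K → F) :=
            (Nat.bijective_iff_injective_and_card _).2 ⟨Subtype.val_injective, h1.symm⟩
          obtain ⟨⟨z', hz'⟩, rfl⟩ := hbij.2 z
          exact hz'
        have h5 : Fintype.card K ^ 2 ≤ Fintype.card F := by
          rw [← Nat.card_eq_fintype_card, ← Nat.card_eq_fintype_card, h1]
          exact Nat.pow_le_pow_right Nat.card_pos h4
        have h6 : 2 ≤ Fintype.card K := Fintype.one_lt_card
        have h7 : Fintype.card K ≠ 2 := fun e' => hp2 (by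
          obtain ⟨n, hpp, hn⟩ := FiniteField.card K p
          rw [e'] at hn
          exact (Nat.prime_dvd_prime_iff_eq hpp Nat.prime_two).1 (hn ▸ dvd_pow_self p n.ne_zero))
        have h8 : Fintype.card F ≤ Fintype.card K + 2 := by omega
        have h9 : 3 ≤ Fintype.card K := by omega
        nlinarith
      subst hKF
      let ek : (⊤ : Subfield F) ≃+* F := Subfield.topEquiv
      have hc : Fintype.card (⊤ : Subfield F) = Fintype.card F := Fintype.card_congr ek.toEquiv
      have hodd := odd_card h2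
      rcases hK with ⟨⟨e⟩⟩ | ⟨⟨e⟩⟩
      · refine le_of_eq ?_
        rw [Nat.card_congr e.toEquiv]
        apply Nat.eq_of_mul_eq_mul_left two_pos
        rw [psl_card_odd hodd, psl_card_odd (hc ▸ hodd), hc]
      · rw [Nat.card_congr e.toEquiv, card_pgl, hc, ← psl_card_odd hodd]
        omega
  set Y₀ := Y.comap toP
  have hidx : Y.index ≤ 2 := by
    have h1 := Y.card_mul_index
    rw [card_pgl, ← psl_card_odd (odd_card h2)] at h1
    by_contra hlt
    have h4 : Nat.card Y * 3 ≤ 2 * Nat.card PSL := by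
      rw [← h1]; exact Nat.mul_le_mul_left _ (by omega)
    have h5 : 0 < Nat.card PSL := Nat.card_pos
    omega
  have hYn : Y.Normal := by
    rcases (show Y.index = 1 ∨ Y.index = 2 by
      have := Y.index_ne_zero_of_finite
      omega) with h1 | h1
    · rw [Subgroup.index_eq_one.1 h1]; infer_instance
    · exact Subgroup.normal_of_index_eq_two h1
  have hs1 : s₀ ≠ 1 := fun e => hnc (by rw [← hs₀, e, map_one]; exact Commute.one_left t)
  have hY₀ : Y₀ = ⊤ := (IsSimpleGroup.eq_bot_or_eq_top_of_normal _ (hYn.comap _)).resolve_left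
    fun e => hs1 ((Subgroup.mem_bot).1 (e ▸ (show s₀ ∈ Y₀ from show toP s₀ ∈ Y by rw [hs₀]; exact hsY)))
  have hXn : X.Normal := by
    refine ⟨fun n hn z => ?_⟩
    have hz : toP z ∈ Y := by
      have : z ∈ Y₀ := hY₀ ▸ Subgroup.mem_top z
      exact this
    obtain ⟨n', hn', e⟩ := (Subgroup.mem_normalizer_iff.1 (hYN hz) (toP n)).1 ⟨n, hn, rfl⟩
    rw [← map_inv, ← map_mul, ← map_mul] at e
    exact ProjectiveSpecialLinearGroup.toPGL_injective e ▸ hn'
  exact (IsSimpleGroup.eq_bot_or_eq_top_of_normal _ hXn).resolve_left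
    fun e => hs1 ((Subgroup.mem_bot).1 (e ▸ hs₀X))

/-- Two commuting such automorphisms are equal or their fixed points generate. -/
theorem eq_or_generate [IsSimpleGroup PSL] (h2 : (2 : F) ≠ 0) (h3 : 3 < Fintype.card F)
    {α β : MulAut PSL} (hα : α * α = 1) (hβ : β * β = 1) (hc : Commute α β) (h4α : ¬ HasFour α)
    (h4β : ¬ HasFour β) : α = β ∨ Subgroup.closure ({x | α x = x} ∪ {x | β x = x}) = ⊤ := by
  obtain ⟨A, hAd, hA, hAs, rfl⟩ := exists_outer h2 hα h4α
  obtain ⟨B, hBd, hB, hBs, rfl⟩ := exists_outer h2 hβ h4β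
  have hc' : conjAut (gl A hAd * gl B hBd) = (conjAut (gl B hBd * gl A hAd) : MulAut PSL) := by
    rw [map_mul, map_mul]; exact hc
  rw [← mul_inv_eq_one, ← map_inv, ← map_mul, conjAut_eq_one_iff (le_refl 2)] at hc'
  obtain ⟨u, hu⟩ := hc'
  rw [mul_inv_eq_iff_eq_mul] at hu
  have hu' : A * B = (u : F) • (B * A) := by
    have := congrArg Units.val hu
    simpa [gl, GeneralLinearGroup.coe_scalar, Matrix.scalar_apply, ← Matrix.smul_one_eq_diagonal]
      using this
  have hu2 : (u : F) * u = 1 := by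
    have h := congrArg Matrix.det hu'
    rw [Matrix.det_smul, Fintype.card_fin, det_mul, det_mul, mul_comm B.det] at h
    refine mul_right_cancel₀ (mul_ne_zero hAd hBd) ?_
    rw [one_mul, ← pow_two]
    exact h.symm
  rcases mul_self_eq_one_iff.1 hu2 with h1 | h1
  · rw [h1, one_smul] at hu'
    left
    refine conjAut_eq_of_mk ?_
    rw [mk_eq_pmk, mk_eq_pmk, pmk_eq_iff]
    show ∃ c : F, c • A = B
    have hA11 : A 1 1 = -A 0 0 := by rw [Matrix.trace_fin_two] at hA; linear_combination hA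
    have hB11 : B 1 1 = -B 0 0 := by rw [Matrix.trace_fin_two] at hB; linear_combination hB
    have e00 := congrFun (congrFun hu' 0) 0
    have e01 := congrFun (congrFun hu' 0) 1
    have e10 := congrFun (congrFun hu' 1) 0
    simp [Matrix.mul_apply, Fin.sum_univ_two, hA11, hB11] at e00 e01 e10
    by_cases ha : A 0 0 = 0
    · have hb : A 0 1 ≠ 0 := fun e => hAd (by rw [Matrix.det_fin_two, hA11, ha, e]; ring)
      refine ⟨B 0 1 / A 0 1, ?_⟩
      have hB00 : B 0 0 = 0 := by
        have : (2 : F) * (A 0 1 * B 0 0) = 0 := by linear_combination -e01 + 2 * B 0 1 * ha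
        simpa [h2, hb] using this
      ext i j
      fin_cases i <;> fin_cases j <;> simp [hA11, hB11, ha, hB00] <;> field_simp <;>
        linear_combination -e00
    · refine ⟨B 0 0 / A 0 0, ?_⟩
      have k01 : B 0 0 * A 0 1 = B 0 1 * A 0 0 := by
        refine mul_left_cancel₀ h2 ?_
        linear_combination -e01
      have k10 : B 0 0 * A 1 0 = B 1 0 * A 0 0 := by
        refine mul_left_cancel₀ h2 ?_
        linear_combination e10
      ext i j
      fin_cases i <;> fin_cases j <;> simp [hA11, hB11] <;> field_simp <;>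
        first
        | exact k01
        | exact k10
        | linear_combination k01
        | linear_combination k10
  · rw [h1, neg_one_smul] at hu'
    exact Or.inr (closure_eq_top h2 h3 hA hAd hAs hB hBd hBs hu')

end CfsgLib.GWCons.TwoOuter
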