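/-
Centralisers of involutions in groups with quasi-dihedral or wreathed Sylow 2-subgroups: the
derived group modulo the core is SL₂(q) (S1240), from the classification of perfect groups with
dihedral Sylow 2-subgroups.
-/
import Mathlib
import Cfsg.Agent.Lib.GWCons.QDNormalSL
import Cfsg.Agent.Lib.AutPSL.OutPSL
import Cfsg.Agent.Lib.TwoGroups.PSUThreeSylow
import Cfsg.Agent.S1213

set_option autoImplicit false
set_option linter.all false

open Subgroup
open scoped commutatorElement

namespace CfsgLib.GWCons.QDDerived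

universe u

open CfsgLib.AutPSL in
/-- The outer automorphism group of `PSL₂` of a finite field is abelian. -/
theorem out_comm {F : Type} [Field F] [Fintype F] (a b : MulAut (PSLG 2 F)) :
    ⁅a, b⁆ ∈ Cfsg.Inn (PSLG 2 F) := by
  obtain ⟨p, hp⟩ := CharP.exists F
  obtain ⟨f, hpp, hF⟩ := FiniteField.card F p
  haveI : Fact p.Prime := ⟨hpp⟩
  obtain ⟨e⟩ := nonempty_ringAut_equiv hF
  haveI := conjAut_range_normal (F := F) (n := 2) le_rfl
  obtain ⟨φ, -, hker⟩ := exists_out_hom (conjAut : GL (Fin 2) F →* _).range inn_le_range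
    (fieldAut : (F ≃+* F) →* _) (by
      rintro σ ⟨g, hg⟩
      exact (eq_one_of_conj_field le_rfl (g := g⁻¹) (σ := σ) (by rw [map_inv, hg, inv_mul_cancel])).2) (by
      intro β
      obtain ⟨g, σ, rfl | rfl⟩ := aut_psl_structure le_rfl β
      · exact ⟨conjAut g, ⟨g, rfl⟩, σ, rfl⟩
      · obtain ⟨w, hw⟩ := iotaAut_two (F := F)
        refine ⟨conjAut (g * glField σ w), ⟨_, rfl⟩, σ, ?_⟩
        rw [map_mul, mul_assoc, ← hw, fieldAut_mul_conjAut, mul_assoc])
  obtain ⟨-, hcard⟩ := diag_image (n := 2) (F := F) le_rfl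
  have h2 : Nat.card φ.ker ≤ 2 := by
    rw [hker, hcard]; exact Nat.gcd_le_left _ two_pos
  have hcen : φ.ker ≤ center (Cfsg.Out (PSLG 2 F)) := by
    intro x hx
    refine mem_center_iff.2 fun g => ?_
    by_contra hne
    have hx1 : x ≠ 1 := fun h => hne (by rw [h, mul_one, one_mul])
    have hgx : g * x * g⁻¹ ∈ φ.ker := (inferInstance : φ.ker.Normal).conj_mem _ hx g
    have h3 : g * x * g⁻¹ ≠ x := fun h => hne (mul_inv_eq_iff_eq_mul.1 h)
    have h4 : g * x * g⁻¹ ≠ 1 := fun h => hx1 (by
      rw [mul_inv_eq_one] at h; exact mul_eq_left.1 h)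
    haveI : Nontrivial φ.ker := ⟨⟨⟨x, hx⟩, 1, fun e => hx1 (congrArg Subtype.val e)⟩⟩
    have h5 : Nat.card φ.ker = 2 := le_antisymm h2 Finite.one_lt_card
    obtain ⟨y, -, huy⟩ := (Nat.card_eq_two_iff' (1 : φ.ker)).1 h5
    have h7 := (huy ⟨x, hx⟩ fun e => hx1 (congrArg Subtype.val e)).trans
      (huy ⟨_, hgx⟩ fun e => h4 (congrArg Subtype.val e)).symm
    exact h3 (congrArg Subtype.val h7).symm
  have : IsCyclic (F ≃+* F) := isCyclic_of_surjective e.symm e.symm.surjective
  have hcomm : ∀ x y : Cfsg.Out (PSLG 2 F), x * y = y * x :=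
    commutative_of_cyclic_center_quotient φ hcen
  have h6 : QuotientGroup.mk' (Cfsg.Inn (PSLG 2 F)) ⁅a, b⁆ = 1 := by
    rw [map_commutatorElement, commutatorElement_eq_one_iff_mul_comm]
    exact hcomm _ _
  exact (QuotientGroup.eq_one_iff _).1 h6

/-- A homomorphism into a 2-group is trivial without subgroups of index two. -/
theorem hom_trivial {A X : Type*} [Group A] [Finite A] [Group X] (hA : ∀ M : Subgroup A, M.index ≠ 2)
    (f : A →* X) (hr : IsPGroup 2 f.range) (a : A) : f a = 1 := by
  by_contra h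
  obtain ⟨M, -, hM⟩ := CfsgLib.GWCons.QDNormalSL.exists_index_two f.ker
    (fun e => h (MonoidHom.mem_ker.1 (e ▸ mem_top a)))
    (hr.of_equiv (QuotientGroup.quotientKerEquivRange f).symm)
  exact hA M hM

/-- Quasi-dihedral and wreathed groups have an abelian subgroup of index two. -/
theorem exists_abelian_index_two {S : Type*} [Group S] [Finite S]
    (h : Cfsg.IsQuasiDihedral S ∨ Cfsg.IsWreathed S) :
    ∃ A : Subgroup S, A.index = 2 ∧ ∀ x ∈ A, ∀ y ∈ A, x * y = y * x := by
  rcases h with h | h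
  · obtain ⟨r, x, y, hd⟩ := CfsgLib.TwoGroups.SD.exists_sd h
    refine ⟨zpowers x, ?_, ?_⟩
    · have h1 := (zpowers x).card_mul_index
      rw [Nat.card_zpowers, hd.ordx, hd.card] at h1
      have := CfsgLib.TwoGroups.SD.r_pos hd
      exact Nat.eq_of_mul_eq_mul_left (show 0 < 8 * r by omega) (h1.trans (by ring))
    · rintro _ ⟨i, rfl⟩ _ ⟨j, rfl⟩
      exact ((Commute.refl x).zpow_zpow i j).eq
  · obtain ⟨n, x, y, z, hd⟩ := CfsgLib.TwoGroups.WR.exists_wr h
    exact ⟨_, CfsgLib.TwoGroups.WR.index_base hd, fun a ha b hb =>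
      congrArg Subtype.val ((CfsgLib.TwoGroups.WR.base_comm hd).is_comm.comm ⟨a, ha⟩ ⟨b, hb⟩)⟩

/-- A nonabelian normal subgroup of such a group has abelian quotient and central centraliser. -/
theorem nonabelian_normal {S : Type*} [Group S] [Finite S]
    (h : Cfsg.IsQuasiDihedral S ∨ Cfsg.IsWreathed S) (N : Subgroup S) [N.Normal]
    (hN : ∃ a ∈ N, ∃ b ∈ N, a * b ≠ b * a) :
    (∀ s t : S, ⁅s, t⁆ ∈ N) ∧ ∀ c, (∀ n ∈ N, c * n = n * c) → c ∈ center S := by
  obtain ⟨A, hA, hAc⟩ := exists_abelian_index_two h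
  obtain ⟨a, ha, b, hb, hab⟩ := hN
  obtain ⟨g, hgN, hgA⟩ : ∃ g ∈ N, g ∉ A := by
    by_contra hc
    push Not at hc
    exact hab (hAc a (hc a ha) b (hc b hb))
  have hrep : ∀ s : S, ∃ x ∈ A, ∃ n ∈ N, s = x * n := by
    intro s
    by_cases hs : s ∈ A
    · exact ⟨s, hs, 1, one_mem _, (mul_one s).symm⟩
    · refine ⟨s * g, ?_, g⁻¹, inv_mem hgN, by group⟩
      rw [mul_mem_iff_of_index_two hA]
      simp [hs, hgA]
  refine ⟨fun s t => ?_, fun c hc => ?_⟩
  · rw [← QuotientGroup.eq_one_iff, ← QuotientGroup.mk'_apply, map_commutatorElement,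
      commutatorElement_eq_one_iff_mul_comm]
    obtain ⟨x, hx, n, hn, rfl⟩ := hrep s
    obtain ⟨y, hy, m, hm, rfl⟩ := hrep t
    rw [map_mul, map_mul, show QuotientGroup.mk' N n = 1 from (QuotientGroup.eq_one_iff n).2 hn,
      show QuotientGroup.mk' N m = 1 from (QuotientGroup.eq_one_iff m).2 hm, mul_one, mul_one,
      ← map_mul, ← map_mul, hAc x hx y hy]
  · obtain ⟨x, hxA, hxN, hxg⟩ : ∃ x, x ∈ A ∧ x ∈ N ∧ x * g ≠ g * x := by
      by_contra hno
      push Not at hno
      have hform : ∀ n ∈ N, Commute n g := by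
        intro n hn
        by_cases hnA : n ∈ A
        · exact hno n hnA hn
        · have h1 : n * g ∈ A := by
            rw [mul_mem_iff_of_index_two hA]; simp [hnA, hgA]
          have h2 := hno (n * g) h1 (mul_mem hn hgN)
          exact mul_right_cancel (h2.trans (mul_assoc g n g).symm)
      have hA' : ∀ n ∈ N, ∃ w ∈ A, w ∈ N ∧ (n = w ∨ n = w * g⁻¹) := by
        intro n hn
        by_cases hnA : n ∈ A
        · exact ⟨n, hnA, hn, Or.inl rfl⟩
        · refine ⟨n * g, ?_, mul_mem hn hgN, Or.inr (by group)⟩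
          rw [mul_mem_iff_of_index_two hA]; simp [hnA, hgA]
      refine hab ?_
      obtain ⟨w, hw, hwN, e⟩ := hA' a ha
      obtain ⟨v, hv, hvN, e'⟩ := hA' b hb
      have hwv : Commute w v := hAc w hw v hv
      have hgw := (hform w hwN).inv_right
      have hgv := (hform v hvN).inv_right
      have : Commute a b := by
        rcases e with rfl | rfl <;> rcases e' with rfl | rfl
        · exact hwv
        · exact hwv.mul_right hgw
        · exact hwv.mul_left hgv.symm
        · exact (hwv.mul_right hgw).mul_left ((hgv.symm).mul_right (Commute.refl _))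
      exact this
    have hcA : c ∈ A := by
      by_contra hcA
      have h1 : c * g ∈ A := by
        rw [mul_mem_iff_of_index_two hA]; simp [hcA, hgA]
      have h2 : Commute (c * g) x := hAc _ h1 x hxA
      have h3 : Commute g x := by
        have h4 : Commute c⁻¹ x := (show Commute c x from hc x hxN).inv_left
        simpa using h4.mul_left h2
      exact hxg h3.symm
    refine mem_center_iff.2 fun s => ?_
    obtain ⟨y, hy, n, hn, rfl⟩ := hrep s
    have h1 : Commute c y := hAc c hcA y hy
    exact (h1.mul_right (hc n hn)).symm.eq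

theorem sl23_aut_inner : ∀ a b : Matrix.SpecialLinearGroup (Fin 2) (ZMod 3),
    (b * Cfsg.Agent.S0106.st⁻¹) ^ 4 = 1 → b ^ 3 = 1 → a ^ 4 = 1 → a * a ≠ 1 →
    (b * a * b⁻¹) ^ 2 = a ^ 2 → b * a * b⁻¹ * a * (b * a * b⁻¹)⁻¹ = a⁻¹ →
    b * (b * a * b⁻¹) * b⁻¹ = a * (b * a * b⁻¹) →
    ∃ x : Matrix.SpecialLinearGroup (Fin 2) (ZMod 3),
      a = x * Cfsg.Agent.S0106.si * x⁻¹ ∧ b = x * Cfsg.Agent.S0106.st * x⁻¹ := by
  decide +kernel

theorem sl23_si_sq : Cfsg.Agent.S0106.si * Cfsg.Agent.S0106.si ≠ 1 := by decide +kernel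

theorem sl23_commutator :
    ⁅Cfsg.Agent.S0106.st,
      Cfsg.Agent.S0106.st * Cfsg.Agent.S0106.si * Cfsg.Agent.S0106.st⁻¹⁆ = Cfsg.Agent.S0106.si := by
  decide +kernel

theorem sl23_pow_four : ∀ (a : Fin 4) (b : Fin 2),
    (Cfsg.Agent.S0106.si ^ a.val *
      (Cfsg.Agent.S0106.st * Cfsg.Agent.S0106.si * Cfsg.Agent.S0106.st⁻¹) ^ b.val) ^ 4 = 1 := by
  decide +kernel

/-- An exponent-two group of order over four is no image of a two-generated group. -/
theorem not_surjective_sq {S X : Type*} [Group S] [Group X] {a b : S} (hab : closure {a, b} = ⊤)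
    (hsq : ∀ x : X, x * x = 1) (hX : 4 < Nat.card X) (f : S →* X) : ¬ Function.Surjective f := by
  intro hf
  have hinv : ∀ x : X, x⁻¹ = x := fun x => inv_eq_of_mul_eq_one_right (hsq x)
  have hcomm : ∀ x y : X, x * y = y * x := fun x y => by
    rw [← hinv (x * y), mul_inv_rev, hinv, hinv]
  let _ : CommGroup X := { (inferInstance : Group X) with mul_comm := hcomm }
  have hz : ∀ (x : X) (i : ℤ), x ^ i = 1 ∨ x ^ i = x := by
    intro x i
    obtain ⟨k, rfl⟩ | ⟨k, rfl⟩ := Int.even_or_odd i
    · left; rw [← two_mul, zpow_mul, zpow_ofNat, pow_two, hsq, one_zpow]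
    · right; rw [zpow_add_one, zpow_mul, zpow_ofNat, pow_two, hsq, one_zpow, one_mul]
  have hsurj : Function.Surjective (fun p : Bool × Bool =>
      (if p.1 then f a else 1) * (if p.2 then f b else 1)) := by
    intro t
    obtain ⟨g, rfl⟩ := hf t
    have hg : f g ∈ Subgroup.closure ({f a, f b} : Set X) := by
      rw [← Set.image_pair, ← MonoidHom.map_closure, hab]
      exact mem_map_of_mem f (mem_top g)
    obtain ⟨m, n, e⟩ := mem_closure_pair.1 hg
    rw [← e]
    rcases hz (f a) m with h | h <;> rcases hz (f b) n with h' | h' <;> rw [h, h']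
    exacts [⟨(false, false), rfl⟩, ⟨(false, true), rfl⟩, ⟨(true, false), rfl⟩, ⟨(true, true), rfl⟩]
  have := Nat.card_le_card_of_surjective _ hsurj
  rw [Nat.card_eq_fintype_card (α := Bool × Bool)] at this
  simp at this
  omega

/-- The derived group is the normal `SL₂(q)`. -/
theorem derived_eq {H : Type u} [Group H] [Finite H] (S : Sylow 2 H)
    (hS : Cfsg.IsQuasiDihedral (S : Subgroup H) ∨ Cfsg.IsWreathed (S : Subgroup H))
    (hO : Cfsg.oddCore H = ⊥) (K : Subgroup H) [K.Normal] {a : ℕ} (ha : K.index = 2 ^ a)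
    (hK2 : ∀ M : Subgroup ↥K, M.index ≠ 2)
    (huniq : ∀ s t : H, s ∈ K → t ∈ K → orderOf s = 2 → orderOf t = 2 → Commute s t → s = t)
    (D : Subgroup H) [D.Normal] {F : Type} [Field F] [Fintype F] (hodd : Odd (Fintype.card F))
    (χ : D ≃* Matrix.SpecialLinearGroup (Fin 2) F) : commutator H = D := by
  haveI : Fact (Nat.Prime 2) := ⟨Nat.prime_two⟩
  have hD2 : ∀ M : Subgroup D, M.index ≠ 2 := fun M hM =>
    CfsgLib.GWCons.QDNormalSL.sl_index_ne_two hodd (M.map χ.toMonoidHom)
      ((M.index_map_equiv χ).trans hM)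
  have hDK : D ≤ K := CfsgLib.GWCons.QDNormalSL.le_of_no_index_two D K hD2 ha
  have hZcard : Nat.card (center D) = 2 := by
    rw [← card_map_of_injective (f := χ.toMonoidHom) χ.injective,
      CfsgLib.GWCons.QDNormalSL.map_center_equiv, CfsgLib.PSL2.card_center_sl
        (CfsgLib.GWCons.QDNormalSL.two_ne_zero_of_odd hodd)]
  obtain ⟨z, hz, hzc⟩ : ∃ z : D, orderOf z = 2 ∧ z ∈ center D := by
    obtain ⟨c, hc⟩ := exists_prime_orderOf_dvd_card' (G := center D) 2 (by rw [hZcard])
    exact ⟨c, by rwa [orderOf_coe], c.2⟩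
  obtain ⟨v₀, hv₀⟩ := CfsgLib.GWCons.QDNormalSL.exists_order_four
    (CfsgLib.GWCons.QDNormalSL.two_ne_zero_of_odd hodd)
  set v : D := χ.symm v₀ with hv
  have hov : orderOf v = 4 := by rw [hv, MulEquiv.orderOf_eq, hv₀]; norm_num
  have hv2 : v ^ 2 = z := by
    refine Subtype.ext (huniq _ _ (hDK (v ^ 2).2) (hDK z.2) ?_ (by rwa [orderOf_coe]) ?_)
    · rw [orderOf_coe, orderOf_pow' v two_ne_zero, hov]; rfl
    · exact congrArg Subtype.val (mem_center_iff.1 hzc (v ^ 2))
  -- the centraliser of `D`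
  set B := centralizer (D : Set H) with hB
  haveI hBn : B.Normal := Subgroup.normal_centralizer
  have hBcomm : ∀ b ∈ B, ∀ d ∈ D, b * d = d * b := fun b hb d hd => (hb d hd).symm
  have hBD : ∀ b ∈ B, b ∈ D → b = 1 ∨ b = (z : H) := by
    intro b hb hbD
    by_cases hb1 : b = 1
    · exact Or.inl hb1
    right
    have hbc : (⟨b, hbD⟩ : D) ∈ center D :=
      mem_center_iff.2 fun d => Subtype.ext (hBcomm b hb d d.2).symm
    have ho := Subgroup.orderOf_dvd_natCard (center D) hbc
    rw [hZcard, orderOf_mk] at ho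
    rcases (Nat.dvd_prime Nat.prime_two).1 ho with h | h
    · exact absurd (orderOf_eq_one_iff.1 h) hb1
    · exact huniq _ _ (hDK hbD) (hDK z.2) h (by rwa [orderOf_coe]) (hBcomm b hb _ z.2)
  -- `B ∩ K` has order two
  set N := B ⊓ K with hN
  haveI : N.Normal := by rw [hN]; infer_instance
  have hzN : (z : H) ∈ N := ⟨fun d hd => congrArg Subtype.val (mem_center_iff.1 hzc ⟨d, hd⟩), hDK z.2⟩
  have hNinv : ∀ x ∈ N, x ^ 4 = 1 → x ^ 2 = 1 := by
    intro x hx h4
    by_contra h2
    have hox : orderOf x = 2 ^ 2 :=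
      orderOf_eq_prime_pow (n := 1) (by rwa [pow_one]) (by norm_num; exact h4)
    have hx2 : orderOf (x ^ 2) = 2 := by rw [orderOf_pow' x two_ne_zero, hox]; rfl
    have hvx : Commute x (v : H) := hBcomm x hx.1 _ v.2
    have hxz : x ^ 2 = (z : H) := huniq _ _ (pow_mem hx.2 _) (hDK z.2) hx2 (by rwa [orderOf_coe])
      (hBcomm _ (pow_mem hx.1 _) _ z.2)
    set w := x * (v : H)⁻¹ with hw
    have hw2 : w ^ 2 = 1 := by
      rw [hw, hvx.inv_right.mul_pow, inv_pow, ← SubgroupClass.coe_pow, hv2, hxz, mul_inv_cancel]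
    have hwK : w ∈ K := mul_mem hx.2 (inv_mem (hDK v.2))
    have hxD : x ∈ D := by
      by_cases hw1 : w = 1
      · rw [mul_inv_eq_one.1 hw1]; exact v.2
      · have h9 := huniq w (z : H) hwK (hDK z.2) (orderOf_eq_prime hw2 hw1) (by rwa [orderOf_coe])
          ((show Commute x (z : H) from hBcomm x hx.1 _ z.2).mul_left
            (show Commute (v : H) (z : H) from
              congrArg Subtype.val (mem_center_iff.1 hzc v)).inv_left)
        rw [hw, mul_inv_eq_iff_eq_mul] at h9
        rw [h9]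
        exact mul_mem z.2 v.2
    rcases hBD x hx.1 hxD with h | h
    · exact h2 (by rw [h, one_pow])
    · rw [h, ← SubgroupClass.coe_pow, ← hz, pow_orderOf_eq_one] at h2
      exact h2 rfl
  have hNcard : Nat.card N = 2 := by
    obtain ⟨T⟩ : Nonempty (Sylow 2 N) := inferInstance
    have hT : ∀ t ∈ (T : Subgroup N), t = 1 ∨ (t : H) = z := by
      intro t ht
      obtain ⟨k, hk⟩ := T.isPGroup' ⟨t, ht⟩
      have hk' : ((t : H)) ^ 2 ^ k = 1 := by
        have := congrArg (fun x : (T : Subgroup N) => ((x : N) : H)) hk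
        simpa using this
      have hsq : ((t : H)) ^ 2 = 1 := by
        clear hk
        induction k with
        | zero => rw [pow_zero, pow_one] at hk'; rw [hk', one_pow]
        | succ k ih =>
          rcases k with _ | k
          · simpa using hk'
          · apply ih
            have h5 : ((t : H) ^ 2 ^ k) ^ 4 = 1 := by
              rw [← pow_mul, show (4 : ℕ) = 2 ^ 2 from rfl, ← pow_add]; exact hk'
            have h6 := hNinv _ (pow_mem t.2 _) h5
            rwa [← pow_mul, ← pow_succ] at h6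
      by_cases ht1 : (t : H) = 1
      · exact Or.inl (Subtype.ext ht1)
      · exact Or.inr (huniq _ _ t.2.2 (hDK z.2) (orderOf_eq_prime hsq ht1) (by rwa [orderOf_coe])
          (hBcomm _ t.2.1 _ z.2))
    have hTc : Nat.card (T : Subgroup N) ≤ 2 := by
      classical
      refine le_trans (Nat.card_le_card_of_injective
        (fun t : (T : Subgroup N) => decide ((t : N) = 1)) ?_) (by simp)
      intro t s hts
      simp only [decide_eq_decide] at hts
      refine Subtype.ext ?_
      rcases hT _ t.2 with h | h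
      · rw [h, hts.1 h]
      rcases hT _ s.2 with h' | h'
      · rw [hts.2 h', h']
      · exact Subtype.ext (h.trans h'.symm)
    have hcyc : IsCyclic (T : Subgroup N) := by
      obtain ⟨j, hj⟩ := IsPGroup.iff_card.1 T.isPGroup'
      rcases j with _ | _ | j
      · haveI := (Nat.card_eq_one_iff_unique.1 (by rw [hj, pow_zero])).1
        exact isCyclic_of_subsingleton
      · exact isCyclic_of_prime_card (p := 2) (by rw [hj, pow_one])
      · have h4 : 4 ≤ 2 ^ (j + 1 + 1) := Nat.pow_le_pow_right (n := 2) two_pos (show 2 ≤ j + 1 + 1 by omega)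
        omega
    have heven : Even (Nat.card N) := by
      rw [even_iff_two_dvd, ← hz, ← orderOf_coe z]
      exact Subgroup.orderOf_dvd_natCard N hzN
    obtain ⟨M, hM⟩ := Cfsg.Agent.S0219.result heven T hcyc
    -- `M` consists of the elements of odd order
    have h4 : ¬ 4 ∣ Nat.card N := by
      intro h4
      have h5 : 2 ^ 2 ∣ Nat.card (T : Subgroup N) :=
        T.pow_dvd_card_of_pow_dvd_card (by norm_num; exact h4)
      have := Nat.le_of_dvd Nat.card_pos h5
      omega
    have hMc : 2 * Nat.card M = Nat.card N := by rw [← M.card_mul_index, hM, mul_comm]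
    have hModd : Odd (Nat.card M) := by
      rw [← Nat.not_even_iff_odd, even_iff_two_dvd]
      rintro ⟨j, hj⟩
      exact h4 ⟨j, by omega⟩
    have hmem : ∀ x : N, x ∈ M ↔ Odd (orderOf x) := by
      intro x
      refine ⟨fun hx => hModd.of_dvd_nat (Subgroup.orderOf_dvd_natCard M hx), fun hx => ?_⟩
      obtain ⟨j, hj⟩ := hx
      have h7 : (x ^ (j + 1)) * (x ^ (j + 1)) = x := by
        rw [← pow_add, show j + 1 + (j + 1) = (2 * j + 1) + 1 by ring, pow_succ, ← hj,
          pow_orderOf_eq_one, one_mul]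
      rw [← h7, mul_mem_iff_of_index_two hM]
    have hMn : (M.map N.subtype).Normal := by
      refine ⟨fun x hx g => ?_⟩
      obtain ⟨y, hy, rfl⟩ := hx
      have hc : g * (y : H) * g⁻¹ ∈ N := (inferInstance : N.Normal).conj_mem _ y.2 g
      refine ⟨⟨_, hc⟩, (hmem _).2 ?_, rfl⟩
      rw [← orderOf_coe, Subgroup.coe_mk, CfsgLib.Involutions.orderOf_conj_eq, orderOf_coe]
      exact (hmem y).1 hy
    have hMb : M.map N.subtype = ⊥ := by
      rw [eq_bot_iff, ← hO]
      refine CfsgLib.PCore.le_pPrimeCore_of_not_dvd hMn ?_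
      rw [card_subtype, ← even_iff_two_dvd, Nat.not_even_iff_odd]
      exact hModd
    have : Nat.card M = 1 := by rw [← card_subtype N M, hMb, card_bot]
    omega
  have hNz : ∀ x ∈ N, x = 1 ∨ x = (z : H) := by
    intro x hx
    by_cases hx1 : x = 1
    · exact Or.inl hx1
    · refine Or.inr (huniq _ _ hx.2 (hDK z.2) ?_ (by rwa [orderOf_coe]) (hBcomm _ hx.1 _ z.2))
      have h := Subgroup.orderOf_dvd_natCard N hx
      rw [hNcard] at h
      exact ((Nat.dvd_prime Nat.prime_two).1 h).resolve_left (fun e => hx1 (orderOf_eq_one_iff.1 e))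
  -- `B` is a 2-group inside the Sylow subgroup
  have hBp : IsPGroup 2 B := by
    obtain ⟨i, -, hi⟩ := (Nat.dvd_prime_pow Nat.prime_two).1
      (ha ▸ Subgroup.relIndex_dvd_index_of_normal K B : K.relIndex B ∣ 2 ^ a)
    refine IsPGroup.of_card (n := i + 1) ?_
    have h := (K.subgroupOf B).card_mul_index
    have hc2 : Nat.card (K.subgroupOf B) = 2 := by
      rw [← Subgroup.inf_subgroupOf_right K B,
        Nat.card_congr (Subgroup.subgroupOfEquivOfLe (inf_le_right : K ⊓ B ≤ B)).toEquiv, inf_comm,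
        ← hN, hNcard]
    rw [show (K.subgroupOf B).index = 2 ^ i from hi, hc2] at h
    rw [← h, pow_succ']
  have hBS : B ≤ (S : Subgroup H) := by
    intro b hb
    obtain ⟨g, hg⟩ := CfsgLib.Involutions.exists_conj_le_sylow hBp S
    have := hg (g⁻¹ * b * g) (by
      have := hBn.conj_mem b hb g⁻¹
      rwa [inv_inv] at this)
    rwa [show g * (g⁻¹ * b * g) * g⁻¹ = b by group] at this
  -- the Sylow subgroup of `D`
  set Q := D.subgroupOf (S : Subgroup H) with hQ
  obtain ⟨TD⟩ : Nonempty (Sylow 2 D) := inferInstance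
  obtain ⟨c, hc⟩ := CfsgLib.Involutions.exists_conj_le_sylow (TD.isPGroup'.map D.subtype) S
  have hTQ : ∀ d ∈ (TD : Subgroup D), ∃ q ∈ Q, ((q : (S : Subgroup H)) : H) = c * (d : H) * c⁻¹ :=
    fun d hd => ⟨⟨_, hc _ (mem_map_of_mem D.subtype hd)⟩,
      (inferInstance : D.Normal).conj_mem _ d.2 c, rfl⟩
  have hQnc : ∃ a ∈ Q, ∃ b ∈ Q, a * b ≠ b * a := by
    by_contra hcom
    push Not at hcom
    have hTc : ∀ x y : (TD : Subgroup D), x * y = y * x := by
      intro x y
      obtain ⟨q, hq, eq⟩ := hTQ _ x.2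
      obtain ⟨r, hr, er⟩ := hTQ _ y.2
      have h := congrArg Subtype.val (hcom q hq r hr)
      rw [Subgroup.coe_mul, Subgroup.coe_mul, eq, er] at h
      refine Subtype.ext (Subtype.ext (mul_left_cancel (a := c) (mul_right_cancel (b := c⁻¹) ?_)))
      show c * (((x : D) : H) * ((y : D) : H)) * c⁻¹ = c * (((y : D) : H) * ((x : D) : H)) * c⁻¹
      calc _ = c * ((x : D) : H) * c⁻¹ * (c * ((y : D) : H) * c⁻¹) := by group
        _ = c * ((y : D) : H) * c⁻¹ * (c * ((x : D) : H) * c⁻¹) := h
        _ = _ := by group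
    have h1 : ∀ x y : (TD : Subgroup D), orderOf x = 2 → orderOf y = 2 → x = y := fun x y hx hy =>
      Subtype.ext (Subtype.ext (huniq _ _ (hDK (x : D).2) (hDK (y : D).2)
        (by rwa [orderOf_coe, orderOf_coe]) (by rwa [orderOf_coe, orderOf_coe])
        (congrArg (fun w : (TD : Subgroup D) => ((w : D) : H)) (hTc x y))))
    rcases CfsgLib.TwoGroups.OneInvolution.isCyclic_or_quaternion TD.isPGroup' h1 with
      hcyc | ⟨k, hk, ⟨e⟩⟩
    · obtain ⟨M, hM⟩ := Cfsg.Agent.S0219.result (by
        rw [even_iff_two_dvd, ← hz]; exact _root_.orderOf_dvd_natCard z) TD hcyc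
      exact hD2 M hM
    · obtain ⟨L, hLS, -, -⟩ := CfsgLib.Involutions.LargeQuat.exists_of_equiv TD (k - 1)
        (by rwa [show k - 1 + 1 = k by omega])
      have hmem : L.a ∈ (TD : Subgroup D) ∧ L.x ∈ (TD : Subgroup D) :=
        ⟨hLS ▸ L.a_mem, hLS ▸ L.x_mem⟩
      have h2 := L.x_inv
      have h3 : L.x * L.a = L.a * L.x :=
        congrArg Subtype.val (hTc ⟨L.x, hmem.2⟩ ⟨L.a, hmem.1⟩)
      rw [h3, mul_inv_cancel_right] at h2
      have h4 : L.a ^ 2 = 1 := by
        rw [pow_two]; nth_rewrite 2 [h2]; exact mul_inv_cancel _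
      have h5 := orderOf_dvd_of_pow_eq_one h4
      rw [L.a_order] at h5
      have := L.two_le
      have := Nat.le_of_dvd two_pos h5
      omega
  haveI hQn : Q.Normal := by rw [hQ]; infer_instance
  obtain ⟨hSD, hScent⟩ := nonabelian_normal hS Q hQnc
  have hBZ : ∀ b ∈ B, ∀ s ∈ (S : Subgroup H), b * s = s * b := by
    intro b hb s hs
    have := mem_center_iff.1 (hScent ⟨b, hBS hb⟩ fun n hn => Subtype.ext (hBcomm b hb _ hn)) ⟨s, hs⟩
    exact (congrArg Subtype.val this).symm
  have hKS : ∀ L : Subgroup H, K ≤ L → (S : Subgroup H) ≤ L → L = ⊤ := by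
    intro L hKL hSL
    rw [← index_eq_one]
    obtain ⟨i, -, hi⟩ := (Nat.dvd_prime_pow Nat.prime_two).1 (ha ▸ index_dvd_of_le hKL : L.index ∣ 2 ^ a)
    rcases i with _ | i
    · simpa using hi
    · exact absurd (dvd_trans (hi ▸ dvd_pow_self 2 (Nat.succ_ne_zero i)) (index_dvd_of_le hSL))
        S.not_dvd_index
  -- `B` is central
  have hBc : B ≤ center H := by
    intro b hb
    refine mem_center_iff.2 fun g => ?_
    have hcomm : ∀ k : K, ⁅(k : H), b⁆ ∈ N := fun k => by
      refine Subgroup.mem_inf.2 ⟨?_, ?_⟩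
      · rw [commutatorElement_def]; exact mul_mem (hBn.conj_mem b hb _) (inv_mem hb)
      · rw [commutatorElement_def, mul_assoc, mul_assoc, ← mul_assoc b]
        exact mul_mem k.2 ((inferInstance : K.Normal).conj_mem _ (inv_mem k.2) b)
    have hNcen : ∀ x ∈ N, ∀ k ∈ K, Commute x k := by
      intro x hx k hk
      rcases hNz x hx with h | h
      · rw [h]; exact Commute.one_left k
      · have hkz : k * x * k⁻¹ = x := by
          rcases hNz _ ((inferInstance : N.Normal).conj_mem x hx k) with h' | h'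
          · rw [conj_eq_one_iff] at h'; rw [h']; group
          · rw [h', h]
        exact (mul_inv_eq_iff_eq_mul.1 hkz).symm
    let f : K →* N := MonoidHom.mk' (fun k => ⟨⁅(k : H), b⁆, hcomm k⟩) (fun k l => Subtype.ext (by
      show ⁅(k : H) * l, b⁆ = ⁅(k : H), b⁆ * ⁅(l : H), b⁆
      have h1 : (k : H) * ⁅(l : H), b⁆ * (k : H)⁻¹ = ⁅(l : H), b⁆ :=
        mul_inv_eq_iff_eq_mul.2 (hNcen _ (hcomm l) _ k.2).symm.eq
      have h2 : ⁅(k : H), b⁆ * ⁅(l : H), b⁆ = ⁅(l : H), b⁆ * ⁅(k : H), b⁆ :=
        (hNcen _ (hcomm k) _ (hcomm l).2).eq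
      rw [h2]
      nth_rewrite 1 [← h1]
      simp only [commutatorElement_def]
      group))
    have hf := hom_trivial hK2 f ((IsPGroup.of_card (n := 1) (by rw [hNcard, pow_one])).to_subgroup _)
    have htop : centralizer ({b} : Set H) = ⊤ := hKS _
      (fun k hk => mem_centralizer_singleton_iff.2
        (commutatorElement_eq_one_iff_mul_comm.1 (congrArg Subtype.val (hf ⟨k, hk⟩))))
      (fun s hs => mem_centralizer_singleton_iff.2 (hBZ b hb s hs).symm)
    exact mem_centralizer_singleton_iff.1 (htop ▸ mem_top g : g ∈ centralizer ({b} : Set H))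
  refine le_antisymm ?_ ?_
  · -- the quotient by `D` is abelian
    set π := QuotientGroup.mk' D with hπ
    set E := QuotientGroup.congr (center D) (center (Matrix.SpecialLinearGroup (Fin 2) F)) χ
      (CfsgLib.GWCons.QDNormalSL.map_center_equiv χ) with hE
    let σ : H →* MulAut (Matrix.ProjectiveSpecialLinearGroup (Fin 2) F) :=
      (MulAut.congr E).toMonoidHom.comp
        ((CfsgLib.GWCons.QDNormalSL.autQuot D).comp MulAut.conjNormal)
    have hDB : ∀ x y : H, π ⁅x, y⁆ ∈ B.map π := by
      intro x y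
      obtain ⟨u, hu⟩ := out_comm (σ x) (σ y)
      obtain ⟨d, hd⟩ : ∃ d : D, E (QuotientGroup.mk' _ d) = u := by
        obtain ⟨q, hq⟩ := E.surjective u
        obtain ⟨d, rfl⟩ := QuotientGroup.mk'_surjective _ q
        exact ⟨d, hq⟩
      set w := (d : H)⁻¹ * ⁅x, y⁆ with hw
      have hσapp : ∀ (g : H) (e : D), σ g (E (QuotientGroup.mk' (center D) e)) =
          E (QuotientGroup.mk' (center D) (MulAut.conjNormal g e)) := by
        intro g e
        simp only [σ, MonoidHom.comp_apply, MulEquiv.coe_toMonoidHom, MulAut.congr_apply,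
          MulEquiv.trans_apply, MulEquiv.symm_apply_apply]
        rfl
      have hσ : σ w = 1 := by
        have h1 : σ (d : H) = MulAut.conj u := by
          refine MulEquiv.ext fun q => ?_
          obtain ⟨q', rfl⟩ := E.surjective q
          obtain ⟨e, rfl⟩ := QuotientGroup.mk'_surjective _ q'
          rw [hσapp, MulAut.conj_apply, ← hd, ← map_inv, ← map_mul, ← map_mul, ← map_inv, ← map_mul,
            ← map_mul]
          congr 2
        rw [hw, map_mul, map_inv, map_commutatorElement, ← hu, h1]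
        exact inv_mul_cancel _
      have hact : ∀ e : D, (MulAut.conjNormal w e : D) * e⁻¹ ∈ center D := by
        intro e
        have h1 := hσapp w e
        rw [hσ, MulAut.one_apply] at h1
        have h2 := (E.injective h1).symm
        rw [← QuotientGroup.eq_one_iff, ← QuotientGroup.mk'_apply, map_mul, map_inv, h2, mul_inv_cancel]
      let f : D →* center D := MonoidHom.mk' (fun e => ⟨_, hact e⟩) (fun e e' => Subtype.ext (by
        show MulAut.conjNormal w (e * e') * (e * e')⁻¹ =
          MulAut.conjNormal w e * e⁻¹ * (MulAut.conjNormal w e' * e'⁻¹)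
        have h3 := mem_center_iff.1 (hact e') e⁻¹
        rw [map_mul, mul_inv_rev, mul_assoc (MulAut.conjNormal w e) e⁻¹, h3]
        group))
      have hf := hom_trivial hD2 f ((IsPGroup.of_card (n := 1) (by rw [hZcard, pow_one])).to_subgroup _)
      have hwB : w ∈ B := by
        intro e he
        have h4 : MulAut.conjNormal w (⟨e, he⟩ : D) = ⟨e, he⟩ :=
          mul_inv_eq_one.1 (congrArg Subtype.val (hf ⟨e, he⟩))
        have h5 := congrArg Subtype.val h4
        rw [MulAut.conjNormal_apply] at h5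
        exact (mul_inv_eq_iff_eq_mul.1 h5).symm
      refine ⟨w, hwB, ?_⟩
      rw [hw, map_mul, map_inv, show π (d : H) = 1 from (QuotientGroup.eq_one_iff _).2 d.2, inv_one,
        one_mul]
    have hBcen : ∀ q ∈ B.map π, ∀ x : H, Commute q (π x) := by
      rintro _ ⟨b, hb, rfl⟩ x
      exact (show Commute b x from (mem_center_iff.1 (hBc hb) x).symm).map π
    have hKc : ∀ k ∈ K, ∀ y : H, π ⁅k, y⁆ = 1 := by
      intro k hk y
      let f : K →* B.map π := MonoidHom.mk' (fun k => ⟨π ⁅(k : H), y⁆, hDB _ _⟩) (fun k l =>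
        Subtype.ext (by
          show π ⁅(k : H) * l, y⁆ = π ⁅(k : H), y⁆ * π ⁅(l : H), y⁆
          have h1 := (hBcen _ (hDB (l : H) y) (k : H)).eq
          have h2 := (hBcen _ (hDB (k : H) y) ⁅(l : H), y⁆).eq
          rw [h2, show ⁅(k : H) * l, y⁆ = (k : H) * ⁅(l : H), y⁆ * (k : H)⁻¹ * ⁅(k : H), y⁆ by
            simp only [commutatorElement_def]; group, map_mul, map_mul, map_mul, ← h1, map_inv,
            mul_inv_cancel_right]))
      exact congrArg Subtype.val (hom_trivial hK2 f ((hBp.map π).to_subgroup _) ⟨k, hk⟩)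
    rw [_root_.commutator_def, commutator_le]
    intro x _ y _
    have hSc : ∀ s ∈ (S : Subgroup H), ∀ y : H, π ⁅s, y⁆ = 1 := by
      intro s hs y
      have htop : (centralizer ({π s} : Set (H ⧸ D))).comap π = ⊤ := hKS _
        (fun k hk => mem_centralizer_singleton_iff.2 (by
          have := hKc k hk s
          rwa [map_commutatorElement, commutatorElement_eq_one_iff_mul_comm] at this))
        (fun t ht => mem_centralizer_singleton_iff.2 (by
          have := hSD ⟨t, ht⟩ ⟨s, hs⟩
          rw [← commutatorElement_eq_one_iff_mul_comm, ← map_commutatorElement]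
          exact (QuotientGroup.eq_one_iff _).2 this))
      have := mem_centralizer_singleton_iff.1 (mem_comap.1 (htop ▸ mem_top y))
      rw [map_commutatorElement, commutatorElement_eq_one_iff_mul_comm]
      exact this.symm
    have htop : (centralizer ({π y} : Set (H ⧸ D))).comap π = ⊤ := hKS _
      (fun k hk => mem_centralizer_singleton_iff.2 (by
        have := hKc k hk y
        rwa [map_commutatorElement, commutatorElement_eq_one_iff_mul_comm] at this))
      (fun t ht => mem_centralizer_singleton_iff.2 (by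
        have := hSc t ht y
        rwa [map_commutatorElement, commutatorElement_eq_one_iff_mul_comm] at this))
    have := mem_centralizer_singleton_iff.1 (mem_comap.1 (htop ▸ mem_top x))
    rw [← QuotientGroup.eq_one_iff, ← QuotientGroup.mk'_apply, map_commutatorElement,
      commutatorElement_eq_one_iff_mul_comm]
    exact this
  · -- `D` lies in the derived group
    rcases CfsgLib.GWCons.QDNormalSL.sl_card_cases hodd with ⟨hq, hc24⟩ | ⟨hq, -⟩
    swap
    · haveI := (CfsgLib.GWCons.QDNormalSL.quasisimple_congr χ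
        (CfsgLib.GWCons.QDNormalSL.sl_quasisimple hq)).1
      have h1 : D = ⁅D, D⁆ := by
        rw [← map_subtype_commutator, Group.isPerfect_def.1 inferInstance, ← MonoidHom.range_eq_map,
          range_subtype]
      rw [h1]
      exact commutator_mono le_top le_top
    haveI : Fact (Nat.Prime 3) := ⟨by norm_num⟩
    let φ : ZMod 3 ≃+* F := ZMod.ringEquivOfPrime F (by norm_num) hq
    let ψ₀ : Matrix.SpecialLinearGroup (Fin 2) F →* Matrix.SpecialLinearGroup (Fin 2) (ZMod 3) :=
      Matrix.SpecialLinearGroup.map φ.symm.toRingHom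
    have hψ₀ : Function.Bijective ψ₀ := by
      refine ⟨fun x y h => ?_, fun x => ⟨Matrix.SpecialLinearGroup.map φ.toRingHom x, ?_⟩⟩
      · ext i j
        exact φ.symm.injective (by
          simpa [ψ₀] using congrArg (fun m : Matrix.SpecialLinearGroup (Fin 2) (ZMod 3) => m i j) h)
      · ext i j; simp [ψ₀]
    set e3 : D ≃* Matrix.SpecialLinearGroup (Fin 2) (ZMod 3) :=
      χ.trans (MulEquiv.ofBijective ψ₀ hψ₀) with he3
    obtain ⟨r1, r2, r3, r4, r5⟩ := Cfsg.Agent.S0106.sl_rel
    have hgen := Cfsg.Agent.S0106.sl_gen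
    have hsisq := sl23_si_sq
    have hcom := sl23_commutator
    have hinner := sl23_aut_inner
    have hp4 := sl23_pow_four
    generalize Cfsg.Agent.S0106.si = si at r2 r3 r4 r5 hgen hsisq hcom hinner hp4
    generalize Cfsg.Agent.S0106.st = st at r1 r3 r4 r5 hgen hcom hinner hp4
    obtain ⟨h, hh⟩ : ∃ h : H, ((e3 (MulAut.conjNormal h (e3.symm st))) * st⁻¹) ^ 4 ≠ 1 := by
      by_contra hall
      push Not at hall
      have hsplit : ∀ h : H, ∃ d : D, (d : H)⁻¹ * h ∈ B := by
        intro h
        let α : Matrix.SpecialLinearGroup (Fin 2) (ZMod 3) ≃* _ :=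
          (e3.symm.trans (MulAut.conjNormal (H := D) h)).trans e3
        obtain ⟨x, hx1, hx2⟩ := hinner (α si) (α st) (hall h)
          (by rw [← map_pow, r1, map_one]) (by rw [← map_pow, r2, map_one])
          (by rw [← map_mul, ← map_one α]; exact fun e => hsisq (α.injective e))
          (by simpa only [map_mul, map_inv, map_pow] using congrArg α r3)
          (by simpa only [map_mul, map_inv, map_pow] using congrArg α r4)
          (by simpa only [map_mul, map_inv, map_pow] using congrArg α r5)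
        refine ⟨e3.symm x, fun e he => ?_⟩
        have hfix : ∀ y, (y = si ∨ y = st) →
            MulAut.conjNormal ((e3.symm x : H)⁻¹ * h) (e3.symm y) = e3.symm y := by
          intro y hy
          have hα : MulAut.conjNormal h (e3.symm y) = e3.symm (x * y * x⁻¹) := by
            apply e3.injective
            rw [e3.apply_symm_apply]
            rcases hy with rfl | rfl
            exacts [hx1, hx2]
          rw [map_mul, MulAut.mul_apply, hα]
          refine Subtype.ext ?_
          rw [MulAut.conjNormal_apply, map_mul, map_mul, map_inv, Subgroup.coe_mul, Subgroup.coe_mul,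
            Subgroup.coe_inv]
          group
        obtain ⟨a', b', c', hy⟩ := hgen (e3 ⟨e, he⟩)
        have key : ∀ m : MulAut D, m (e3.symm si) = e3.symm si → m (e3.symm st) = e3.symm st →
            m (⟨e, he⟩ : D) = ⟨e, he⟩ := by
          intro m hm1 hm2
          rw [← e3.symm_apply_apply ⟨e, he⟩, hy]
          simp only [map_mul, map_pow, map_inv, hm1, hm2]
        have h5 : MulAut.conjNormal ((e3.symm x : H)⁻¹ * h) (⟨e, he⟩ : D) = ⟨e, he⟩ :=
          key _ (hfix si (Or.inl rfl)) (hfix st (Or.inr rfl))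
        have h6 := congrArg Subtype.val h5
        rw [MulAut.conjNormal_apply] at h6
        exact (mul_inv_eq_iff_eq_mul.1 h6).symm
      set BS := B.subgroupOf (S : Subgroup H) with hBS'
      haveI : BS.Normal := by rw [hBS']; infer_instance
      have hnle : ¬ (S : Subgroup H) ≤ D := by
        intro hle
        obtain ⟨u, w, hu, hw, hcuw, hne⟩ := CfsgLib.GWCons.QDNormalSL.two_involutions hS
        exact hne (Subtype.ext (huniq u w (hDK (hle u.2)) (hDK (hle w.2)) (by rwa [orderOf_coe])
          (by rwa [orderOf_coe]) (congrArg Subtype.val hcuw.eq)))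
      obtain ⟨M, hQM, hM⟩ := CfsgLib.GWCons.QDNormalSL.exists_index_two Q
        (fun e => hnle (subgroupOf_eq_top.1 e)) (S.isPGroup'.to_quotient Q)
      haveI : M.Normal := normal_of_index_eq_two hM
      have hTD8 : Nat.card (TD : Subgroup D) = 8 := by
        rw [Sylow.card_eq_multiplicity, Nat.card_congr e3.toEquiv, CfsgLib.Large.SLTwoThree.card_sl,
          show (24 : ℕ) = 2 ^ 3 * 3 by norm_num, Nat.factorization_mul (by norm_num) (by norm_num),
          Finsupp.add_apply, Nat.Prime.factorization_pow Nat.prime_two,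
          Nat.factorization_eq_zero_of_not_dvd (by norm_num)]
        simp
      have hQ8 : Nat.card Q = 8 := by
        refine le_antisymm ?_ ?_
        · have hQD : Nat.card Q = Nat.card ((Q.map (S : Subgroup H).subtype).subgroupOf D) := by
            rw [Nat.card_congr (subgroupOfEquivOfLe (K := D) (fun x hx => by
              obtain ⟨y, hy, rfl⟩ := hx; exact hy)).toEquiv, card_subtype]
          rw [hQD]
          obtain ⟨g, hg⟩ := CfsgLib.Involutions.exists_conj_le_sylow
            (T := (Q.map (S : Subgroup H).subtype).subgroupOf D)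
            (IsPGroup.comap_of_injective ((S.isPGroup'.to_subgroup Q).map _) D.subtype
              D.subtype_injective) TD
          rw [← hTD8]
          exact Nat.card_le_card_of_injective
            (fun x => (⟨g * (x : D) * g⁻¹, hg _ x.2⟩ : (TD : Subgroup D)))
            (fun x y hxy => Subtype.ext (mul_left_cancel (mul_right_cancel (congrArg Subtype.val hxy))))
        · rw [← hTD8]
          choose qf hqf1 hqf2 using hTQ
          refine Nat.card_le_card_of_injective
            (fun x : (TD : Subgroup D) => (⟨qf x x.2, hqf1 x x.2⟩ : Q)) (fun x y hxy => ?_)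
          have h7 := congrArg (fun q : Q => ((q : (S : Subgroup H)) : H)) hxy
          simp only [hqf2] at h7
          exact Subtype.ext (Subtype.ext (mul_left_cancel (mul_right_cancel h7)))
      have hqz : ∀ q ∈ Q, q * q ∈ BS := by
        intro q hq
        have hord : orderOf q ∣ 8 := hQ8 ▸ Subgroup.orderOf_dvd_natCard Q hq
        by_cases h8 : orderOf q = 8
        · exfalso
          obtain ⟨a', ha', b', hb', hne'⟩ := hQnc
          have hz8 : zpowers q = Q := eq_of_le_of_card_ge (zpowers_le.2 hq)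
            (by rw [Nat.card_zpowers, h8, hQ8])
          rw [← hz8] at ha' hb'
          obtain ⟨i, rfl⟩ := ha'
          obtain ⟨j, rfl⟩ := hb'
          exact hne' ((Commute.refl q).zpow_zpow i j).eq
        · obtain ⟨i, hi, hi'⟩ := (Nat.dvd_prime_pow Nat.prime_two).1
            (show orderOf q ∣ 2 ^ 3 by norm_num; exact hord)
          have hi2 : i ≤ 2 := by
            by_contra h'
            obtain rfl : i = 3 := by omega
            exact h8 hi'
          have h4 : q ^ 4 = 1 := orderOf_dvd_iff_pow_eq_one.1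
            (hi' ▸ (pow_dvd_pow 2 hi2 : 2 ^ i ∣ 2 ^ 2))
          show ((q * q : (S : Subgroup H)) : H) ∈ B
          by_cases h1 : q * q = 1
          · rw [h1]; exact one_mem _
          · have heq : ((q * q : (S : Subgroup H)) : H) = z := by
              refine huniq _ _ (hDK (show ((q * q : (S : Subgroup H)) : H) ∈ D from
                (mul_mem hq hq : q * q ∈ Q))) (hDK z.2) ?_ (by rwa [orderOf_coe]) ?_
              · rw [orderOf_coe]
                refine orderOf_eq_prime ?_ h1
                rw [← pow_two, ← pow_mul]; exact h4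
              · exact (congrArg Subtype.val (mem_center_iff.1 hzc ⟨_, (mul_mem hq hq : q * q ∈ Q)⟩))
            rw [heq]; exact hzN.1
      let X := ((S : Subgroup H) ⧸ BS) × ((S : Subgroup H) ⧸ M)
      have hrep : ∀ s : (S : Subgroup H), ∃ q ∈ Q, q⁻¹ * s ∈ BS := by
        intro s
        obtain ⟨d, hd⟩ := hsplit (s : H)
        have hdS : (d : H) ∈ (S : Subgroup H) := by
          have h8 := mul_mem s.2 (inv_mem (hBS hd))
          rwa [mul_inv_rev, inv_inv, mul_inv_cancel_left] at h8
        exact ⟨⟨d, hdS⟩, d.2, hd⟩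
      have hsqX : ∀ x : X, x * x = 1 := by
        rintro ⟨u, w⟩
        refine Prod.ext ?_ ?_
        · obtain ⟨s, rfl⟩ := QuotientGroup.mk'_surjective BS u
          obtain ⟨q, hq, hqs⟩ := hrep s
          show QuotientGroup.mk' BS s * QuotientGroup.mk' BS s = 1
          rw [show QuotientGroup.mk' BS s = QuotientGroup.mk' BS q from
            ((QuotientGroup.eq).2 hqs).symm, ← map_mul]
          exact (QuotientGroup.eq_one_iff _).2 (hqz q hq)
        · obtain ⟨s, rfl⟩ := QuotientGroup.mk'_surjective M w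
          show QuotientGroup.mk' M s * QuotientGroup.mk' M s = 1
          rw [← map_mul]
          exact (QuotientGroup.eq_one_iff _).2 (mul_self_mem_of_index_two hM s)
      have hX8 : 4 < Nat.card X := by
        have h9 : 4 ≤ Nat.card ((S : Subgroup H) ⧸ BS) := by
          have hQsurj : Function.Surjective ((QuotientGroup.mk' BS).comp Q.subtype) := by
            intro u
            obtain ⟨s, rfl⟩ := QuotientGroup.mk'_surjective BS u
            obtain ⟨q, hq, hqs⟩ := hrep s
            exact ⟨⟨q, hq⟩, (QuotientGroup.eq).2 hqs⟩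
          have hk := ((QuotientGroup.mk' BS).comp Q.subtype).ker.card_mul_index
          rw [index_ker, MonoidHom.range_eq_top.2 hQsurj, card_top, hQ8] at hk
          have hk2 : Nat.card ((QuotientGroup.mk' BS).comp Q.subtype).ker ≤ 2 := by
            refine le_trans (Nat.card_le_card_of_injective
              (fun q => (⟨((q.1 : (S : Subgroup H)) : H), Subgroup.mem_inf.2
                ⟨(QuotientGroup.eq_one_iff (N := BS) (q.1 : (S : Subgroup H))).1 (MonoidHom.mem_ker.1 q.2),
                  hDK q.1.2⟩⟩ : N))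
              (fun q r hqr => ?_)) hNcard.le
            exact Subtype.ext (Subtype.ext (Subtype.ext (congrArg (fun x : N => (x : H)) hqr)))
          rcases Nat.lt_or_ge (Nat.card ((S : Subgroup H) ⧸ BS)) 4 with hlt | hge
          · exfalso
            have := Nat.mul_le_mul hk2 (Nat.le_of_lt_succ hlt)
            omega
          · exact hge
        rw [Nat.card_prod, show Nat.card ((S : Subgroup H) ⧸ M) = 2 from hM]
        omega
      obtain ⟨g₁, g₂, hg⟩ := CfsgLib.GWCons.QDNormalSL.two_generated hS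
      refine not_surjective_sq hg hsqX hX8
        ((QuotientGroup.mk' BS).prod (QuotientGroup.mk' M)) ?_
      rintro ⟨u, w⟩
      obtain ⟨s, rfl⟩ := QuotientGroup.mk'_surjective M w
      obtain ⟨s', rfl⟩ := QuotientGroup.mk'_surjective BS u
      obtain ⟨q, hq, hqs⟩ := hrep s
      obtain ⟨q', hq', hqs'⟩ := hrep s'
      refine ⟨q' * q⁻¹ * s, Prod.ext ?_ ?_⟩
      · show QuotientGroup.mk' BS (q' * q⁻¹ * s) = QuotientGroup.mk' BS s'
        rw [map_mul, map_mul, map_inv, show QuotientGroup.mk' BS s = QuotientGroup.mk' BS q from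
            ((QuotientGroup.eq).2 hqs).symm, show QuotientGroup.mk' BS s' = QuotientGroup.mk' BS q' from
            ((QuotientGroup.eq).2 hqs').symm]
        group
      · show QuotientGroup.mk' M (q' * q⁻¹ * s) = QuotientGroup.mk' M s
        rw [map_mul, show QuotientGroup.mk' M (q' * q⁻¹) = 1 from
          (QuotientGroup.eq_one_iff _).2 (mul_mem (hQM hq') (inv_mem (hQM hq))), one_mul]
    -- the derived group meets `D` in a normal subgroup covering it
    set W := ((commutator H).subgroupOf D).map e3.toMonoidHom with hW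
    haveI : W.Normal := Subgroup.Normal.map inferInstance _ e3.surjective
    have hWc : ∀ x y, ⁅x, y⁆ ∈ W := fun x y => by
      refine ⟨⁅e3.symm x, e3.symm y⁆, ?_, ?_⟩
      · show ((⁅e3.symm x, e3.symm y⁆ : D) : H) ∈ commutator H
        rw [← Subgroup.subtype_apply, map_commutatorElement]
        exact commutator_mem_commutator (mem_top _) (mem_top _)
      · show e3 ⁅e3.symm x, e3.symm y⁆ = _
        rw [map_commutatorElement, e3.apply_symm_apply, e3.apply_symm_apply]
    have hsi : si ∈ W := hcom ▸ hWc _ _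
    have hj : st * si * st⁻¹ ∈ W := (inferInstance : W.Normal).conj_mem _ hsi _
    have hwW : e3 (MulAut.conjNormal h (e3.symm st)) * st⁻¹ ∈ W := by
      refine ⟨MulAut.conjNormal h (e3.symm st) * (e3.symm st)⁻¹, ?_, ?_⟩
      · show ((MulAut.conjNormal h (e3.symm st) * (e3.symm st)⁻¹ : D) : H) ∈ commutator H
        rw [Subgroup.coe_mul, MulAut.conjNormal_apply, Subgroup.coe_inv, ← commutatorElement_def]
        exact commutator_mem_commutator (mem_top _) (mem_top _)
      · show e3 (_ * _) = _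
        rw [map_mul, map_inv, e3.apply_symm_apply]
    obtain ⟨a', b', c', hw⟩ := hgen (e3 (MulAut.conjNormal h (e3.symm st)) * st⁻¹)
    have hstc : st ^ c'.val ∈ W := by
      rw [hw] at hwW
      exact (mul_mem_cancel_left (mul_mem (pow_mem hsi _) (pow_mem hj _))).1 hwW
    have hst : st ∈ W := by
      fin_cases c'
      · exfalso
        refine hh ?_
        rw [hw]
        simpa using hp4 a' b'
      · simpa using hstc
      · have h10 := pow_mem hstc 2
        rw [← pow_mul] at h10
        rwa [show st ^ ((2 : ℕ) * 2) = st by rw [show (2 : ℕ) * 2 = 3 + 1 by norm_num, pow_succ, r1,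
          one_mul]] at h10
    intro d hd
    obtain ⟨a'', b'', c'', hd'⟩ := hgen (e3 ⟨d, hd⟩)
    have hdW : e3 ⟨d, hd⟩ ∈ W := by
      rw [hd']; exact mul_mem (mul_mem (pow_mem hsi _) (pow_mem hj _)) (pow_mem hst _)
    obtain ⟨d', hd'', e⟩ := hdW
    rw [e3.injective e] at hd''
    exact hd''

theorem main_aux {G : Type u} [Group G] [Finite G]
    (hGW : CfsgLib.GWCons.RankOneCover.DihedralClassification.{u}) (S : Sylow 2 G)
    (hS : Cfsg.IsQuasiDihedral (S : Subgroup G) ∨ Cfsg.IsWreathed (S : Subgroup G))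
    (C : Subgroup G) (R : Sylow 2 C) (hRcard : Nat.card R = Nat.card S)
    (K : Subgroup C) [hKn : K.Normal] {a : ℕ} (ha : K.index = 2 ^ a)
    (hK2 : ∀ H : Subgroup K, H.index ≠ 2)
    (hKq : ∀ P : Sylow 2 K, ∃ m : ℕ, 1 ≤ m ∧ Nonempty ((P : Subgroup K) ≃* QuaternionGroup (2 ^ m))) :
    ∃ (F : Type) (_ : Field F) (_ : Fintype F), Odd (Fintype.card F) ∧
      Nonempty (↥(commutator (↥C ⧸ Cfsg.oddCore ↥C)) ≃* Matrix.SpecialLinearGroup (Fin 2) F) := by
  haveI : Fact (Nat.Prime 2) := ⟨Nat.prime_two⟩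
  set O := Cfsg.oddCore C with hOdef
  haveI : O.Normal := by rw [hOdef]; infer_instance
  set π := QuotientGroup.mk' O with hπ
  have hπs : Function.Surjective π := QuotientGroup.mk'_surjective O
  -- the Sylow subgroup of the quotient
  obtain ⟨R', ⟨eR⟩⟩ := CfsgLib.InvChar.exists_sylow_quotient_equiv R
  let RG : Sylow 2 G := Sylow.ofCard ((R : Subgroup C).map C.subtype) (by
    rw [card_subtype, hRcard, Sylow.card_eq_multiplicity])
  let e : (S : Subgroup G) ≃* (R' : Subgroup (C ⧸ O)) :=
    ((Sylow.equiv S RG).trans ((R : Subgroup C).equivMapOfInjective C.subtype C.subtype_injective).symm).trans eR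
  have hS' : Cfsg.IsQuasiDihedral (R' : Subgroup (C ⧸ O)) ∨ Cfsg.IsWreathed (R' : Subgroup (C ⧸ O)) :=
    hS.imp (CfsgLib.TwoGroups.PSUThree.isQuasiDihedral_congr e) (CfsgLib.TwoGroups.PSUThree.isWreathed_congr e)
  set K' := K.map π with hK'
  haveI : K'.Normal := hKn.map π hπs
  obtain ⟨a', -, ha'⟩ := (Nat.dvd_prime_pow Nat.prime_two).1
    (ha ▸ K.index_map_dvd hπs : K'.index ∣ 2 ^ a)
  have hK'2 : ∀ M : Subgroup K', M.index ≠ 2 := fun M hM => hK2 (M.comap (π.subgroupMap K))
    (by rw [index_comap_of_surjective _ (π.subgroupMap_surjective K), hM])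
  obtain ⟨P⟩ : Nonempty (Sylow 2 K) := inferInstance
  obtain ⟨m, hm, ⟨eP⟩⟩ := hKq P
  let P' := P.mapSurjective (π.subgroupMap_surjective K)
  have hinj : Function.Injective ((π.subgroupMap K).subgroupMap (P : Subgroup K)) := by
    rw [injective_iff_map_eq_one]
    intro x hx
    have hxO : (((x : K)) : C) ∈ O := by
      have h1 := congrArg (fun w : (P : Subgroup K).map (π.subgroupMap K) => ((w : K') : C ⧸ O)) hx
      exact (QuotientGroup.eq_one_iff _).1 h1
    obtain ⟨k, hk⟩ := P.isPGroup' x
    have h2 : orderOf x ∣ 2 ^ k := orderOf_dvd_of_pow_eq_one hk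
    have h3 : Odd (orderOf x) := by
      have h4 := Subgroup.orderOf_dvd_natCard O hxO
      rw [orderOf_coe, orderOf_coe] at h4
      refine Odd.of_dvd_nat ?_ h4
      rw [← Nat.not_even_iff_odd, even_iff_two_dvd]
      exact CfsgLib.PCore.not_dvd_card_pPrimeCore
    exact orderOf_eq_one_iff.1 (Nat.eq_one_of_dvd_coprimes
      ((Nat.coprime_two_right.2 h3).pow_right k) dvd_rfl h2)
  let eP' : (P' : Subgroup K') ≃* QuaternionGroup (2 ^ m) :=
    ((MulEquiv.subgroupCongr (Sylow.coe_mapSurjective _ P)).trans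
      (MulEquiv.ofBijective _ ⟨hinj, (π.subgroupMap K).subgroupMap_surjective _⟩).symm).trans eP
  have hKq' : ∀ T : Sylow 2 K', ∃ m : ℕ, 1 ≤ m ∧
      Nonempty ((T : Subgroup K') ≃* QuaternionGroup (2 ^ m)) :=
    fun T => ⟨m, hm, ⟨(Sylow.equiv T P').trans eP'⟩⟩
  have hO' : Cfsg.oddCore (C ⧸ O) = ⊥ := CfsgLib.InvChar.oddCore_quotient_oddCore
  obtain ⟨L, hLn, ⟨F, i1, i2, hodd, ⟨χ⟩⟩, -⟩ :=
    CfsgLib.GWCons.QDNormalSL.main hGW R' hS' hO' K' ha' hK'2 hKq'
  haveI := hLn
  obtain ⟨Y, -, -, -⟩ := CfsgLib.Involutions.LargeQuat.exists_of_equiv P' (m - 1)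
    (by rwa [show m - 1 + 1 = m by omega])
  have huniq : ∀ s u : C ⧸ O, s ∈ K' → u ∈ K' → orderOf s = 2 → orderOf u = 2 → Commute s u → s = u :=
    fun s u hs hu h1 h2 hc => congrArg Subtype.val (Y.eq_of_commute (s := (⟨s, hs⟩ : K'))
      (t := ⟨u, hu⟩) (by rwa [← Subgroup.orderOf_coe]) (by rwa [← Subgroup.orderOf_coe])
      (Subtype.ext hc.eq))
  exact ⟨F, i1, i2, hodd, ⟨(MulEquiv.subgroupCongr
    (derived_eq R' hS' hO' K' ha' hK'2 huniq L hodd χ)).trans χ⟩⟩

/-- S1240 from the classification of perfect groups with dihedral Sylow 2-subgroups. -/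
theorem main {G : Type u} [Group G] [Finite G]
    (hGW : CfsgLib.GWCons.RankOneCover.DihedralClassification.{u}) (S : Sylow 2 G)
    (hS : Cfsg.IsQuasiDihedral (S : Subgroup G) ∨ Cfsg.IsWreathed (S : Subgroup G))
    (hG : ∀ H : Subgroup G, H.index ≠ 2) (t : G) (ht : orderOf t = 2) :
    ∃ (F : Type) (_ : Field F) (_ : Fintype F), Odd (Fintype.card F) ∧
      Nonempty (↥(commutator (↥(Subgroup.centralizer ({t} : Set G)) ⧸
        Cfsg.oddCore ↥(Subgroup.centralizer ({t} : Set G)))) ≃* Matrix.SpecialLinearGroup (Fin 2) F) := by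
  obtain ⟨R, hRcard, ⟨K, hKn, ⟨a, ha⟩, hK2, hKq⟩, -⟩ :=
    Cfsg.Agent.S1213.result S hS hG t ht
  exact main_aux hGW S hS _ R hRcard K (hKn := hKn) ha hK2 hKq

end CfsgLib.GWCons.QDDerived
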