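/-
Nonsolvable groups with generalized quaternion Sylow 2-subgroups whose distinct intersections
are cyclic (S3307), from the classification of perfect groups with dihedral Sylow 2-subgroups.
-/
import Mathlib
import Cfsg.Agent.Lib.GWCons.RankOneCover
import Cfsg.Agent.Lib.TwoGroups.DihedralFusion
import Cfsg.Agent.Lib.InvChar.SylowInter
import Cfsg.Agent.Lib.Zassenhaus.Perfect
import Cfsg.Agent.Lib.Schur.SLTwo
import Cfsg.Agent.Lib.PF.OddOrder
import Cfsg.Agent.S3306

set_option autoImplicit false

open Subgroup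
open scoped commutatorElement

namespace CfsgLib.GWCons.RankOneInter

universe u

/-- Distinct Sylow 2-subgroups meet in cyclic groups. -/
def CyclicInter (G : Type*) [Group G] : Prop :=
  ∀ S T : Sylow 2 G, S ≠ T → IsCyclic ↥((S : Subgroup G) ⊓ (T : Subgroup G))

theorem cyclicInter_quotient {G : Type*} [Group G] [Finite G] (h : CyclicInter G) (H : Subgroup G)
    [H.Normal] : CyclicInter (G ⧸ H) := by
  haveI : Fact (Nat.Prime 2) := ⟨Nat.prime_two⟩
  intro S T hST
  obtain ⟨S₁, T₁, U, hne, hU, hmap⟩ := CfsgLib.InvChar.exists_sylow_lift_inf H S T hST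
  have := h S₁ T₁ hne
  have hUc : IsCyclic U := isCyclic_of_injective _ (Subgroup.inclusion_injective hU)
  rw [← hmap]
  exact isCyclic_of_surjective _ ((QuotientGroup.mk' H).subgroupMap_surjective U)

/-- Cyclic intersections and trivial core force the central involution of a dihedral Sylow
subgroup of order at least eight into the centre. -/
theorem z_mem_center {G : Type u} [Group G] [Finite G] (hI : CyclicInter G)
    (hO : Cfsg.oddCore G = ⊥) {m : ℕ} (d : CfsgLib.TwoGroups.DihedralFusion.Data G m) :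
    d.z ∈ center G := by
  have := d.neZero
  haveI : Fact (Nat.Prime 2) := ⟨Nat.prime_two⟩
  by_cases hex : ∃ i, IsConj d.z (d.w i)
  · exfalso
    obtain ⟨i, hi⟩ := hex
    obtain ⟨n, hn, hnz⟩ := CfsgLib.TwoGroups.DihedralFusion.exists_normalizer_move hi
    open CfsgLib.TwoGroups.DihedralFusion in
    have hne : n • d.S ≠ d.S := by
      intro he
      have hcomm : ∀ x ∈ (d.S : Subgroup G), n * d.z * n⁻¹ * x = x * (n * d.z * n⁻¹) := by
        intro x hx
        have hx' : n⁻¹ * x * n ∈ (d.S : Subgroup G) := by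
          have := Subgroup.mem_set_normalizer_iff.1
            (inv_mem (Sylow.smul_eq_iff_mem_normalizer.1 he)) x
          have h9 := this.1 hx
          rw [inv_inv] at h9
          exact h9
        calc n * d.z * n⁻¹ * x = n * (d.z * (n⁻¹ * x * n)) * n⁻¹ := by group
          _ = n * ((n⁻¹ * x * n) * d.z) * n⁻¹ := by rw [z_commute hx']
          _ = _ := by group
      rw [hnz] at hcomm
      have h := hcomm (d.emb (DihedralGroup.r (1 : ZMod m))) (emb_mem _)
      change d.emb _ * d.emb _ = d.emb _ * d.emb _ at h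
      rw [← map_mul, ← map_mul] at h
      have h2 := emb_inj (d := d) h
      rw [DihedralGroup.sr_mul_r, DihedralGroup.r_mul_sr, DihedralGroup.sr.injEq] at h2
      have h3 : ((2 : ℕ) : ZMod m) = 0 := by push_cast; linear_combination h2
      rw [ZMod.natCast_eq_zero_iff] at h3
      obtain ⟨c, hc⟩ := d.heven
      have h4 := d.hj
      have h5 := d.hpos
      have := Nat.le_of_dvd two_pos h3
      omega
    have hV1 : d.V i ≤ (d.S : Subgroup G) := CfsgLib.TwoGroups.DihedralFusion.V_le i
    have hV2 : d.V i ≤ ((n • d.S : Sylow 2 G) : Subgroup G) := by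
      intro v hv
      rw [Sylow.coe_subgroup_smul, Subgroup.mem_pointwise_smul_iff_inv_smul_mem]
      refine hV1 ?_
      have hv' := (Subgroup.mem_set_normalizer_iff.1 (inv_mem hn) v).1 hv
      simpa using hv'
    have := hI _ _ hne
    have hVc : IsCyclic (d.V i) :=
      isCyclic_of_injective _ (Subgroup.inclusion_injective (le_inf hV2 hV1))
    exact (CfsgLib.TwoGroups.DihedralFusion.V_klein i).not_isCyclic hVc
  · push Not at hex
    have hiso := CfsgLib.Involutions.isIsolated_of_sylow d.S
      (CfsgLib.TwoGroups.DihedralFusion.orderOf_z (d := d)) fun g hg => by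
        rcases CfsgLib.TwoGroups.DihedralFusion.involution_mem_cases hg
          (by rw [CfsgLib.Involutions.orderOf_conj_eq, CfsgLib.TwoGroups.DihedralFusion.orderOf_z (d := d)]) with h | ⟨l, h⟩
        · exact h
        · exact absurd (isConj_iff.2 ⟨g, h⟩) (hex l)
    refine CfsgLib.Involutions.mem_center_of_commutators
      (CfsgLib.TwoGroups.DihedralFusion.orderOf_z (d := d)) fun g => Subgroup.mem_bot.1 (hO ▸ ?_)
    exact CfsgLib.Involutions.zstar G d.z hiso g

/-- S3307 from the dihedral classification. -/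
theorem main {G : Type u} [Group G] [Finite G]
    (hGW : CfsgLib.GWCons.RankOneCover.DihedralClassification.{u})
    (hns : ¬ Group.IsSolvable G)
    (hQ : ∀ S : Sylow 2 G, ∃ n : ℕ, Nonempty (↥(S : Subgroup G) ≃* QuaternionGroup (2 ^ (n + 1))))
    (hC : ∀ S T : Sylow 2 G, S ≠ T → IsCyclic ↥((S : Subgroup G) ⊓ (T : Subgroup G))) :
    (∀ S : Sylow 2 G, Nonempty (↥(S : Subgroup G) ≃* QuaternionGroup 2)) ∧
    ∃ (G₁ : Subgroup G) (_ : G₁.Normal) (_ : ((Cfsg.oddCore G).subgroupOf G₁).Normal),
      Odd G₁.index ∧ Cfsg.oddCore G ≤ G₁ ∧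
      ∃ (F : Type) (_ : Field F) (_ : Fintype F), (Fintype.card F % 8 = 3 ∨ Fintype.card F % 8 = 5) ∧ 3 < Fintype.card F ∧
        Nonempty (↥G₁ ⧸ (Cfsg.oddCore G).subgroupOf G₁ ≃* Matrix.SpecialLinearGroup (Fin 2) F) := by
  haveI : Fact (Nat.Prime 2) := ⟨Nat.prime_two⟩
  obtain ⟨S⟩ : Nonempty (Sylow 2 G) := inferInstance
  obtain ⟨m, ⟨e⟩⟩ := hQ S
  have hodd : ∀ {A : Type u} [Group A] [Finite A], Odd (Nat.card (Cfsg.oddCore A)) := by
    intro A _ _
    rw [← Nat.not_even_iff_odd, even_iff_two_dvd]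
    exact CfsgLib.PCore.not_dvd_card_pPrimeCore
  set O := Cfsg.oddCore G with hOdef
  haveI hOn : O.Normal := by rw [hOdef]; infer_instance
  set π := QuotientGroup.mk' O with hπ
  set Y := G ⧸ O with hY
  have hYO : Cfsg.oddCore Y = ⊥ := CfsgLib.InvChar.oddCore_quotient_oddCore
  have hYON : ∀ N : Subgroup Y, N.Normal → Odd (Nat.card N) → N = ⊥ := fun N hN hNodd =>
    eq_bot_iff.2 (hYO ▸ CfsgLib.PCore.le_pPrimeCore_of_not_dvd hN
      (by rwa [← even_iff_two_dvd, Nat.not_even_iff_odd]))
  obtain ⟨T, ⟨eT⟩⟩ := CfsgLib.InvChar.exists_sylow_quotient_equiv S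
  obtain ⟨L, -, hLk, -⟩ := CfsgLib.Involutions.LargeQuat.exists_of_equiv T m (eT.symm.trans e)
  have hcard : Nat.card (center Y) = 2 := CfsgLib.Involutions.card_center_of_quaternion L hYON
  have hz : L.a ^ L.k ∈ center Y := by
    obtain ⟨c, hc⟩ := exists_prime_orderOf_dvd_card' (G := center Y) 2 (by rw [hcard])
    rw [← Subgroup.orderOf_coe] at hc
    rw [L.eq_of_commute L.z_order hc (Subgroup.mem_center_iff.1 c.2 _)]
    exact c.2
  set P := Y ⧸ center Y with hPdef
  set ρ := QuotientGroup.mk' (center Y) with hρ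
  have hPO : Cfsg.oddCore P = ⊥ :=
    CfsgLib.GWCons.RankOneCover.oddCore_quotient_center hcard hYON
  have hPI : CyclicInter P := cyclicInter_quotient (cyclicInter_quotient hC O) (center Y)
  obtain ⟨TP, ⟨eP⟩⟩ := CfsgLib.GWCons.RankOneCover.exists_dihedral L hz hcard
  have hOsol : Group.IsSolvable O := CfsgLib.PF.oddSolvable _ hodd
  -- the Sylow subgroups have order eight
  have hk2 : L.k = 2 := by
    by_contra hne
    have hlt : 2 < L.k := lt_of_le_of_ne L.two_le (Ne.symm hne)
    obtain ⟨d, -⟩ := CfsgLib.TwoGroups.DihedralFusion.exists_data TP eP hlt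
    have hzc := z_mem_center hPI hPO d
    set W := (zpowers d.z).comap ρ with hW
    haveI : (zpowers d.z).Normal := ⟨fun x hx g => by
      rwa [Subgroup.mem_center_iff.1 (Subgroup.zpowers_le.2 hzc hx) g, mul_inv_cancel_right]⟩
    have hWcard : Nat.card W = 4 := by
      rw [hW, CfsgLib.PCore.card_comap_mk', hcard, Nat.card_zpowers,
        CfsgLib.TwoGroups.DihedralFusion.orderOf_z]
    haveI : W.Normal := by rw [hW]; infer_instance
    have hWsol : Group.IsSolvable W := by
      haveI := (IsPGroup.of_card (n := 2) (by rw [hWcard]; norm_num) : IsPGroup 2 W).isNilpotent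
      infer_instance
    set N := W.comap π with hN
    have hNsol : Group.IsSolvable N := by
      haveI := hOsol
      haveI := hWsol
      refine solvable_of_ker_le_range (Subgroup.inclusion (?_ : O ≤ N)) (π.subgroupComap W) ?_
      · intro x hx
        rw [hN, Subgroup.mem_comap, hπ, QuotientGroup.mk'_apply, (QuotientGroup.eq_one_iff x).2 hx]
        exact one_mem W
      · intro x hx
        have hx' : (x : G) ∈ O := by
          have := congrArg Subtype.val (MonoidHom.mem_ker.1 hx)
          exact (QuotientGroup.eq_one_iff _).1 this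
        exact ⟨⟨x, hx'⟩, Subtype.ext rfl⟩
    haveI : N.Normal := by rw [hN]; infer_instance
    have hNY : N.map π ≤ center Y := (Cfsg.Agent.S3306.result hns hC N hNsol).2.2
    rw [hN, Subgroup.map_comap_eq_self_of_surjective (QuotientGroup.mk'_surjective O)] at hNY
    have := Subgroup.card_le_of_le hNY
    omega
  have hm0 : m = 0 := by
    rw [hLk, pow_succ] at hk2
    have h1 : 2 ^ m = 1 := by omega
    rcases Nat.pow_eq_one.1 h1 with h | h
    · omega
    · exact h
  subst hm0
  have hSylow : ∀ S' : Sylow 2 G, Nonempty (↥(S' : Subgroup G) ≃* QuaternionGroup 2) :=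
    fun S' => ⟨(Sylow.equiv S' S).trans e⟩
  refine ⟨hSylow, ?_⟩
  -- a perfect normal subgroup of the quotient
  have hPns : ¬ Group.IsSolvable P := by
    intro hP
    haveI : Group.IsSolvable (center Y) := by
      haveI := (IsPGroup.of_card (n := 1) (by rw [hcard, pow_one]) : IsPGroup 2 (center Y)).isNilpotent
      infer_instance
    haveI := hP
    haveI : Group.IsSolvable Y := solvable_of_ker_le_range (center Y).subtype ρ
      (by rw [hρ, QuotientGroup.ker_mk', Subgroup.range_subtype])
    haveI := hOsol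
    exact hns (solvable_of_ker_le_range O.subtype π
      (by rw [hπ, QuotientGroup.ker_mk', Subgroup.range_subtype]))
  obtain ⟨D, hDn, hDne, hDp⟩ := CfsgLib.Zassenhaus.exists_perfect_subgroup hPns
  haveI := hDn
  haveI : Group.IsPerfect D := ⟨hDp⟩
  have hDO : Cfsg.oddCore D = ⊥ := by
    haveI := hDn
    exact CfsgLib.PCore.pPrimeCore_eq_bot_of_normal D hPO
  have hTPcard : Nat.card (TP : Subgroup P) = 4 := by
    rw [Nat.card_congr eP.toEquiv, DihedralGroup.nat_card, hk2]
  obtain ⟨SD⟩ : Nonempty (Sylow 2 D) := inferInstance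
  set SDP := (SD : Subgroup D).map D.subtype with hSDP
  obtain ⟨g, hg⟩ : ∃ g : P, ∀ x ∈ SDP, g * x * g⁻¹ ∈ (TP : Subgroup P) :=
    CfsgLib.Involutions.exists_conj_le_sylow (SD.isPGroup'.map _) TP
  set f : (SD : Subgroup D) →* (TP : Subgroup P) :=
    { toFun := fun x => ⟨g * ((x : D) : P) * g⁻¹, hg _ (Subgroup.mem_map_of_mem D.subtype x.2)⟩
      map_one' := Subtype.ext (by simp)
      map_mul' := fun x y => Subtype.ext (by
        show g * (((x * y : (SD : Subgroup D)) : D) : P) * g⁻¹ =
          g * ((x : D) : P) * g⁻¹ * (g * ((y : D) : P) * g⁻¹)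
        rw [Subgroup.coe_mul, Subgroup.coe_mul]; group) } with hf
  have hfinj : Function.Injective f := by
    intro x y hxy
    have := congrArg Subtype.val hxy
    exact Subtype.ext (Subtype.ext (mul_left_cancel (mul_right_cancel this)))
  have hSDle : Nat.card (SD : Subgroup D) ≤ 4 :=
    hTPcard ▸ Nat.card_le_card_of_injective f hfinj
  have hSDnc : ¬ IsCyclic (SD : Subgroup D) := by
    intro hcyc
    have heven : Even (Nat.card D) := by
      by_contra ho
      haveI : Group.IsSolvable D := CfsgLib.PF.oddSolvable D (Nat.not_even_iff_odd.1 ho)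
      have : Nontrivial D := (Subgroup.nontrivial_iff_ne_bot D).2 hDne
      exact (Group.IsSolvable.commutator_lt_top_of_nontrivial D).ne hDp
    obtain ⟨H, hH⟩ := Cfsg.Agent.S0219.result heven SD hcyc
    exact CfsgLib.GWCons.RankOneCover.index_ne_two H hH
  have hSDcard : Nat.card (SD : Subgroup D) = 4 := by
    obtain ⟨j, hj⟩ := IsPGroup.iff_card.1 SD.isPGroup'
    rcases j with _ | _ | _ | j
    · exfalso
      exact hSDnc (by
        haveI := (Nat.card_eq_one_iff_unique.1 (by rw [hj, pow_zero])).1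
        exact isCyclic_of_subsingleton)
    · exact absurd (isCyclic_of_prime_card (p := 2) (by rw [hj, pow_one])) hSDnc
    · rw [hj]; norm_num
    · have h8 : 8 ≤ 2 ^ (j + 3) := by
        rw [pow_add]; have := Nat.one_le_two_pow (n := j); omega
      have h9 : Nat.card (SD : Subgroup D) = 2 ^ (j + 3) := hj
      omega
  have hfbij : Function.Bijective f :=
    (Nat.bijective_iff_injective_and_card f).2 ⟨hfinj, by rw [hSDcard, hTPcard]⟩
  let eSD : (SD : Subgroup D) ≃* DihedralGroup L.k := (MulEquiv.ofBijective f hfbij).trans eP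
  have hDidx : Odd D.index := by
    rw [← Nat.not_even_iff_odd, even_iff_two_dvd]
    have hTD : (TP : Subgroup P) ≤ D := by
      intro x hx
      obtain ⟨y, hy⟩ := hfbij.2 ⟨x, hx⟩
      have : g * ((y : D) : P) * g⁻¹ = x := congrArg Subtype.val hy
      rw [← this]
      exact hDn.conj_mem _ (y : D).2 g
    exact fun h => TP.not_dvd_index (h.trans (Subgroup.index_dvd_of_le hTD))
  have eDO : D ⧸ Cfsg.oddCore D ≃* D :=
    (QuotientGroup.quotientMulEquivOfEq hDO).trans QuotientGroup.quotientBot
  -- the odd characteristic field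
  rcases hGW D SD L.k L.two_le ⟨eSD⟩ with ⟨F, _, _, hFodd, hF3, ⟨ψ⟩⟩ | hA
  swap
  · exfalso
    obtain ⟨ψ⟩ := hA
    have hc : Nat.card D = 2520 := by
      rw [Nat.card_congr (eDO.symm.trans ψ).toEquiv, nat_card_alternatingGroup]
      norm_num [Nat.factorial]
    have h8 : 8 ∣ Nat.card D := by rw [hc]; norm_num
    have := SD.card_eq_multiplicity
    rw [hSDcard, hc] at this
    have h2 : (2520 : ℕ).factorization 2 = 3 := by
      rw [show (2520 : ℕ) = 2 ^ 3 * 315 by norm_num, Nat.factorization_mul (by norm_num) (by norm_num),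
        Finsupp.add_apply, Nat.Prime.factorization_pow Nat.prime_two,
        Nat.factorization_eq_zero_of_not_dvd (by norm_num)]
      simp
    rw [h2] at this
    norm_num at this
  set χ : D ≃* Matrix.ProjectiveSpecialLinearGroup (Fin 2) F := eDO.symm.trans ψ with hχ
  have h2F : (2 : F) ≠ 0 := by
    intro h
    haveI : CharP F 2 := CharTwo.of_one_ne_zero_of_two_eq_zero one_ne_zero h
    obtain ⟨n, -, hn⟩ := FiniteField.card F 2
    rw [hn] at hFodd
    exact (Nat.not_even_iff_odd.2 hFodd) (Nat.even_pow.2 ⟨even_two, n.ne_zero⟩)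
  haveI : Group.IsPerfect (Matrix.SpecialLinearGroup (Fin 2) F) :=
    ⟨CfsgLib.Laws.sl_two_perfect (by omega)⟩
  have hq : Fintype.card F % 8 = 3 ∨ Fintype.card F % 8 = 5 := by
    have hsl := CfsgLib.Schur.natCard_slTwo (F := F)
    have hc := Subgroup.card_eq_card_quotient_mul_card_subgroup
      (center (Matrix.SpecialLinearGroup (Fin 2) F))
    rw [CfsgLib.PSL2.card_center_sl h2F] at hc
    have hDc : Nat.card D * 2 = Nat.card (Matrix.SpecialLinearGroup (Fin 2) F) := by
      rw [hc, Nat.card_congr χ.toEquiv]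
    obtain ⟨t, ht, hto⟩ : ∃ t, Nat.card D = 4 * t ∧ ¬ 2 ∣ t :=
      ⟨(SD : Subgroup D).index, by rw [← hSDcard, Subgroup.card_mul_index], SD.not_dvd_index⟩
    rw [ht, hsl] at hDc
    obtain ⟨w, hw⟩ := hFodd
    rw [hw] at hDc ⊢
    rw [show 2 * w + 1 - 1 = 2 * w by omega,
      show (2 * w + 1) * (2 * w * (2 * w + 1 + 1)) = 4 * ((2 * w + 1) * (w * (w + 1))) by ring] at hDc
    have h2t : ((2 * w + 1) * (w * (w + 1))) % 4 = 2 := by omega
    have hw4 : w % 4 = 1 ∨ w % 4 = 2 := by
      rw [Nat.mul_mod, Nat.mul_mod w, Nat.add_mod, Nat.mul_mod 2 w, Nat.add_mod w 1] at h2t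
      have : w % 4 < 4 := Nat.mod_lt _ (by norm_num)
      interval_cases hr : w % 4 <;> simp_all
    omega
  -- the perfect double cover of `D`
  set M := D.comap ρ with hM
  haveI : M.Normal := by rw [hM]; infer_instance
  have hZM : center Y ≤ M := fun x hx => by
    rw [hM, Subgroup.mem_comap, hρ, QuotientGroup.mk'_apply, (QuotientGroup.eq_one_iff x).2 hx]
    exact one_mem D
  have hMidx : M.index = D.index := Subgroup.index_comap_of_surjective _ (QuotientGroup.mk'_surjective _)
  have hTM : (L.S : Subgroup Y) ≤ M := by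
    intro x hx
    rw [hM, Subgroup.mem_comap]
    -- the image of a 2-element in a quotient of odd order is trivial
    have h1 : orderOf (QuotientGroup.mk' D (ρ x)) ∣ D.index := by
      rw [Subgroup.index_eq_card]; exact orderOf_dvd_natCard _
    obtain ⟨j, hj⟩ := IsPGroup.iff_card.1 L.S.isPGroup'
    have h2 : orderOf (QuotientGroup.mk' D (ρ x)) ∣ 2 ^ j := by
      refine ((orderOf_map_dvd _ _).trans (orderOf_map_dvd _ _)).trans ?_
      exact hj ▸ Subgroup.orderOf_dvd_natCard _ hx
    have h3 : orderOf (QuotientGroup.mk' D (ρ x)) = 1 :=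
      Nat.eq_one_of_dvd_coprimes ((Nat.coprime_two_left.2 hDidx).pow_left j) h2 h1
    exact (QuotientGroup.eq_one_iff _).1 (orderOf_eq_one_iff.1 h3)
  set σ : M →* D := ρ.subgroupComap D with hσ
  have hσs : Function.Surjective σ :=
    ρ.subgroupComap_surjective_of_surjective _ (QuotientGroup.mk'_surjective _)
  have hσk : σ.ker = (center Y).subgroupOf M := by
    ext x
    rw [MonoidHom.mem_ker, Subgroup.mem_subgroupOf, ← QuotientGroup.eq_one_iff, Subtype.ext_iff]
    rfl
  have hσc : σ.ker ≤ center M := by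
    rw [hσk]
    exact fun x hx => Subgroup.mem_center_iff.2 fun y => Subtype.ext (Subgroup.mem_center_iff.1 hx y)
  have hσ2 : Nat.card σ.ker = 2 := by
    rw [hσk, Nat.card_congr (Subgroup.subgroupOfEquivOfLe hZM).toEquiv, hcard]
  set TM := L.S.subtype hTM with hTMdef
  let eTM : (TM : Subgroup M) ≃* QuaternionGroup (2 ^ (0 + 1)) :=
    ((Subgroup.subgroupOfEquivOfLe hTM).trans (Sylow.equiv L.S T)).trans (eT.symm.trans e)
  obtain ⟨LM, -, -, -⟩ := CfsgLib.Involutions.LargeQuat.exists_of_equiv TM 0 eTM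
  haveI hMperf : Group.IsPerfect M := by
    constructor
    set C := commutator M with hC'
    have hmap : C.map σ = ⊤ := by
      rw [hC', CfsgLib.SchurCover.map_commutator_eq σ hσs, hDp]
    obtain ⟨w, hw⟩ := exists_prime_orderOf_dvd_card' (G := σ.ker) 2 (by rw [hσ2])
    rw [← Subgroup.orderOf_coe] at hw
    have hsup : C ⊔ σ.ker = ⊤ := by
      rw [← Subgroup.comap_map_eq, hmap, Subgroup.comap_top]
    by_cases hker : σ.ker ≤ C
    · rwa [sup_eq_left.2 hker] at hsup
    exfalso
    have hdisj : C ⊓ σ.ker = ⊥ := by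
      have hd : Nat.card (C ⊓ σ.ker : Subgroup M) ∣ 2 := hσ2 ▸ Subgroup.card_dvd_of_le inf_le_right
      rcases (Nat.dvd_prime Nat.prime_two).1 hd with h | h
      · exact Subgroup.eq_bot_of_card_eq _ h
      · exact absurd (inf_eq_right.1 (Subgroup.eq_of_le_of_card_ge inf_le_right (by omega))) hker
    have hCidx : C.index ∣ 2 := by
      have h := Subgroup.relIndex_sup_right σ.ker C
      rw [sup_comm] at h
      rw [hsup, Subgroup.relIndex_top_right] at h
      rw [h, ← hσ2]
      exact Subgroup.relIndex_dvd_card _ _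
    have hT8 : Nat.card (TM : Subgroup M) = 8 := by
      rw [Nat.card_congr eTM.toEquiv, Nat.card_eq_fintype_card, QuaternionGroup.card]; norm_num
    have hne : C ⊓ (TM : Subgroup M) ≠ ⊥ := by
      intro hb
      have h1 : C.relIndex (TM : Subgroup M) = Nat.card (TM : Subgroup M) := by
        rw [← Subgroup.inf_relIndex_right, hb, Subgroup.relIndex_bot_left]
      have h2 := Nat.le_of_dvd two_pos ((C.relIndex_dvd_index_of_normal (TM : Subgroup M)).trans hCidx)
      omega
    have hcardpos : 2 ∣ Nat.card (C ⊓ (TM : Subgroup M) : Subgroup M) := by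
      obtain ⟨j, hj⟩ := IsPGroup.iff_card.1 (TM.isPGroup'.to_le (inf_le_right : C ⊓ _ ≤ _))
      rcases j with _ | j
      · exact absurd (Subgroup.eq_bot_of_card_eq _ (by rw [hj, pow_zero])) hne
      · rw [hj]; exact dvd_pow_self 2 (Nat.succ_ne_zero j)
    obtain ⟨v, hv⟩ := exists_prime_orderOf_dvd_card' 2 hcardpos
    rw [← Subgroup.orderOf_coe] at hv
    have hvw : Commute (v : M) (w : M) := Subgroup.mem_center_iff.1 (hσc w.2) _
    have : (v : M) ∈ C ⊓ σ.ker := ⟨v.2.1, by rw [LM.eq_of_commute hv hw hvw]; exact w.2⟩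
    rw [hdisj, Subgroup.mem_bot] at this
    rw [this, orderOf_one] at hv
    norm_num at hv
  let lift : Matrix.ProjectiveSpecialLinearGroup (Fin 2) F ≃*
      ULift.{u} (Matrix.ProjectiveSpecialLinearGroup (Fin 2) F) := MulEquiv.ulift.symm
  let ξ : Matrix.SpecialLinearGroup (Fin 2) F →* Matrix.ProjectiveSpecialLinearGroup (Fin 2) F :=
    QuotientGroup.mk' _
  have hξk : ξ.ker = center (Matrix.SpecialLinearGroup (Fin 2) F) := QuotientGroup.ker_mk' _
  obtain ⟨eM⟩ : Nonempty (M ≃* Matrix.SpecialLinearGroup (Fin 2) F) := by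
    refine CfsgLib.GWCons.RankOneCover.nonempty_mulEquiv_cover
      ((χ.trans lift).toMonoidHom.comp σ) (lift.toMonoidHom.comp ξ)
      ((χ.trans lift).surjective.comp hσs) (lift.surjective.comp (QuotientGroup.mk'_surjective _))
      ?_ ?_ ?_ (CfsgLib.GWCons.RankOneCover.noMultiplierAt_two LM)
    · rw [CfsgLib.GWCons.RankOneCover.ker_equiv_comp, hξk]
    · rw [CfsgLib.GWCons.RankOneCover.ker_equiv_comp, hξk]
      exact CfsgLib.PSL2.card_center_sl h2F
    · rw [CfsgLib.GWCons.RankOneCover.ker_equiv_comp, hσ2]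
  -- pull back to `G`
  refine ⟨M.comap π, inferInstance, inferInstance, ?_, ?_, F, inferInstance, inferInstance, hq, hF3, ?_⟩
  · rw [Subgroup.index_comap_of_surjective _ (QuotientGroup.mk'_surjective _), hMidx]; exact hDidx
  · intro x hx
    rw [Subgroup.mem_comap, hπ, QuotientGroup.mk'_apply, (QuotientGroup.eq_one_iff x).2 hx]
    exact one_mem M
  · have hτs : Function.Surjective (π.subgroupComap M) :=
      π.subgroupComap_surjective_of_surjective _ (QuotientGroup.mk'_surjective _)
    have hk : O.subgroupOf (M.comap π) = (π.subgroupComap M).ker := by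
      ext x
      rw [MonoidHom.mem_ker, Subgroup.mem_subgroupOf, ← QuotientGroup.eq_one_iff, Subtype.ext_iff]
      rfl
    exact ⟨((QuotientGroup.quotientMulEquivOfEq hk).trans
      (QuotientGroup.quotientKerEquivOfSurjective _ hτs)).trans eM⟩

end CfsgLib.GWCons.RankOneInter
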