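import Mathlib
import Cfsg.Agent.Lib.GWCons.TwoOuter
import Cfsg.Agent.Lib.Schur.AutAlternating
import Cfsg.Agent.Lib.GWCons.RankOneCover

/-!
Two involutions with cyclic centraliser 2-ranks acting on a simple group with dihedral Sylow
2-subgroups, from the classification of the latter.
-/

set_option autoImplicit false

open Equiv
open scoped commutatorElement

namespace CfsgLib.GWCons.TwoOuter

theorem exists_four_perm (σ : Perm (Fin 7)) (hσ : σ * σ = 1) :
    ∃ s t : Perm (Fin 7), Perm.sign s = 1 ∧ Perm.sign t = 1 ∧ s ≠ 1 ∧ t ≠ 1 ∧ s * s = 1 ∧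
      t * t = 1 ∧ s ≠ t ∧ s * t = t * s ∧ σ * s = s * σ ∧ σ * t = t * σ := by
  suffices H : ∀ ρ : Perm (Fin 7), ρ.cycleType = σ.cycleType → (∃ s t : Perm (Fin 7),
      Perm.sign s = 1 ∧ Perm.sign t = 1 ∧ s ≠ 1 ∧ t ≠ 1 ∧ s * s = 1 ∧
      t * t = 1 ∧ s ≠ t ∧ s * t = t * s ∧ ρ * s = s * ρ ∧ ρ * t = t * ρ) →
      ∃ s t : Perm (Fin 7), Perm.sign s = 1 ∧ Perm.sign t = 1 ∧ s ≠ 1 ∧ t ≠ 1 ∧ s * s = 1 ∧
      t * t = 1 ∧ s ≠ t ∧ s * t = t * s ∧ σ * s = s * σ ∧ σ * t = t * σ by
    have h2 : ∀ m ∈ σ.cycleType, m = 2 := fun m hm => by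
      have h1 : m ∣ 2 := (Perm.dvd_of_mem_cycleType hm).trans
        (orderOf_dvd_of_pow_eq_one (by rw [pow_two, hσ]))
      have h3 := Perm.two_le_of_mem_cycleType hm
      have := Nat.le_of_dvd two_pos h1
      omega
    have hrep := Multiset.eq_replicate_card.2 h2
    have hsum : σ.cycleType.sum ≤ 7 := by
      rw [Perm.sum_cycleType]
      exact (Finset.card_le_univ _).trans (by simp)
    rw [hrep, Multiset.sum_replicate, smul_eq_mul] at hsum
    have hk : σ.cycleType.card ≤ 3 := by omega
    generalize σ.cycleType.card = k at hrep hk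
    interval_cases k
    · refine H 1 (by rw [hrep]; simp)
        ⟨swap 0 1 * swap 2 3, swap 0 2 * swap 1 3, by decide⟩
    · refine H (swap 0 1) (by rw [hrep]; decide)
        ⟨swap 2 3 * swap 4 5, swap 2 4 * swap 3 5, by decide⟩
    · refine H (swap 0 1 * swap 2 3) (by rw [hrep]; decide)
        ⟨swap 0 1 * swap 2 3, swap 0 2 * swap 1 3, by decide⟩
    · refine H (swap 0 1 * swap 2 3 * swap 4 5) (by rw [hrep]; decide)
        ⟨swap 0 1 * swap 2 3, swap 0 1 * swap 4 5, by decide⟩
  intro ρ hρ h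
  obtain ⟨k, hk⟩ := isConj_iff.1 (Perm.isConj_iff_cycleType_eq.2 hρ)
  obtain ⟨s, t, h1, h2, h3, h4, h5, h6, h7, h8, h9, h10⟩ := h
  refine ⟨k * s * k⁻¹, k * t * k⁻¹, by simp [h1], by simp [h2], by simp [h3], by simp [h4],
    by simp [mul_assoc, h5, ← mul_assoc s], by simp [mul_assoc, h6, ← mul_assoc t],
    fun e => h7 (mul_left_cancel (mul_right_cancel e)), ?_, ?_, ?_⟩
  · simpa using congrArg (MulAut.conj k) h8
  · rw [← hk]; simpa using congrArg (MulAut.conj k) h9
  · rw [← hk]; simpa using congrArg (MulAut.conj k) h10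

theorem hasFour_alt_seven {α : MulAut (alternatingGroup (Fin 7))} (hα : α * α = 1) :
    HasFour α := by
  obtain ⟨σ, rfl⟩ := (CfsgLib.Schur.conjNormal_bijective (n := 7) (by norm_num) (by norm_num)).2 α
  rw [← map_mul] at hα
  have hσ : σ * σ = 1 :=
    (CfsgLib.Schur.conjNormal_bijective (n := 7) (by norm_num) (by norm_num)).1
      (hα.trans (map_one _).symm)
  obtain ⟨s, t, h1, h2, h3, h4, h5, h6, h7, h8, h9, h10⟩ := exists_four_perm σ hσ
  refine ⟨⟨s, h1⟩, ⟨t, h2⟩, ?_, ?_, fun e => h7 (congrArg Subtype.val e), Subtype.ext h8, ?_, ?_⟩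
  · exact orderOf_eq_prime (Subtype.ext (by simpa [pow_two] using h5))
      (fun e => h3 (congrArg Subtype.val e))
  · exact orderOf_eq_prime (Subtype.ext (by simpa [pow_two] using h6))
      (fun e => h4 (congrArg Subtype.val e))
  · apply Subtype.ext
    rw [MulAut.conjNormal_apply, h9, mul_inv_cancel_right]
  · apply Subtype.ext
    rw [MulAut.conjNormal_apply, h10, mul_inv_cancel_right]

universe u

theorem not_hasFour {G : Type*} [Group G] [Finite G] (L : Subgroup G) (a : G)
    (haL : a ∈ Subgroup.normalizer (L : Set G))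
    (hCa : ∀ R : Sylow 2 ↥(L ⊓ Subgroup.centralizer ({a} : Set G)), IsCyclic R) :
    ¬ HasFour (L.normalizerMonoidHom ⟨a, haL⟩) := by
  classical
  rintro ⟨s, t, hs, ht, hne, hc, h1, h2⟩
  have hfix : ∀ x : L, L.normalizerMonoidHom ⟨a, haL⟩ x = x →
      (x : G) ∈ L ⊓ Subgroup.centralizer ({a} : Set G) := by
    intro x hx
    have hx' : a * x * a⁻¹ = x := congrArg Subtype.val hx
    refine ⟨x.2, Subgroup.mem_centralizer_singleton_iff.2 ?_⟩
    exact (mul_inv_eq_iff_eq_mul.1 hx').symm
  set H := L ⊓ Subgroup.centralizer ({a} : Set G)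
  set s' : H := ⟨s, hfix s h1⟩
  set t' : H := ⟨t, hfix t h2⟩
  have hs' : orderOf s' = 2 := by
    rw [← hs]; exact (Subgroup.orderOf_coe s').symm.trans (Subgroup.orderOf_coe s)
  have ht' : orderOf t' = 2 := by
    rw [← ht]; exact (Subgroup.orderOf_coe t').symm.trans (Subgroup.orderOf_coe t)
  have hst : Commute s' t' := Subtype.ext (by
    show (s : G) * t = t * s
    exact congrArg Subtype.val hc.eq)
  set A := Subgroup.closure ({s', t'} : Set H) with hA
  have hcomm : ∀ x ∈ ({s', t'} : Set H), ∀ y ∈ ({s', t'} : Set H), x * y = y * x := by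
    rintro x (rfl | rfl) y (rfl | rfl)
    exacts [rfl, hst.eq, hst.eq.symm, rfl]
  have hAc : IsMulCommutative A := Subgroup.isMulCommutative_closure hcomm
  have hsq : ∀ x ∈ A, x ^ 2 = 1 := by
    intro x hx
    induction hx using Subgroup.closure_induction with
    | mem x hx =>
      rcases hx with rfl | rfl
      · rw [← hs', pow_orderOf_eq_one]
      · rw [← ht', pow_orderOf_eq_one]
    | one => exact one_pow 2
    | mul x y hxm hym hx hy =>
      have hxy : Commute x y :=
        congrArg Subtype.val (hAc.is_comm.comm (⟨x, hxm⟩ : A) ⟨y, hym⟩)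
      rw [hxy.mul_pow, hx, hy, one_mul]
    | inv x _ hx => rw [inv_pow, hx, inv_one]
  have hp : IsPGroup 2 A := fun x => ⟨1, Subtype.ext (by simpa using hsq x x.2)⟩
  obtain ⟨R, hR⟩ := hp.exists_le_sylow
  haveI := hCa R
  haveI : Fintype R := Fintype.ofFinite _
  have hcard := IsCyclic.card_pow_eq_one_le (α := R) (n := 2) two_pos
  set s'' : R := ⟨s', hR (Subgroup.subset_closure (by simp))⟩
  set t'' : R := ⟨t', hR (Subgroup.subset_closure (by simp))⟩
  have hsub : ({1, s'', t''} : Finset R) ⊆ Finset.univ.filter fun x : R => x ^ 2 = 1 := by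
    intro x hx
    simp only [Finset.mem_insert, Finset.mem_singleton] at hx
    refine Finset.mem_filter.2 ⟨Finset.mem_univ _, ?_⟩
    rcases hx with rfl | rfl | rfl
    · exact one_pow 2
    · exact Subtype.ext (hsq s' (Subgroup.subset_closure (by simp)))
    · exact Subtype.ext (hsq t' (Subgroup.subset_closure (by simp)))
  have h3 := (Finset.card_le_card hsub).trans hcard
  have e1 : (1 : R) ≠ s'' := fun e => by
    have : s' = 1 := (congrArg Subtype.val e).symm
    rw [this, orderOf_one] at hs'; omega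
  have e2 : (1 : R) ≠ t'' := fun e => by
    have : t' = 1 := (congrArg Subtype.val e).symm
    rw [this, orderOf_one] at ht'; omega
  have e3 : s'' ≠ t'' := fun e =>
    hne (Subtype.ext (congrArg (fun x : R => ((x : H) : G)) e))
  rw [Finset.card_insert_of_notMem (by simp [e1, e2]), Finset.card_pair e3] at h3
  omega

theorem mul_mem_centralizer {G : Type u} [Group G] [Finite G]
    (hDC : RankOneCover.DihedralClassification.{u}) (L : Subgroup G) (hL : IsSimpleGroup L)
    (hLn : ¬ IsMulCommutative L)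
    (hD : ∀ P : Sylow 2 L, ∃ n : ℕ, Nonempty (↥(P : Subgroup L) ≃* DihedralGroup n))
    (a b : G) (ha : orderOf a = 2) (hb : orderOf b = 2) (hc : a * b = b * a)
    (haL : a ∈ Subgroup.normalizer (L : Set G)) (hbL : b ∈ Subgroup.normalizer (L : Set G))
    (hCa : ∀ R : Sylow 2 ↥(L ⊓ Subgroup.centralizer ({a} : Set G)), IsCyclic R)
    (hCb : ∀ R : Sylow 2 ↥(L ⊓ Subgroup.centralizer ({b} : Set G)), IsCyclic R)
    (hgen : ¬ L ≤ (L ⊓ Subgroup.centralizer ({a} : Set G)) ⊔ (L ⊓ Subgroup.centralizer ({b} : Set G))) :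
    a * b ∈ Subgroup.centralizer (L : Set G) := by
  haveI : Fact (Nat.Prime 2) := ⟨Nat.prime_two⟩
  haveI := hL
  haveI hP : Group.IsPerfect L := by
    refine ⟨(IsSimpleGroup.eq_bot_or_eq_top_of_normal (commutator L) inferInstance).resolve_left
      fun e => hLn ?_⟩
    refine ⟨⟨fun x y => ?_⟩⟩
    have : ⁅x, y⁆ ∈ commutator L := Subgroup.commutator_mem_commutator (Subgroup.mem_top x) (Subgroup.mem_top y)
    rw [e, Subgroup.mem_bot] at this
    exact commutatorElement_eq_one_iff_mul_comm.1 this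
  obtain ⟨S⟩ : Nonempty (Sylow 2 L) := inferInstance
  obtain ⟨n, ⟨eS⟩⟩ := hD S
  have hcardS : Nat.card (S : Subgroup L) = 2 * n := by
    rw [Nat.card_congr eS.toEquiv, DihedralGroup.nat_card]
  have hn0 : n ≠ 0 := by
    intro h
    rw [h, mul_zero] at hcardS
    exact (Nat.card_pos (α := (S : Subgroup L))).ne' hcardS
  have heven : Even (Nat.card L) := by
    rw [even_iff_two_dvd]
    exact (Dvd.intro n hcardS.symm).trans (Subgroup.card_subgroup_dvd_card _)
  have hn : 2 ≤ n := by
    by_contra hlt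
    have hn1 : n = 1 := by omega
    subst hn1
    haveI : IsCyclic (S : Subgroup L) := isCyclic_of_prime_card (p := 2) hcardS
    obtain ⟨H, hH⟩ := Cfsg.Agent.S0219.result heven S inferInstance
    exact RankOneCover.index_ne_two H hH
  have hO : Cfsg.oddCore L = ⊥ := by
    refine (IsSimpleGroup.eq_bot_or_eq_top_of_normal _ inferInstance).resolve_right fun e => ?_
    have h := CfsgLib.PCore.not_dvd_card_pPrimeCore (p := 2) (G := L)
    exact h (by
      show 2 ∣ Nat.card (Cfsg.oddCore L)
      rw [e, Subgroup.card_top]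
      exact even_iff_two_dvd.1 heven)
  set na : Subgroup.normalizer (L : Set G) := ⟨a, haL⟩
  set nb : Subgroup.normalizer (L : Set G) := ⟨b, hbL⟩
  set φ := L.normalizerMonoidHom
  have ha2 : φ na * φ na = 1 := by
    rw [← map_mul, show na * na = 1 from Subtype.ext (CfsgLib.Involutions.mul_self_eq_one ha),
      map_one]
  have hb2 : φ nb * φ nb = 1 := by
    rw [← map_mul, show nb * nb = 1 from Subtype.ext (CfsgLib.Involutions.mul_self_eq_one hb),
      map_one]
  have hab' : Commute (φ na) (φ nb) := (show Commute na nb from Subtype.ext hc).map φ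
  have h4a := not_hasFour L a haL hCa
  have h4b := not_hasFour L b hbL hCb
  have eL : L ⧸ Cfsg.oddCore L ≃* L :=
    (QuotientGroup.quotientMulEquivOfEq hO).trans QuotientGroup.quotientBot
  have transport : ∀ {X : Type} [Group X] (e : L ≃* X) (α : MulAut L) (x : X),
      MulAut.congr e α x = e (α (e.symm x)) := fun e α x => rfl
  rcases hDC L S n hn ⟨eS⟩ with ⟨F, _, _, hodd, h3, ⟨ψ⟩⟩ | ⟨ψ⟩
  · set e := eL.symm.trans ψ
    have h2F : (2 : F) ≠ 0 := by
      intro h
      haveI : CharP F 2 := CharTwo.of_one_ne_zero_of_two_eq_zero one_ne_zero h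
      obtain ⟨n, -, hn⟩ := FiniteField.card F 2
      rw [hn] at hodd
      exact (Nat.not_even_iff_odd.2 hodd) (Nat.even_pow.2 ⟨even_two, n.ne_zero⟩)
    haveI : Nontrivial (Matrix.ProjectiveSpecialLinearGroup (Fin 2) F) :=
      e.symm.toEquiv.nontrivial
    haveI : IsSimpleGroup (Matrix.ProjectiveSpecialLinearGroup (Fin 2) F) :=
      IsSimpleGroup.isSimpleGroup_of_surjective e.toMonoidHom e.surjective
    have hback : ∀ α : MulAut L, ¬ HasFour α → ¬ HasFour (MulAut.congr e α) := fun α h h' =>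
      h (h'.map e.symm fun x => by rw [transport, MulEquiv.symm_apply_apply])
    rcases eq_or_generate h2F h3 (α := MulAut.congr e (φ na)) (β := MulAut.congr e (φ nb))
      (by rw [← map_mul, ha2, map_one]) (by rw [← map_mul, hb2, map_one])
      (hab'.map (MulAut.congr e).toMonoidHom) (hback _ h4a) (hback _ h4b) with h | h
    · have h' : φ (na * nb) = 1 := by
        rw [map_mul, (MulAut.congr e).injective h, hb2]
      rw [← MonoidHom.mem_ker, Subgroup.normalizerMonoidHom_ker, Subgroup.mem_subgroupOf] at h'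
      exact h'
    · exfalso
      refine hgen fun x hx => ?_
      set U := (L ⊓ Subgroup.centralizer ({a} : Set G)) ⊔ (L ⊓ Subgroup.centralizer ({b} : Set G))
      have hU : Subgroup.closure ({x | MulAut.congr e (φ na) x = x} ∪
          {x | MulAut.congr e (φ nb) x = x}) ≤ U.comap (L.subtype.comp e.symm.toMonoidHom) := by
        rw [Subgroup.closure_le]
        rintro z (hz | hz)
        · refine Subgroup.mem_sup_left ⟨(e.symm z).2, Subgroup.mem_centralizer_singleton_iff.2 ?_⟩
          have hz' : φ na (e.symm z) = e.symm z := by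
            have := congrArg e.symm (show MulAut.congr e (φ na) z = z from hz)
            rwa [transport, MulEquiv.symm_apply_apply] at this
          exact (mul_inv_eq_iff_eq_mul.1 (congrArg Subtype.val hz')).symm
        · refine Subgroup.mem_sup_right ⟨(e.symm z).2, Subgroup.mem_centralizer_singleton_iff.2 ?_⟩
          have hz' : φ nb (e.symm z) = e.symm z := by
            have := congrArg e.symm (show MulAut.congr e (φ nb) z = z from hz)
            rwa [transport, MulEquiv.symm_apply_apply] at this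
          exact (mul_inv_eq_iff_eq_mul.1 (congrArg Subtype.val hz')).symm
      have := hU (h ▸ Subgroup.mem_top (e ⟨x, hx⟩))
      simpa using this
  · exfalso
    obtain ⟨ψ⟩ := ψ
    set e := eL.symm.trans ψ
    refine h4a ((hasFour_alt_seven (α := MulAut.congr e (φ na))
      (by rw [← map_mul, ha2, map_one])).map e.symm fun x => ?_)
    rw [transport, MulEquiv.symm_apply_apply]

end CfsgLib.GWCons.TwoOuter
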